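import Groth.Agent.H25Theta.Basic
import Groth.Agent.H02CA.TrivRat.EndFree
import Groth.Agent.H11Div.DualPullback
import Groth.Agent.H8Props.DivisorSection
import Groth.Agent.H11Ample.Converse
import Groth.Agent.H10Inj.SheafExt.RelExt
import Groth.Agent.H28Pinch.DirectImageTrivial
import Groth.Prelude.Def_RelCanon

/-!
# Reflexive powers under restriction and inverse images
-/

set_option autoImplicit false
set_option linter.style.haveILetI false
set_option linter.unusedSectionVars false
set_option backward.isDefEq.respectTransparency false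
set_option maxHeartbeats 1000000
set_option synthInstance.maxHeartbeats 400000

universe u

open CategoryTheory CategoryTheory.Limits AlgebraicGeometry

namespace Groth.Agent.H4Rel

open H25Theta (pb pT tI pO)
open H10Inj.SheafExt

variable {X Z : Scheme.{u}}

/-- Duals of isomorphic modules. -/
theorem nonempty_dual_congr {A B : X.Modules} (e : A ≅ B) : Nonempty (RefHull.dual A ≅ RefHull.dual B) :=
  ⟨(((homAdj A).ofNatIsoLeft ((DCoh.tensorBi (X := X)).mapIso e)).rightAdjointUniq (homAdj B)).app
    (Coh.structureModule X)⟩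

/-- Reflexive hulls of isomorphic modules. -/
theorem nonempty_ddual_congr {A B : X.Modules} (h : Nonempty (A ≅ B)) :
    Nonempty (RefHull.ddual A ≅ RefHull.ddual B) := by
  obtain ⟨e⟩ := h
  obtain ⟨e'⟩ := nonempty_dual_congr e
  exact nonempty_dual_congr e'

/-- Restriction commutes with duals. -/
theorem nonempty_restrict_dual (U : X.Opens) (F : X.Modules) :
    Nonempty ((RefHull.dual F).restrict U.ι ≅ RefHull.dual (F.restrict U.ι)) :=
  ⟨(homRestrictIso U F).app (Coh.structureModule X) ≪≫
    (homFunctor (F.restrict U.ι)).mapIso (Scheme.Modules.restrictUnitIso U.ι)⟩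

/-- Restriction commutes with reflexive hulls. -/
theorem nonempty_restrict_ddual (U : X.Opens) (F : X.Modules) :
    Nonempty ((RefHull.ddual F).restrict U.ι ≅ RefHull.ddual (F.restrict U.ι)) := by
  obtain ⟨e⟩ := nonempty_restrict_dual U (RefHull.dual F)
  obtain ⟨e'⟩ := nonempty_restrict_dual U F
  obtain ⟨e''⟩ := nonempty_dual_congr e'
  exact ⟨e ≪≫ e''⟩

/-- Tensor powers of isomorphic modules. -/
theorem nonempty_tensorPow_congr {A B : X.Modules} (e : A ≅ B) :
    ∀ n : ℕ, Nonempty (CohB1.tensorPow A n ≅ CohB1.tensorPow B n)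
  | 0 => ⟨Iso.refl _⟩
  | n + 1 => (nonempty_tensorPow_congr e n).map fun i => tI i e

/-- Inverse images commute with tensor powers. -/
theorem nonempty_pullback_tensorPow (f : Z ⟶ X) (F : X.Modules) :
    ∀ n : ℕ, Nonempty (pb f (CohB1.tensorPow F n) ≅ CohB1.tensorPow (pb f F) n)
  | 0 => ⟨pO f⟩
  | n + 1 => (nonempty_pullback_tensorPow f F n).map fun i => pT f _ _ ≪≫ tI i (Iso.refl _)

/-- Restriction commutes with tensor powers. -/
theorem nonempty_restrict_tensorPow (U : X.Opens) (F : X.Modules) (n : ℕ) :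
    Nonempty ((CohB1.tensorPow F n).restrict U.ι ≅ CohB1.tensorPow (F.restrict U.ι) n) := by
  obtain ⟨e⟩ := nonempty_pullback_tensorPow U.ι F n
  obtain ⟨e'⟩ := nonempty_tensorPow_congr ((Scheme.Modules.restrictFunctorIsoPullback U.ι).app F).symm n
  exact ⟨(Scheme.Modules.restrictFunctorIsoPullback U.ι).app _ ≪≫ e ≪≫ e'⟩

/-- Reflexive powers of isomorphic modules. -/
theorem nonempty_refPowZ_congr {A B : X.Modules} (e : A ≅ B) (m : ℤ) :
    Nonempty (RelCanon.refPowZ A m ≅ RelCanon.refPowZ B m) := by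
  cases m with
  | ofNat n => exact nonempty_ddual_congr (nonempty_tensorPow_congr e n)
  | negSucc n =>
    obtain ⟨e'⟩ := nonempty_dual_congr e
    exact nonempty_ddual_congr (nonempty_tensorPow_congr e' (n + 1))

/-- Restriction commutes with reflexive powers. -/
theorem nonempty_restrict_refPowZ (U : X.Opens) (F : X.Modules) (m : ℤ) :
    Nonempty ((RelCanon.refPowZ F m).restrict U.ι ≅ RelCanon.refPowZ (F.restrict U.ι) m) := by
  cases m with
  | ofNat n =>
    obtain ⟨e⟩ := nonempty_restrict_ddual U (CohB1.tensorPow F n)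
    obtain ⟨e'⟩ := nonempty_ddual_congr (nonempty_restrict_tensorPow U F n)
    exact ⟨e ≪≫ e'⟩
  | negSucc n =>
    obtain ⟨e⟩ := nonempty_restrict_ddual U (CohB1.tensorPow (RefHull.dual F) (n + 1))
    obtain ⟨e₁⟩ := nonempty_restrict_tensorPow U (RefHull.dual F) (n + 1)
    obtain ⟨e₀⟩ := nonempty_restrict_dual U F
    obtain ⟨e₂⟩ := nonempty_tensorPow_congr e₀ (n + 1)
    obtain ⟨e'⟩ := nonempty_ddual_congr ⟨e₁ ≪≫ e₂⟩
    exact ⟨e ≪≫ e'⟩

/-- Inverse images commute with the reflexive hull of an invertible module. -/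
theorem nonempty_pullback_ddual (f : Z ⟶ X) {L : X.Modules} (hL : PicF.IsInvertible L) :
    Nonempty (pb f (RefHull.ddual L) ≅ RefHull.ddual (pb f L)) := by
  obtain ⟨e⟩ := H11Div.nonempty_pullback_dual f (H8Props.DivisorSection.isInvertible_dual hL)
  obtain ⟨e'⟩ := H11Div.nonempty_pullback_dual f hL
  obtain ⟨e''⟩ := nonempty_dual_congr e'
  exact ⟨e ≪≫ e''⟩

/-- Inverse images commute with the reflexive powers of an invertible module. -/
theorem nonempty_pullback_refPowZ (f : Z ⟶ X) {L : X.Modules} (hL : PicF.IsInvertible L) (m : ℤ) :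
    Nonempty (pb f (RelCanon.refPowZ L m) ≅ RelCanon.refPowZ (pb f L) m) := by
  cases m with
  | ofNat n =>
    obtain ⟨e⟩ := nonempty_pullback_ddual f (H11Ample.isInvertible_tensorPow hL n)
    obtain ⟨e'⟩ := nonempty_ddual_congr (nonempty_pullback_tensorPow f L n)
    exact ⟨e ≪≫ e'⟩
  | negSucc n =>
    have hd := H8Props.DivisorSection.isInvertible_dual hL
    obtain ⟨e⟩ := nonempty_pullback_ddual f (H11Ample.isInvertible_tensorPow hd (n + 1))
    obtain ⟨e₁⟩ := nonempty_pullback_tensorPow f (RefHull.dual L) (n + 1)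
    obtain ⟨e₀⟩ := H11Div.nonempty_pullback_dual f hL
    obtain ⟨e₂⟩ := nonempty_tensorPow_congr e₀ (n + 1)
    obtain ⟨e'⟩ := nonempty_ddual_congr ⟨e₁ ≪≫ e₂⟩
    exact ⟨e ≪≫ e'⟩

/-- An invertible module is its own reflexive hull. -/
theorem nonempty_ddual_of_isInvertible {L : X.Modules} (hL : PicF.IsInvertible L) :
    Nonempty (RefHull.ddual L ≅ L) := by
  haveI := H10Inj.SheafExt.isIso_bidualMap (H28Pinch.isFinLocFree_of_isInvertible hL)
  exact ⟨(asIso (RefHull.bidualMap L)).symm⟩

end Groth.Agent.H4Rel
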