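import Groth.Agent.H4Rel.Trace
import Groth.Agent.S3603
import Groth.Agent.LeadBrown.Rel.Main
import Groth.Agent.LeadBrown.BCAdjoint
import Groth.Agent.H4RepDual.FieldVan
import Groth.Agent.H4RSH.ProperLocal
import Groth.Agent.H4RSH.ProperField
import Groth.Agent.H8Props.RelPCBaseChange
import Groth.Agent.H16Derived.BaseChange.RelFlatPull

/-!
# The relative dualizing sheaf of a Cohen–Macaulay morphism commutes with base change
-/

set_option autoImplicit false
set_option linter.style.haveILetI false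
set_option linter.unusedSectionVars false
set_option backward.isDefEq.respectTransparency false
set_option synthInstance.maxHeartbeats 400000
set_option maxHeartbeats 1000000

universe u

open CategoryTheory CategoryTheory.Limits AlgebraicGeometry
open DerivedCategory.TStructure
open Groth.Agent.H16Derived
open Groth.Agent.H16Derived.KFlat.Stalk (hasLpull rd)

attribute [local instance] HasDerivedCategory.standard

namespace Groth.Agent.H4Rel

/-- Concentration, coherence and flatness of `a(O)`. -/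
theorem concentrated {X Y : Scheme.{u}} [IsNoetherian X] [IsNoetherian Y] (f : X ⟶ Y) [IsProper f] [Flat f]
    [DCoh.HasRpush f] {hf : DCoh.RpushPreservesQCoh f} {a : DCoh.DQCoh Y ⥤ DCoh.DQCoh X}
    (adj : DCoh.RpushQ f hf ⊣ a) (O : DCoh.DQCoh Y)
    (hO : Nonempty (O.obj ≅ DCoh.inD Y (Coh.structureModule Y)))
    (hCM : ∀ x, MoreMor.IsCMAt f x) (d : ℕ)
    (hd : ∀ (y : Y) (Z : Set ↥(f.fiber y)), Z ∈ irreducibleComponents ↥(f.fiber y) →
      topologicalKrullDim ↥Z = (d : WithBot ℕ∞)) :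
    (∀ i : ℤ, i ≠ -(d : ℤ) → IsZero (DCoh.HD (a.obj O).obj i)) ∧
      Coh.IsCoh (DCoh.HD (a.obj O).obj (-(d : ℤ))) ∧
      FlatMod.IsFlatOver f (DCoh.HD (a.obj O).obj (-(d : ℤ))) := by
  haveI : ∀ (U V : Scheme.{u}) (j : U ⟶ V) [IsOpenImmersion j],
      PreservesFiniteLimits (Scheme.Modules.restrictFunctor j) := fun U V j _ => inferInstance
  let c : DEt.Compactification f :=
    { Xbar := X, j := 𝟙 X, fbar := f, isOpenImmersion := inferInstance, isProper := inferInstance,
      fac := Category.id_comp f }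
  haveI : DCoh.HasRpush c.fbar := ‹DCoh.HasRpush f›
  have hpure : ∀ x, FlatMor.localDim (f.fiber (f x)) (f.asFiber x) = (d : WithBot ℕ∞) := fun x => by
    haveI : LocallyOfFiniteType (f.fiberToSpecResidueField (f x)) :=
      inferInstanceAs (LocallyOfFiniteType (pullback.snd f (Y.fromSpecResidueField (f x))))
    exact H8Props.FieldDim.localDim_eq_of_pure (k := Y.residueField (f x)) (f.fiberToSpecResidueField (f x)) _ _ (hd (f x))
  obtain ⟨h1, h2, h3⟩ := LeadBrown.Rel.concentrated (f := f) c (hc := hf) (a := a) adj O hO hCM d hpure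
  obtain ⟨e⟩ := H4RepDual.nonempty_rd_id (a.obj O).obj
  let e' := fun i => (DerivedCategory.homologyFunctor X.Modules i).mapIso e
  exact ⟨fun i hi => (h1 i hi).of_iso (e' i).symm, H10Coh.isCoh_of_iso (e' _) h2,
    fun x => BaseChange.isFlatOverAt_of_iso (e' _) (h3 x)⟩

/-- An object with one cohomology sheaf. -/
theorem nonempty_iso_single {X : Scheme.{u}} {K : DCoh.D X} {n : ℤ}
    (h : ∀ i : ℤ, i ≠ n → IsZero (DCoh.HD K i)) :
    Nonempty (K ≅ (DerivedCategory.singleFunctor X.Modules n).obj (DCoh.HD K n)) := by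
  haveI : K.IsGE n := (DerivedCategory.isGE_iff _ _).2 fun i hi => h i hi.ne
  haveI : K.IsLE n := (DerivedCategory.isLE_iff _ _).2 fun i hi => h i hi.ne'
  obtain ⟨N, ⟨e⟩⟩ := K.exists_iso_singleFunctor_obj_of_isGE_of_isLE n
  exact ⟨e ≪≫ (DerivedCategory.singleFunctor X.Modules n).mapIso
    (((DerivedCategory.singleFunctorCompHomologyFunctorIso X.Modules n).app N).symm ≪≫
      (DerivedCategory.homologyFunctor X.Modules n).mapIso e.symm)⟩

/-- Derived pullback of a module flat over the base, in one degree. -/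
theorem nonempty_lpull_single {X Y X' Y' : Scheme.{u}} {f : X ⟶ Y} {g : Y' ⟶ Y} {f' : X' ⟶ Y'} {g' : X' ⟶ X}
    (h : IsPullback g' f' f g) [Flat f] [DCoh.HasLpull g'] (M : X.Modules) (hM : FlatMod.IsFlatOver f M) (n : ℤ) :
    Nonempty ((DCoh.Lpull g').obj ((DerivedCategory.singleFunctor X.Modules n).obj M) ≅
      (DerivedCategory.singleFunctor X'.Modules n).obj ((Scheme.Modules.pullback g').obj M)) := by
  let E := (CochainComplex.singleFunctor X.Modules n).obj M
  have hE : DCoh.VanishesOutside E n n := fun q hq =>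
    HomologicalComplex.isZero_single_obj_X _ _ _ _ (by omega)
  have hflat : ∀ i, FlatMod.IsFlatOver f (E.X i) := fun i x => by
    by_cases hi : i = n
    · subst hi
      exact BaseChange.isFlatOverAt_of_iso (HomologicalComplex.singleObjXSelf (ComplexShape.up ℤ) i M).symm (hM x)
    · exact BaseChange.isFlatOver_of_isFlat f (KFlat.Stalk.isFlat_of_isFinLocFree
        (KFlat.Stalk.isFinLocFree_of_isZero (HomologicalComplex.isZero_single_obj_X _ _ _ _ hi))) x
  obtain ⟨e⟩ := BaseChange.nonempty_lpull_of_flatOver h E hE hflat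
  exact ⟨(DCoh.Lpull g').mapIso ((DerivedCategory.singleFunctorIsoCompQ X.Modules n).app M) ≪≫ e ≪≫
    DerivedCategory.Q.mapIso ((HomologicalComplex.singleMapHomologicalComplex (Scheme.Modules.pullback g')
      (ComplexShape.up ℤ) n).app M) ≪≫ ((DerivedCategory.singleFunctorIsoCompQ X'.Modules n).app _).symm⟩

theorem isDualizingSheaf_of_iso {A : Type u} [CommRing A] {Y : Scheme.{u}} [Y.Over (Spec (CommRingCat.of A))] {d : ℕ}
    {ω ω' : Y.Modules} (e : ω ≅ ω') (h : RelCanon.IsDualizingSheaf A Y d ω) :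
    RelCanon.IsDualizingSheaf A Y d ω' := by
  obtain ⟨t, hq, ht⟩ := h
  refine ⟨t ∘ₗ Canon.HHlin A e.inv d, (haveI : ω.IsQuasicoherent := hq; H10Coh.isQuasicoherent_of_iso e), fun F hF => ?_⟩
  have heq : Canon.dualityMap A Y d ω' (t ∘ₗ Canon.HHlin A e.inv d) F =
      Canon.dualityMap A Y d ω t F ∘ fun φ => φ ≫ e.inv := by
    funext φ
    show (t ∘ₗ Canon.HHlin A e.inv d) ∘ₗ Canon.HHlin A φ d = t ∘ₗ Canon.HHlin A (φ ≫ e.inv) d
    rw [LinearMap.comp_assoc, H29Serre.lin_comp]
  rw [heq]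
  exact (ht F hF).comp e.symm.homToEquiv.bijective

section Main

variable (A : Type u) [CommRing A] [IsNoetherianRing A] (Y : Scheme.{u}) [Y.Over (Spec (CommRingCat.of A))]
  [IsProper (Y ↘ Spec (CommRingCat.of A))] (d : ℕ)
  (hCM : ∀ y : Y, MoreMor.IsCMAt (Y ↘ Spec (CommRingCat.of A)) y)
  (hd : Cyc.HasRelDim (Y ↘ Spec (CommRingCat.of A)) d) {ω : Y.Modules}
  (hω : RelCanon.IsDualizingSheaf A Y d ω)

include hCM hd hω in
/-- The sheaf `ω` is `H^{-d}` of a concentrated `a(O)`. -/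
theorem exists_model [DCoh.HasRpush (Y ↘ Spec (CommRingCat.of A))] [Flat (Y ↘ Spec (CommRingCat.of A))]
    {hf : DCoh.RpushPreservesQCoh (Y ↘ Spec (CommRingCat.of A))}
    {a : DCoh.DQCoh (Spec (CommRingCat.of A)) ⥤ DCoh.DQCoh Y}
    (adj : DCoh.RpushQ (Y ↘ Spec (CommRingCat.of A)) hf ⊣ a) (O : DCoh.DQCoh (Spec (CommRingCat.of A)))
    (hO : Nonempty (O.obj ≅ DCoh.inD (Spec (CommRingCat.of A)) (Coh.structureModule (Spec (CommRingCat.of A))))) :
    Nonempty ((a.obj O).obj ≅ (DerivedCategory.singleFunctor Y.Modules (-(d : ℤ))).obj ω) ∧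
      Coh.IsCoh ω ∧ FlatMod.IsFlatOver (Y ↘ Spec (CommRingCat.of A)) ω := by
  haveI : CompactSpace Y := QuasiCompact.compactSpace_of_compactSpace (Y ↘ Spec (CommRingCat.of A))
  haveI : IsLocallyNoetherian Y := LocallyOfFiniteType.isLocallyNoetherian (Y ↘ Spec (CommRingCat.of A))
  haveI : IsNoetherian Y := { }
  obtain ⟨h1, h2, h3⟩ := concentrated (Y ↘ Spec (CommRingCat.of A)) adj O hO hCM d hd
  have h4 := isDualizingSheaf_rightAdjoint A Y adj O hO d
    fun y => H4RSH.ProperLocal.dim_le_of_components fun Z hZ => (hd y Z hZ).le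
  obtain ⟨e⟩ := nonempty_iso_of_isDualizingSheaf A Y h4 hω
  obtain ⟨e'⟩ := nonempty_iso_single h1
  exact ⟨⟨e' ≪≫ (DerivedCategory.singleFunctor Y.Modules _).mapIso e⟩, H10Coh.isCoh_of_iso e h2,
    fun x => BaseChange.isFlatOverAt_of_iso e (h3 x)⟩

theorem flat_of_isCMAt (hCM : ∀ y : Y, MoreMor.IsCMAt (Y ↘ Spec (CommRingCat.of A)) y) :
    Flat (Y ↘ Spec (CommRingCat.of A)) :=
  (Flat.iff_flat_stalkMap _).2 fun y => (hCM y).1

include hCM hd hω in
/-- Coherent and flat over the base. -/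
theorem isCoh_and_isFlatOver : Coh.IsCoh ω ∧ FlatMod.IsFlatOver (Y ↘ Spec (CommRingCat.of A)) ω := by
  haveI := flat_of_isCMAt A Y hCM
  haveI := QCohD.hasRpush (Y ↘ Spec (CommRingCat.of A))
  haveI : CompactSpace Y := QuasiCompact.compactSpace_of_compactSpace (Y ↘ Spec (CommRingCat.of A))
  haveI : QuasiSeparatedSpace Y := quasiSeparatedSpace_of_quasiSeparated (Y ↘ Spec (CommRingCat.of A))
  obtain ⟨hf, a, ⟨adj⟩⟩ := exists_rightAdjoint (Y ↘ Spec (CommRingCat.of A))
  obtain ⟨O, hO⟩ := exists_unit_obj A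
  exact (exists_model A Y d hCM hd hω adj O hO).2

include hCM hd hω in
/-- Base change of `a(O)` to any Noetherian affine base. -/
theorem exists_bc {B : Type u} [CommRing B] [IsNoetherianRing B] {g : Spec (CommRingCat.of B) ⟶ Spec (CommRingCat.of A)}
    {Y' : Scheme.{u}} [Y'.Over (Spec (CommRingCat.of B))] {p : Y' ⟶ Y}
    (hp : IsPullback p (Y' ↘ Spec (CommRingCat.of B)) (Y ↘ Spec (CommRingCat.of A)) g) :
    ∃ (_ : DCoh.HasRpush (Y' ↘ Spec (CommRingCat.of B)))
      (hf' : DCoh.RpushPreservesQCoh (Y' ↘ Spec (CommRingCat.of B)))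
      (a' : DCoh.DQCoh (Spec (CommRingCat.of B)) ⥤ DCoh.DQCoh Y')
      (_ : DCoh.RpushQ (Y' ↘ Spec (CommRingCat.of B)) hf' ⊣ a') (O' : DCoh.DQCoh (Spec (CommRingCat.of B))),
      Nonempty (O'.obj ≅ DCoh.inD (Spec (CommRingCat.of B)) (Coh.structureModule (Spec (CommRingCat.of B)))) ∧
      Nonempty ((a'.obj O').obj ≅
        (DerivedCategory.singleFunctor Y'.Modules (-(d : ℤ))).obj ((Scheme.Modules.pullback p).obj ω)) := by
  let f := Y ↘ Spec (CommRingCat.of A)
  let f' := Y' ↘ Spec (CommRingCat.of B)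
  haveI := flat_of_isCMAt A Y hCM
  haveI : IsProper f' := MorphismProperty.of_isPullback (P := @IsProper) hp inferInstance
  haveI : CompactSpace Y := QuasiCompact.compactSpace_of_compactSpace f
  haveI : QuasiSeparatedSpace Y := quasiSeparatedSpace_of_quasiSeparated f
  haveI : CompactSpace Y' := QuasiCompact.compactSpace_of_compactSpace f'
  haveI : QuasiSeparatedSpace Y' := quasiSeparatedSpace_of_quasiSeparated f'
  haveI : IsLocallyNoetherian Y := LocallyOfFiniteType.isLocallyNoetherian f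
  haveI : LocallyOfFinitePresentation f := inferInstance
  haveI := QCohD.hasRpush f
  haveI := QCohD.hasRpush f'
  haveI := QCohD.hasRpush g
  haveI := QCohD.hasRpush p
  haveI := hasLpull g
  haveI := hasLpull p
  obtain ⟨hf, a, ⟨adj⟩⟩ := exists_rightAdjoint f
  obtain ⟨hf', a', ⟨adj'⟩⟩ := exists_rightAdjoint f'
  haveI : QuasiCompact p := quasiCompact_of_compactSpace p
  have hg : DCoh.RpushPreservesQCoh g := fun K hK => QCohD.isQCohD_rpush g hK
  have hg' : DCoh.RpushPreservesQCoh p := fun K hK => QCohD.isQCohD_rpush p hK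
  have hLg : Dual3.LpullPreservesQCoh g := fun K hK => QCohD.isQCohD_lpull g hK
  have hLg' : Dual3.LpullPreservesQCoh p := fun K hK => QCohD.isQCohD_lpull p hK
  let adjg := LeadBrown.adjQ g hLg hg
  let adjg' := LeadBrown.adjQ p hLg' hg'
  obtain ⟨O, hO⟩ := exists_unit_obj A
  obtain ⟨e, hξ, hK⟩ := S3603.result Y (Spec (CommRingCat.of A)) Y' (Spec (CommRingCat.of B)) f g f' p hp
    hf hf' hg hg' a a' adj adj' hLg hLg' adjg adjg'
  haveI := hK O
  let b := (ObjectProperty.ι _).mapIso (asIso (Dual3.bcMap adj adj' e adjg adjg' O (hξ _)))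
  obtain ⟨⟨eω⟩, -, hflat⟩ := exists_model A Y d hCM hd hω adj O hO
  obtain ⟨eL⟩ := nonempty_lpull_single hp ω hflat (-(d : ℤ))
  obtain ⟨eU⟩ := H8Props.RelPC.nonempty_lpull_unit g
  obtain ⟨eO⟩ := hO
  refine ⟨inferInstance, hf', a', adj', (Dual3.LpullQ g hLg).obj O,
    ⟨(DCoh.Lpull g).mapIso (eO ≪≫ KFlat.Stalk.inDIsoQ _) ≪≫ eU ≪≫ (KFlat.Stalk.inDIsoQ _).symm⟩,
    ⟨b.symm ≪≫ (DCoh.Lpull p).mapIso eω ≪≫ eL⟩⟩

include hCM hd hω in
/-- The relative dualizing sheaf commutes with base change. -/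
theorem commutesWithBaseChangeNoeth : RelCanon.CommutesWithBaseChangeNoeth A Y d ω := by
  intro B _ _ φ Y' _ p hp
  obtain ⟨_, hf', a', adj', O', hO', ⟨e⟩⟩ := exists_bc A Y d hCM hd hω hp
  haveI : IsProper (Y' ↘ Spec (CommRingCat.of B)) := MorphismProperty.of_isPullback (P := @IsProper) hp inferInstance
  have h := isDualizingSheaf_rightAdjoint B Y' adj' O' hO' d fun y' => by
    rw [H8Props.FieldDim.dim_fiber_baseChange (Y ↘ Spec (CommRingCat.of A)) hp y']
    exact H4RSH.ProperLocal.dim_le_of_components fun Z hZ => (hd _ Z hZ).le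
  exact isDualizingSheaf_of_iso ((DerivedCategory.homologyFunctor Y'.Modules _).mapIso e ≪≫
    (DerivedCategory.singleFunctorCompHomologyFunctorIso Y'.Modules _).app _) h

end Main

end Groth.Agent.H4Rel
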