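import Groth.Agent.H4Rel.Open
import Groth.Agent.H12AlgSp.TrdegBaseChange

/-!
# Base change of the relative dualizing sheaf over the Cohen–Macaulay locus
-/

set_option autoImplicit false
set_option linter.style.haveILetI false
set_option linter.unusedSectionVars false
set_option backward.isDefEq.respectTransparency false
set_option maxHeartbeats 2000000
set_option synthInstance.maxHeartbeats 400000

universe u

open CategoryTheory CategoryTheory.Limits AlgebraicGeometry
open Groth.Agent.H16Derived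
open Groth.Agent.H16Derived.KFlat.Stalk (hasLpull rd)

attribute [local instance] HasDerivedCategory.standard

namespace Groth.Agent.H4Rel

/-- Coherent modules of depth two off an open are determined by the open. -/
theorem nonempty_iso_of_restrict {X : Scheme.{u}} [IsNoetherian X] (U : X.Opens) {F G : X.Modules}
    (hF : Coh.IsCoh F) (hG : Coh.IsCoh G)
    (dF : ∀ x : X, x ∉ U → (2 : ℕ∞) ≤ LocCoh.depth (X.presheaf.stalk x) (F.presheaf.stalk x))
    (dG : ∀ x : X, x ∉ U → (2 : ℕ∞) ≤ LocCoh.depth (X.presheaf.stalk x) (G.presheaf.stalk x))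
    (e : Nonempty (F.restrict U.ι ≅ G.restrict U.ι)) : Nonempty (F ≅ G) := by
  obtain ⟨e⟩ := e
  haveI := H4PushUniv.isIso_unit U F hF dF
  haveI := H4PushUniv.isIso_unit U G hG dG
  exact ⟨asIso ((Scheme.Modules.restrictAdjunction U.ι).unit.app F) ≪≫
    (Scheme.Modules.pushforward U.ι).mapIso e ≪≫ (asIso ((Scheme.Modules.restrictAdjunction U.ι).unit.app G)).symm⟩

/-- Restriction of an inverse image to the preimage of an open. -/
theorem nonempty_restrict_pullback {X Y : Scheme.{u}} (p : X ⟶ Y) (U : Y.Opens) (M : Y.Modules) :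
    Nonempty (((Scheme.Modules.pullback p).obj M).restrict (p ⁻¹ᵁ U).ι ≅
      (Scheme.Modules.pullback (p ∣_ U)).obj (M.restrict U.ι)) :=
  ⟨(Scheme.Modules.restrictFunctorIsoPullback (p ⁻¹ᵁ U).ι).app _ ≪≫
    (Scheme.Modules.pullbackComp (p ⁻¹ᵁ U).ι p).app M ≪≫
    (Scheme.Modules.pullbackCongr (morphismRestrict_ι p U).symm).app M ≪≫
    ((Scheme.Modules.pullbackComp (p ∣_ U) U.ι).app M).symm ≪≫
    (Scheme.Modules.pullback (p ∣_ U)).mapIso ((Scheme.Modules.restrictFunctorIsoPullback U.ι).app M).symm⟩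

variable (A : Type u) [CommRing A] [IsNoetherianRing A] (Y : Scheme.{u}) [Y.Over (Spec (CommRingCat.of A))]
  [IsProper (Y ↘ Spec (CommRingCat.of A))] (d : ℕ)
  (hflat : Flat (Y ↘ Spec (CommRingCat.of A)))
  (hd : Cyc.HasRelDim (Y ↘ Spec (CommRingCat.of A)) d) {ω : Y.Modules}
  (hω : RelCanon.IsDualizingSheaf A Y d ω)
  {B : Type u} [CommRing B] [IsNoetherianRing B] {g : Spec (CommRingCat.of B) ⟶ Spec (CommRingCat.of A)}
  {Y' : Scheme.{u}} [Y'.Over (Spec (CommRingCat.of B))] {p : Y' ⟶ Y}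
  (hp : IsPullback p (Y' ↘ Spec (CommRingCat.of B)) (Y ↘ Spec (CommRingCat.of A)) g)

include hflat hd hω hp in
/-- The dualizing sheaf of the base change is the inverse image of `ω` over the Cohen–Macaulay points. -/
theorem nonempty_restrict_bc (U : Y.Opens) (hU : ∀ y ∈ U, MoreMor.IsCMAt (Y ↘ Spec (CommRingCat.of A)) y)
    {ω' : Y'.Modules} (hω' : RelCanon.IsDualizingSheaf B Y' d ω') :
    Nonempty (((Scheme.Modules.pullback p).obj ω).restrict (p ⁻¹ᵁ U).ι ≅ ω'.restrict (p ⁻¹ᵁ U).ι) := by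
  let f := Y ↘ Spec (CommRingCat.of A)
  let f' := Y' ↘ Spec (CommRingCat.of B)
  haveI : Flat f := hflat
  haveI : IsProper f' := MorphismProperty.of_isPullback (P := @IsProper) hp inferInstance
  haveI : CompactSpace Y := QuasiCompact.compactSpace_of_compactSpace f
  haveI : QuasiSeparatedSpace Y := quasiSeparatedSpace_of_quasiSeparated f
  haveI : CompactSpace Y' := QuasiCompact.compactSpace_of_compactSpace f'
  haveI : QuasiSeparatedSpace Y' := quasiSeparatedSpace_of_quasiSeparated f'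
  haveI := isNoetherian_of_proper A Y
  haveI : LocallyOfFinitePresentation f := inferInstance
  haveI : ∀ (U V : Scheme.{u}) (j : U ⟶ V) [IsOpenImmersion j],
      PreservesFiniteLimits (Scheme.Modules.restrictFunctor j) := fun U V j _ => inferInstance
  haveI := QCohD.hasRpush f
  haveI := QCohD.hasRpush f'
  haveI := QCohD.hasRpush g
  haveI := QCohD.hasRpush p
  haveI := hasLpull g
  haveI := hasLpull p
  obtain ⟨hf, a, ⟨adj⟩⟩ := exists_rightAdjoint f
  obtain ⟨hf', a', ⟨adj'⟩⟩ := exists_rightAdjoint f'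
  haveI : QuasiCompact p := quasiCompact_of_compactSpace p
  have hg : DCoh.RpushPreservesQCoh g := fun K hK => QCohD.isQCohD_rpush g hK
  have hg' : DCoh.RpushPreservesQCoh p := fun K hK => QCohD.isQCohD_rpush p hK
  have hLg : Dual3.LpullPreservesQCoh g := fun K hK => QCohD.isQCohD_lpull g hK
  have hLg' : Dual3.LpullPreservesQCoh p := fun K hK => QCohD.isQCohD_lpull p hK
  obtain ⟨O, hO⟩ := exists_unit_obj A
  obtain ⟨e, hξ, hK⟩ := S3603.result Y (Spec (CommRingCat.of A)) Y' (Spec (CommRingCat.of B)) f g f' p hp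
    hf hf' hg hg' a a' adj adj' hLg hLg' (LeadBrown.adjQ g hLg hg) (LeadBrown.adjQ p hLg' hg')
  haveI := hK O
  let b := (ObjectProperty.ι _).mapIso (asIso (Dual3.bcMap adj adj' e (LeadBrown.adjQ g hLg hg) (LeadBrown.adjQ p hLg' hg') O (hξ _)))
  obtain ⟨eU⟩ := H8Props.RelPC.nonempty_lpull_unit g
  have hO' : Nonempty (((Dual3.LpullQ g hLg).obj O).obj ≅
      DCoh.inD (Spec (CommRingCat.of B)) (Coh.structureModule (Spec (CommRingCat.of B)))) :=
    hO.map fun eO => (DCoh.Lpull g).mapIso (eO ≪≫ KFlat.Stalk.inDIsoQ _) ≪≫ eU ≪≫ (KFlat.Stalk.inDIsoQ _).symm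
  have h4 := isDualizingSheaf_rightAdjoint B Y' adj' ((Dual3.LpullQ g hLg).obj O) hO' d fun y' => by
    rw [H8Props.FieldDim.dim_fiber_baseChange f hp y']
    exact H4RSH.ProperLocal.dim_le_of_components fun Z hZ => (hd _ Z hZ).le
  obtain ⟨e0'⟩ := nonempty_iso_of_isDualizingSheaf B Y' h4 hω'
  obtain ⟨⟨eK⟩, hflatU⟩ := exists_single_on_open A Y d hflat hd hω adj O hO U hU
  let U' := p ⁻¹ᵁ U
  haveI := hasLpull (p ∣_ U)
  obtain ⟨eF⟩ := QCohD.lpull_factor p U'.ι (p ∣_ U) U.ι (morphismRestrict_ι p U) (a.obj O).obj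
  haveI : Flat (U.ι ≫ f) := inferInstance
  obtain ⟨eL⟩ := nonempty_lpull_single ((isPullback_morphismRestrict p U).paste_vert hp)
    (ω.restrict U.ι) hflatU (-(d : ℤ))
  obtain ⟨eR⟩ := nonempty_restrict_pullback p U ω
  exact ⟨eR ≪≫
    ((DerivedCategory.singleFunctorCompHomologyFunctorIso _ (-(d : ℤ))).app _).symm ≪≫
    (DerivedCategory.homologyFunctor _ (-(d : ℤ))).mapIso
      (eL.symm ≪≫ (DCoh.Lpull (p ∣_ U)).mapIso eK.symm ≪≫ eF.symm ≪≫ (rd U'.ι).mapIso b) ≪≫
    H4DualSch.hdRestrict U'.ι _ _ ≪≫ (Scheme.Modules.restrictFunctor U'.ι).mapIso e0'⟩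

include hd hp in
/-- Local dimensions of fibres do not drop under base change. -/
theorem fibDim_le (y' : Y') : fibDim A Y (p y') ≤ fibDim B Y' y' := by
  let f := Y ↘ Spec (CommRingCat.of A)
  let f' := Y' ↘ Spec (CommRingCat.of B)
  haveI : IsProper f' := MorphismProperty.of_isPullback (P := @IsProper) hp inferInstance
  obtain ⟨t, ht, hdim⟩ := resTrdeg_bounds f d hd (p y')
  obtain ⟨t', ht', hdim'⟩ := resTrdeg_bounds f' d (hasRelDim_of_isPullback hp hd) y'
  have hle : t' ≤ t := by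
    have h : (t' : Cardinal.{u}) ≤ (t : Cardinal.{u}) :=
      ht'.symm.trans_le ((H12AlgSp.resTrdeg_baseChange_le hp y').trans_eq ht)
    exact_mod_cast h
  have h3 : fibDim A Y (p y') + (t : WithBot ℕ∞) = fibDim B Y' y' + t' := hdim.trans hdim'.symm
  have h4 : fibDim A Y (p y') + (t' : WithBot ℕ∞) ≤ fibDim B Y' y' + t' :=
    le_of_le_of_eq (add_le_add le_rfl (by exact_mod_cast hle)) h3
  revert h4
  generalize fibDim A Y (p y') = a
  generalize fibDim B Y' y' = b
  intro h4
  induction a using WithBot.recBotCoe with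
  | bot => exact bot_le
  | coe a =>
    induction b using WithBot.recBotCoe with
    | bot => exact absurd h4 (by rw [WithBot.bot_add]; exact WithBot.not_coe_le_bot _ ∘ le_trans (le_of_eq (WithBot.coe_add a (t' : ℕ∞))))
    | coe b =>
      have h5 : a + (t' : ℕ∞) ≤ b + (t' : ℕ∞) := by exact_mod_cast h4
      exact WithBot.coe_le_coe.2 ((ENat.add_le_add_iff_right (ENat.natCast_ne_top t')).1 h5)

end Groth.Agent.H4Rel
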