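import Groth.Agent.H4Rel.CM
import Groth.Agent.S3637
import Groth.Agent.LeadBrown.Rel.Gorenstein
import Groth.Agent.H06EGA9.FlatFibreBC
import Groth.Agent.H06Mod.StalkFinite
import Groth.Agent.H8Norm.FlatMono.Transport

/-!
# The fibres of the relative dualizing sheaf of a Cohen–Macaulay morphism
-/

set_option autoImplicit false
set_option linter.style.haveILetI false
set_option linter.unusedSectionVars false
set_option backward.isDefEq.respectTransparency false
set_option synthInstance.maxHeartbeats 400000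
set_option maxHeartbeats 1000000

universe u

open CategoryTheory CategoryTheory.Limits AlgebraicGeometry
open Groth.Agent.H16Derived

attribute [local instance] HasDerivedCategory.standard

namespace Groth.Agent.H4Rel

/-- A Cohen–Macaulay module satisfies every `(S_k)`. -/
theorem hasSk_of_isCM {L : Type u} [CommRing L] [IsNoetherianRing L] [IsLocalRing L] (k : ℕ) (N : Type u)
    [AddCommGroup N] [Module L N] [Module.Finite L N] (h : LocCoh.IsCohenMacaulayModule L N) :
    LocCoh.HasSk k L N := fun p hp => by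
  by_cases hmem : (⟨p, hp⟩ : PrimeSpectrum L) ∈ Module.support L N
  · exact (min_le_right _ _).trans_eq (H4Depth.IsCM.localization h p hmem).1
  · haveI : Subsingleton (LocalizedModule p.primeCompl N) := Module.notMem_support_iff.1 hmem
    rw [Module.supportDim_eq_bot_of_subsingleton]
    simp

variable (A : Type u) [CommRing A] [IsNoetherianRing A] (Y : Scheme.{u}) [Y.Over (Spec (CommRingCat.of A))]
  [IsProper (Y ↘ Spec (CommRingCat.of A))] (d : ℕ)
  (hCM : ∀ y : Y, MoreMor.IsCMAt (Y ↘ Spec (CommRingCat.of A)) y)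
  (hd : Cyc.HasRelDim (Y ↘ Spec (CommRingCat.of A)) d) {ω : Y.Modules}
  (hω : RelCanon.IsDualizingSheaf A Y d ω)

include hCM hd hω in
/-- The restriction to a fibre is its dualizing sheaf. -/
theorem isDualizingSheafFib (t : Spec (CommRingCat.of A)) :
    RelCanon.IsDualizingSheafFib (Y ↘ Spec (CommRingCat.of A)) d ω t := by
  let f := Y ↘ Spec (CommRingCat.of A)
  letI : (f.fiber t).Over (Spec (CommRingCat.of ((Spec (CommRingCat.of A)).residueField t))) :=
    ⟨f.fiberToSpecResidueField t⟩
  show RelCanon.IsDualizingSheaf _ (f.fiber t) d ((Scheme.Modules.pullback (f.fiberι t)).obj ω)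
  have hp : IsPullback (f.fiberι t) (f.fiber t ↘ Spec (CommRingCat.of ((Spec (CommRingCat.of A)).residueField t)))
      f ((Spec (CommRingCat.of A)).fromSpecResidueField t) := IsPullback.of_hasPullback _ _
  obtain ⟨_, hf', a', adj', O', hO', ⟨e⟩⟩ := exists_bc A Y d hCM hd hω hp
  haveI : IsProper (f.fiber t ↘ Spec (CommRingCat.of ((Spec (CommRingCat.of A)).residueField t))) :=
    MorphismProperty.of_isPullback (P := @IsProper) hp inferInstance
  have h := isDualizingSheaf_rightAdjoint _ (f.fiber t) adj' O' hO' d fun y' => by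
    rw [H8Props.FieldDim.dim_fiber_baseChange f hp y']
    exact H4RSH.ProperLocal.dim_le_of_components fun Z hZ => (hd _ Z hZ).le
  exact isDualizingSheaf_of_iso ((DerivedCategory.homologyFunctor (f.fiber t).Modules _).mapIso e ≪≫
    (DerivedCategory.singleFunctorCompHomologyFunctorIso (f.fiber t).Modules _).app _) h

include hCM hd hω in
/-- On a fibre: nonzero Cohen–Macaulay stalks. -/
theorem fibre_stalk (t : Spec (CommRingCat.of A)) (z : (Y ↘ Spec (CommRingCat.of A)).fiber t) :
    Nontrivial (((Scheme.Modules.pullback ((Y ↘ Spec (CommRingCat.of A)).fiberι t)).obj ω).presheaf.stalk z) ∧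
      Module.Finite (((Y ↘ Spec (CommRingCat.of A)).fiber t).presheaf.stalk z)
        (((Scheme.Modules.pullback ((Y ↘ Spec (CommRingCat.of A)).fiberι t)).obj ω).presheaf.stalk z) ∧
      LocCoh.IsCohenMacaulayModule (((Y ↘ Spec (CommRingCat.of A)).fiber t).presheaf.stalk z)
        (((Scheme.Modules.pullback ((Y ↘ Spec (CommRingCat.of A)).fiberι t)).obj ω).presheaf.stalk z) := by
  let f := Y ↘ Spec (CommRingCat.of A)
  letI : (f.fiber t).Over (Spec (CommRingCat.of ((Spec (CommRingCat.of A)).residueField t))) :=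
    ⟨f.fiberToSpecResidueField t⟩
  have hp : IsPullback (f.fiberι t) (f.fiber t ↘ Spec (CommRingCat.of ((Spec (CommRingCat.of A)).residueField t)))
      f ((Spec (CommRingCat.of A)).fromSpecResidueField t) := IsPullback.of_hasPullback _ _
  obtain ⟨_, hf', a', adj', O', hO', ⟨e⟩⟩ := exists_bc A Y d hCM hd hω hp
  haveI : IsProper (f.fiber t ↘ Spec (CommRingCat.of ((Spec (CommRingCat.of A)).residueField t))) :=
    MorphismProperty.of_isPullback (P := @IsProper) hp inferInstance
  haveI : IsLocallyNoetherian (f.fiber t) :=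
    LocallyOfFiniteType.isLocallyNoetherian (f.fiber t ↘ Spec (CommRingCat.of ((Spec (CommRingCat.of A)).residueField t)))
  haveI : CompactSpace Y := QuasiCompact.compactSpace_of_compactSpace f
  haveI : IsLocallyNoetherian Y := LocallyOfFiniteType.isLocallyNoetherian f
  haveI : IsNoetherian Y := { }
  have hloc : ∀ z : f.fiber t, LocCoh.IsCohenMacaulayLocalRing ((f.fiber t).presheaf.stalk z) :=
    LeadBrown.Rel.forall_fiber f (P := fun s z => LocCoh.IsCohenMacaulayLocalRing ((f.fiber s).presheaf.stalk z))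
      (fun x => (hCM x).2) t
  obtain ⟨-, hcoh, h3⟩ := S3637.result _ (f.fiber t) _ hloc d (hd t) hf' a' adj' O' hO'
  let i := (DerivedCategory.homologyFunctor (f.fiber t).Modules (-(d : ℤ))).mapIso e ≪≫
    (DerivedCategory.singleFunctorCompHomologyFunctorIso (f.fiber t).Modules _).app _
  let l := H06EGA9.stalkIso i z
  refine ⟨(@Equiv.nontrivial _ _ l.toEquiv.symm (h3 z).1), ?_, ?_⟩
  · haveI := H06Mod.finite_stalk _ hcoh.2 z
    exact Module.Finite.equiv l
  · exact ((Module.supportDim_eq_of_equiv l).symm.trans (h3 z).2).trans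
      (congrArg (fun e : ℕ∞ => (e : WithBot ℕ∞)) (H4Depth.depth_congr l))

include hCM hd hω in
/-- Full support. -/
theorem support_eq_univ : CohB1.support ω = Set.univ := Set.eq_univ_of_forall fun y hy => by
  let f := Y ↘ Spec (CommRingCat.of A)
  haveI : Subsingleton (ω.presheaf.stalk ((f.fiberι (f y)).base (f.asFiber y))) := by
    rw [Scheme.Hom.fiberι_asFiber]; exact hy
  exact not_subsingleton_iff_nontrivial.2 (fibre_stalk A Y d hCM hd hω (f y) (f.asFiber y)).1
    (H8Norm.FlatMono.subsingleton_stalk_pullback (f.fiberι (f y)) ω this)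

include hCM hd hω in
/-- Gorenstein exactly where invertible. -/
theorem gorenstein_iff_invertibleAt (y : Y) :
    Dual3.IsGorensteinAt (Y ↘ Spec (CommRingCat.of A)) y ↔ RelCanon.InvertibleAt ω y := by
  let f := Y ↘ Spec (CommRingCat.of A)
  haveI := flat_of_isCMAt A Y hCM
  haveI := QCohD.hasRpush f
  haveI : CompactSpace Y := QuasiCompact.compactSpace_of_compactSpace f
  haveI : QuasiSeparatedSpace Y := quasiSeparatedSpace_of_quasiSeparated f
  haveI : IsLocallyNoetherian Y := LocallyOfFiniteType.isLocallyNoetherian f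
  haveI : IsNoetherian Y := { }
  haveI : LocallyOfFinitePresentation f := inferInstance
  haveI : ∀ (U V : Scheme.{u}) (j : U ⟶ V) [IsOpenImmersion j],
      PreservesFiniteLimits (Scheme.Modules.restrictFunctor j) := fun U V j _ => inferInstance
  haveI : ∀ (R : CommRingCat.{u}), PreservesFiniteLimits (tilde.functor R) := inferInstance
  haveI : ∀ t : (Spec (CommRingCat.of A) : Scheme.{u}), DCoh.HasLpull (f.fiberι t) := fun t => KFlat.Stalk.hasLpull _
  have hperf := H8Props.PseudoCoh.isPerfectMor_of_flat f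
  obtain ⟨hf, a, ⟨adj⟩⟩ := exists_rightAdjoint f
  obtain ⟨O, hO⟩ := exists_unit_obj A
  obtain ⟨⟨eω⟩, -, -⟩ := exists_model A Y d hCM hd hω adj O hO
  obtain ⟨eO⟩ := hO
  let c : DEt.Compactification f :=
    { Xbar := Y, j := 𝟙 Y, fbar := f, isOpenImmersion := inferInstance, isProper := inferInstance,
      fac := Category.id_comp f }
  haveI : DCoh.HasRpush c.fbar := ‹DCoh.HasRpush f›
  obtain ⟨eid⟩ := H4RepDual.nonempty_rd_id (a.obj O).obj
  let eK := eid ≪≫ eω
  have rdSingle : ∀ {U : Scheme.{u}} (l : U ⟶ Y) [IsOpenImmersion l],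
      Nonempty ((KFlat.Stalk.rd l).obj ((KFlat.Stalk.rd c.j).obj (a.obj O).obj) ≅
        (DerivedCategory.singleFunctor U.Modules (-(d : ℤ))).obj ((Scheme.Modules.restrictFunctor l).obj ω)) :=
    fun l _ => ⟨(KFlat.Stalk.rd l).mapIso eK ≪≫
      ((Scheme.Modules.restrictFunctor l).mapDerivedCategorySingleFunctor (-(d : ℤ))).app ω⟩
  constructor
  · intro h
    obtain ⟨U, l, hl, m, hy, ⟨e⟩⟩ :=
      LeadBrown.Rel.exists_unit_of_isGorensteinAt (f := f) hperf c (hc := hf) (a := a) adj O eO h
    obtain ⟨e₁⟩ := rdSingle l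
    let s : (DCoh.inD U (Coh.structureModule U))⟦m⟧ ≅
        (DerivedCategory.singleFunctor U.Modules (-m)).obj (Coh.structureModule U) :=
      eqToIso (by rw [neg_neg]) ≪≫ KFlat.Stalk.singleShiftIso (Coh.structureModule U) (-m)
    let E := (DerivedCategory.homologyFunctor U.Modules (-(d : ℤ))).mapIso (e₁.symm ≪≫ e ≪≫ s)
    have hm : -m = -(d : ℤ) := by
      by_contra hne
      have hz : IsZero ((Scheme.Modules.restrictFunctor l).obj ω) :=
        ((KFlat.Stalk.isZero_hdSingle _ (-m) (-(d : ℤ)) (Ne.symm hne)).of_iso E).of_iso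
          (KFlat.Stalk.hdSingle _ _).symm
      obtain ⟨u, rfl⟩ := hy
      haveI : Subsingleton (((Scheme.Modules.restrictFunctor l).obj ω).presheaf.stalk u) :=
        AddCommGrpCat.subsingleton_of_isZero
          ((Scheme.Modules.toPresheaf U ⋙ TopCat.Presheaf.stalkFunctor AddCommGrpCat.{u} u).map_isZero hz)
      have hs : l.base u ∈ CohB1.support ω := (support_eq_univ A Y d hCM hd hω).symm ▸ Set.mem_univ _
      exact not_nontrivial _ ((H4DualSch.nontrivial_stalk_restrict_iff l ω u).2 (not_subsingleton_iff_nontrivial.1 hs))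
    let E' : (Scheme.Modules.restrictFunctor l).obj ω ≅ Coh.structureModule U :=
      (KFlat.Stalk.hdSingle _ _).symm ≪≫ E ≪≫ eqToIso (by rw [hm]) ≪≫ KFlat.Stalk.hdSingle _ (-(d : ℤ))
    refine ⟨l.opensRange, hy, ⟨?_⟩⟩
    exact (Scheme.Modules.restrictFunctorCongr (f := l.opensRange.ι) (g := l.isoOpensRange.inv ≫ l) (by simp)).app ω ≪≫
      (Scheme.Modules.restrictFunctorComp l.isoOpensRange.inv l).app ω ≪≫
      (Scheme.Modules.restrictFunctor l.isoOpensRange.inv).mapIso E' ≪≫ Scheme.Modules.restrictUnitIso l.isoOpensRange.inv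
  · rintro ⟨U, hyU, ⟨e⟩⟩
    obtain ⟨e₁⟩ := rdSingle U.ι
    exact LeadBrown.Rel.isGorensteinAt_of_unit (f := f) hperf c (hc := hf) (a := a) adj O eO U.ι ⟨⟨y, hyU⟩, rfl⟩ (d : ℤ)
      (e₁ ≪≫ (DerivedCategory.singleFunctor _ (-(d : ℤ))).mapIso e ≪≫
        (KFlat.Stalk.singleShiftIso _ _).symm ≪≫ eqToIso (by rw [neg_neg]))

end Groth.Agent.H4Rel
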