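import Groth.Agent.H4Rel.RootScheme

/-!
# Invertibility from depth three on the fibre
-/

set_option autoImplicit false
set_option linter.style.haveILetI false
set_option linter.unusedSectionVars false
set_option backward.isDefEq.respectTransparency false
set_option maxHeartbeats 1000000
set_option synthInstance.maxHeartbeats 400000

universe u

open CategoryTheory CategoryTheory.Limits AlgebraicGeometry IsLocalRing TensorProduct
open Groth.Agent.H16Derived

namespace Groth.Agent.H4Rel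

attribute [local instance] H06Mod.stalkAlgebra

variable (A : Type u) [CommRing A] [IsNoetherianRing A] (Y : Scheme.{u}) [Y.Over (Spec (CommRingCat.of A))]
  [IsProper (Y ↘ Spec (CommRingCat.of A))]
  (hS : RelCanon.IsSkMor (Y ↘ Spec (CommRingCat.of A)) 2)
  (U V : Y.Opens) (hV : ∀ x ∈ V, x ∉ U → 2 ≤ fibDim A Y x)
  (t : Spec (CommRingCat.of A)) (z : (Y ↘ Spec (CommRingCat.of A)).fiber t)
  (hzV : ((Y ↘ Spec (CommRingCat.of A)).fiberι t) z ∈ V)
  {N : Y.Modules} (hcoh : Coh.IsCoh N) (hL : PicF.IsInvertible (N.restrict U.ι))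
  {Nt : ((Y ↘ Spec (CommRingCat.of A)).fiber t).Modules} (hcoht : Coh.IsCoh Nt)
  (hdept : ∀ w : (Y ↘ Spec (CommRingCat.of A)).fiber t, w ∈ ((Y ↘ Spec (CommRingCat.of A)).fiberι t) ⁻¹ᵁ V →
    w ∉ ((Y ↘ Spec (CommRingCat.of A)).fiberι t) ⁻¹ᵁ U →
    (2 : ℕ∞) ≤ LocCoh.depth (((Y ↘ Spec (CommRingCat.of A)).fiber t).presheaf.stalk w) (Nt.presheaf.stalk w))
  (hUt : Nonempty (((Scheme.Modules.pullback (((Y ↘ Spec (CommRingCat.of A)).fiberι t) ∣_ U)).obj (N.restrict U.ι)) ≅
    Nt.restrict (((Y ↘ Spec (CommRingCat.of A)).fiberι t) ⁻¹ᵁ U).ι))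

include hS hV hzV hcoh hL hcoht hdept hUt in
set_option maxHeartbeats 4000000 in
/-- A module of depth two is invertible where it restricts to an invertible module of depth three on the fibre. -/
theorem invertibleAt_of_depth_three
    (hdep : ∀ x ∈ V, x ∉ U → (2 : ℕ∞) ≤ LocCoh.depth (Y.presheaf.stalk x) (N.presheaf.stalk x))
    (hinvt : RelCanon.InvertibleAt Nt z)
    (hdep3 : ∀ w : (Y ↘ Spec (CommRingCat.of A)).fiber t, w ⤳ z →
      ((Y ↘ Spec (CommRingCat.of A)).fiberι t) w ∉ U →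
      (3 : ℕ∞) ≤ LocCoh.depth (((Y ↘ Spec (CommRingCat.of A)).fiber t).presheaf.stalk w) (Nt.presheaf.stalk w)) :
    RelCanon.InvertibleAt N (((Y ↘ Spec (CommRingCat.of A)).fiberι t) z) := by
  let f := Y ↘ Spec (CommRingCat.of A)
  haveI : Flat f := hS.1
  haveI := isNoetherian_of_proper A Y
  haveI : LocallyOfFinitePresentation f := inferInstance
  haveI := H8Props.FieldDim.locallyOfFiniteType_fiberToSpec f t
  haveI : IsLocallyNoetherian (f.fiber t) := LocallyOfFiniteType.isLocallyNoetherian (f.fiberToSpecResidueField t)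
  let y := f.fiberι t z
  by_cases hyU : y ∈ U
  · exact invertibleAt_of_isInvertible_restrict hL hyU
  -- `N` is its bidual near `y`
  obtain ⟨eV⟩ : Nonempty (N.restrict V.ι ≅ (RefHull.ddual N).restrict V.ι) := by
    refine nonempty_restrict_iso_of_restrict U V hcoh (H29Ref.isCoh_ddual N hcoh)
      hdep (fun x hx hxU => two_le_depth_ddual A Y hS N hcoh x (hV x hx hxU)) ?_
    obtain ⟨e⟩ := nonempty_restrict_ddual U N
    obtain ⟨e'⟩ := nonempty_ddual_of_isInvertible hL
    exact ⟨(e ≪≫ e').symm⟩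
  refine invertibleAt_of_restrict_iso ⟨eV⟩ hzV ?_
  let B := Y.presheaf.stalk y
  let A₀ := (Spec (CommRingCat.of A)).presheaf.stalk (f y)
  letI : Algebra A₀ B := (f.stalkMap y).hom.toAlgebra
  haveI : IsLocalHom (algebraMap A₀ B) := inferInstanceAs (IsLocalHom (f.stalkMap y).hom)
  haveI : Module.Flat A₀ B := Flat.stalkMap f y
  let C := (f.fiber t).presheaf.stalk z
  have hs : Function.Surjective (algebraMap B C) := (f.fiberι t).stalkMap_surjective z
  have hkC : RingHom.ker (algebraMap B C) = (maximalIdeal A₀).map (algebraMap A₀ B) := ker_fiberι_stalkMap f t z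
  haveI : IsLocalHom (algebraMap B C) := inferInstanceAs (IsLocalHom ((f.fiberι t).stalkMap z).hom)
  let Ds := RefHull.dual N
  have hDs : Coh.IsCoh Ds := H29Ref.isCoh_dual N hcoh
  let D := Ds.presheaf.stalk y
  haveI : Module.Finite B D := H06Mod.finite_stalk _ hDs.2 y
  -- the ideal of the generisations off `U`
  let J := PrimeSpectrum.vanishingIdeal (Y.fromSpecStalk y ⁻¹' (U : Set Y)ᶜ)
  have hJ1 : ∀ q : PrimeSpectrum B, ¬ J ≤ q.asIdeal → Y.fromSpecStalk y q ∈ U := fun q hq => by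
    by_contra hc
    exact hq fun a ha => (PrimeSpectrum.mem_vanishingIdeal _ _).1 ha q hc
  have hJ2 : ∀ q : PrimeSpectrum B, J ≤ q.asIdeal → Y.fromSpecStalk y q ∉ U := fun q hq => by
    have h : q ∈ PrimeSpectrum.zeroLocus (J : Set B) := hq
    have hc : IsClosed (Y.fromSpecStalk y ⁻¹' (U : Set Y)ᶜ : Set (PrimeSpectrum B)) :=
      U.2.isClosed_compl.preimage (Y.fromSpecStalk y).continuous
    rw [PrimeSpectrum.zeroLocus_vanishingIdeal_eq_closure] at h
    exact hc.closure_subset h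
  have hJC : J.map (algebraMap B C) ≠ ⊤ := by
    refine ne_top_of_le_ne_top (maximalIdeal.isMaximal C).ne_top (Ideal.map_le_iff_le_comap.2 fun a ha => ?_)
    have hc : Y.fromSpecStalk y (closedPoint B) ∉ U := by rw [Scheme.fromSpecStalk_closedPoint]; exact hyU
    have hmem := (PrimeSpectrum.mem_vanishingIdeal _ _).1 ha (closedPoint B) hc
    show algebraMap B C a ∈ maximalIdeal C
    exact map_nonunit _ a hmem
  have hgen : ∀ p : PrimeSpectrum C, J.map (algebraMap B C) ≤ p.asIdeal →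
      (f.fiber t).fromSpecStalk z p ⤳ z ∧ f.fiberι t ((f.fiber t).fromSpecStalk z p) ∉ U := by
    intro p hp
    refine ⟨H7CDiv.fromSpecStalk_specializes p, ?_⟩
    rw [← Scheme.Hom.comp_apply, ← Scheme.SpecMap_stalkMap_fromSpecStalk, Scheme.Hom.comp_apply]
    exact hJ2 _ (Ideal.map_le_iff_le_comap.1 hp)
  have hfac : Lift.Fac J D := fac_of_rank_one J fun q hq => by
    let η := Y.fromSpecStalk y q
    have hηy : η ⤳ y := H7CDiv.fromSpecStalk_specializes q
    obtain ⟨c⟩ := nonempty_restrict_dual U N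
    have hinv : RelCanon.InvertibleAt Ds η := invertibleAt_of_isInvertible_restrict
      (H11Tilde.isInvertible_of_iso c.symm (H8Props.DivisorSection.isInvertible_dual hL)) (hJ1 q hq)
    obtain ⟨e⟩ := nonempty_stalk_equiv_of_invertibleAt hDs.1 hinv
    letI := (Y.presheaf.stalkSpecializes hηy).hom.toAlgebra
    letI := Module.compHom (Ds.presheaf.stalk η) (Y.presheaf.stalkSpecializes hηy).hom
    haveI : IsScalarTower B (Y.presheaf.stalk η) (Ds.presheaf.stalk η) := .of_algebraMap_smul fun _ _ => rfl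
    haveI := H7CDiv.isLocalization_stalkSpecializes hηy
    haveI := isLocalizedModule_specLin Ds hDs.1 hηy
    obtain ⟨φ, d, s, hs', hsv⟩ := exists_rank_one (H7CDiv.primeOf hηy).asIdeal (Bq := Y.presheaf.stalk η)
      (specLin Ds hηy) (e.restrictScalars B)
    refine ⟨φ, d, s, ?_, hsv⟩
    exact fun hq' => hs' ((congrArg (fun p : PrimeSpectrum B => s ∈ p.asIdeal)
      (H7CDiv.primeOf_fromSpecStalk q hηy)).mpr hq')
  obtain ⟨L⟩ := nonempty_hom_dual_fibre A Y hS U V hV t z hzV hcoh hL hcoht hdept hUt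
  -- regular sequences on the fibre
  haveI : Module.Finite C (Nt.presheaf.stalk z) := H06Mod.finite_stalk _ hcoht.2 z
  obtain ⟨x, x', w, hx, hx', hw, hC2, hN3⟩ : ∃ x x' w : B, x ∈ J ∧ x' ∈ J ∧ w ∈ J ∧
      Lift.Reg2 (algebraMap B C x) (algebraMap B C x') C ∧
      Lift.Reg3 (algebraMap B C x) (algebraMap B C x') (algebraMap B C w) (Nt.presheaf.stalk z) := by
    have hdC : (2 : ℕ∞) ≤ LocCoh.idealDepth (J.map (algebraMap B C)) C := by
      haveI : Module.Finite C ((Coh.structureModule (f.fiber t)).presheaf.stalk z) :=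
        H06Mod.finite_stalk _ (H10Coh.isCoh_structureModule' (f.fiber t)).2 z
      rw [H4Depth.idealDepth_congr _ (H29Ref.unitEquiv (X := f.fiber t) z),
        H4Depth.idealDepth_eq_iInf_depth_localization]
      refine le_iInf₂ fun p hp => ?_
      have hspec := H7CDiv.fromSpecStalk_specializes p
      have h := two_le_depth_fiber_stalk A Y hS t _
        (hV _ (((hgen p hp).1.map (f.fiberι t).continuous).mem_open V.2 hzV) (hgen p hp).2)
      rw [H4Depth.depth_congr (H29Ref.unitEquiv (X := f.fiber t) _),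
        ← depth_localizedModule_stalk _ (H10Coh.isCoh_structureModule' (f.fiber t)).1 hspec] at h
      rw [← H7CDiv.primeOf_fromSpecStalk p hspec]
      exact h
    have hdN : (3 : ℕ∞) ≤ LocCoh.idealDepth (J.map (algebraMap B C)) (Nt.presheaf.stalk z) := by
      rw [H4Depth.idealDepth_eq_iInf_depth_localization]
      refine le_iInf₂ fun p hp => ?_
      have hspec := H7CDiv.fromSpecStalk_specializes p
      have h := hdep3 _ (hgen p hp).1 (hgen p hp).2
      rw [← depth_localizedModule_stalk Nt hcoht.1 hspec] at h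
      rw [← H7CDiv.primeOf_fromSpecStalk p hspec]
      exact h
    obtain ⟨et⟩ := nonempty_stalk_equiv_of_invertibleAt hcoht.1 hinvt
    haveI : Nontrivial (Nt.presheaf.stalk z) := et.toEquiv.nontrivial
    obtain ⟨a, b, c, ha, hb, hc, h2, h3⟩ := exists_reg3 (J.map (algebraMap B C)) hJC hdC hdN
    obtain ⟨x, hx, rfl⟩ := (Ideal.mem_map_iff_of_surjective _ hs).1 ha
    obtain ⟨x', hx', rfl⟩ := (Ideal.mem_map_iff_of_surjective _ hs).1 hb
    obtain ⟨w, hw, rfl⟩ := (Ideal.mem_map_iff_of_surjective _ hs).1 hc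
    exact ⟨x, x', w, hx, hx', hw, h2, h3⟩
  -- transport to `B`
  have hP1 : Lift.powR (A := A₀) (B := B) B 1 = RingHom.ker (algebraMap B C) := by
    rw [hkC, Lift.powR, pow_one, smul_eq_mul, Ideal.mul_top]
  let eC : Lift.QB B A₀ 1 ≃ₗ[B] C := (Submodule.quotEquivOfEq _ _ hP1).trans
    (Ideal.quotientKerAlgEquivOfSurjective (f := Algebra.ofId B C) hs).toLinearEquiv
  let Ψ : (D →ₗ[B] Lift.QB B A₀ 1) ≃+ Nt.presheaf.stalk z :=
    (LinearEquiv.congrRight eC).toAddEquiv.trans L.toAddEquiv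
  have hΨ : ∀ (b : B) φ, Ψ (b • φ) = algebraMap B C b • Ψ φ := fun b φ => by
    show L (LinearEquiv.congrRight eC (b • φ)) = algebraMap B C b • L (LinearEquiv.congrRight eC φ)
    rw [← map_smul L, map_smul (LinearEquiv.congrRight eC), algebraMap_smul]
  have hreg : Lift.Reg2 x x' (Lift.QB B A₀ 1) := by
    refine Lift.Reg2.congr ⟨fun v v' hv => hC2.reg ?_, fun v v' hv => ?_⟩ eC.symm
    · show algebraMap B C x • v = algebraMap B C x • v'
      rwa [algebraMap_smul, algebraMap_smul]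
    · obtain ⟨c, hc⟩ := hC2.reg2 v v' (by rw [algebraMap_smul, algebraMap_smul, hv])
      exact ⟨c, by rw [hc, algebraMap_smul]⟩
  have hregN : Lift.Reg3 x x' w (D →ₗ[B] Lift.QB B A₀ 1) := by
    refine ⟨⟨fun v v' hv => Ψ.injective (hN3.reg ?_), fun v v' hv => ?_⟩, fun v v' v'' hv => ?_⟩
    · show algebraMap B C x • Ψ v = algebraMap B C x • Ψ v'
      rw [← hΨ, ← hΨ]; exact congrArg Ψ hv
    · obtain ⟨c, hc⟩ := hN3.reg2 (Ψ v) (Ψ v') (by rw [← hΨ, ← hΨ, hv])
      exact ⟨Ψ.symm c, Ψ.injective (by rw [hΨ, Ψ.apply_symm_apply, hc])⟩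
    · obtain ⟨a, b, hab⟩ := hN3.reg3 (Ψ v) (Ψ v') (Ψ v'') (by rw [← hΨ, ← hΨ, ← hΨ, ← map_add, hv])
      exact ⟨Ψ.symm a, Ψ.symm b, Ψ.injective (by
        rw [map_add, hΨ, hΨ, Ψ.apply_symm_apply, Ψ.apply_symm_apply, hab])⟩
  obtain ⟨hflat, hsur, hker⟩ := Lift.flat_of_depth_three hfac hx hx' hw hreg hregN
  let φ := (LinearEquiv.congrRight eC).toLinearMap ∘ₗ Lift.red (B := B) A₀ D 1
  have hφs : Function.Surjective φ := (LinearEquiv.congrRight eC).surjective.comp hsur
  have hφk : ∀ v, φ v = 0 ↔ v ∈ Lift.powR (A := A₀) (B := B) (D →ₗ[B] B) 1 := fun v => by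
    rw [← hker v]
    exact (LinearEquiv.congrRight eC).map_eq_zero_iff
  let Φ : C ⊗[B] (D →ₗ[B] B) ≃ₗ[B] (D →ₗ[B] C) :=
    (Lift.fibreQuot (A := A₀) hs hkC).trans
      ((Submodule.quotEquivOfEq _ _ (Submodule.ext fun v => (hφk v).symm)).trans
        (LinearMap.quotKerEquivOfSurjective φ hφs))
  obtain ⟨n, j, hj⟩ := Lift.exists_embed_dual (B := B) (D := D)
  haveI : Module.Finite B (D →ₗ[B] B) := Module.Finite.of_injective j hj
  obtain ⟨et⟩ := nonempty_stalk_equiv_of_invertibleAt hcoht.1 hinvt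
  obtain ⟨bs⟩ := basis_of_fibre_equiv A₀ B (D →ₗ[B] B) C hs hkC
    ((LinearEquiv.extendScalarsOfSurjective hs Φ).trans (L.trans et))
  let eDD : (RefHull.ddual N).presheaf.stalk y ≃ₗ[B] (D →ₗ[B] B) :=
    (LinearEquiv.ofBijective (RefHull.evalStalk Ds (Coh.structureModule Y) y)
      (H29Ref.evalStalk_bijective Ds (Coh.structureModule Y) (H10Coh.isFP_of_isCoh Ds hDs) y)).trans
      (LinearEquiv.congrRight (H29Ref.unitEquiv (X := Y) y).symm)
  exact H29Ref.exists_iso_of_isFreeOfRankNear_one _ _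
    (H8Props.FunDescent.isFreeOfRankNear_of_stalkFree_of_isFP _
      (H10Coh.isFP_of_isCoh _ (H29Ref.isCoh_ddual N hcoh)) ⟨bs.map eDD.symm⟩)

end Groth.Agent.H4Rel
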