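import Groth.Agent.H4Rel.DepthThreeApply

/-!
# The dualizing sheaf of a proper scheme over a field satisfies `(S₂)`
-/

set_option autoImplicit false
set_option linter.style.haveILetI false
set_option linter.unusedSectionVars false
set_option backward.isDefEq.respectTransparency false
set_option maxHeartbeats 2000000
set_option synthInstance.maxHeartbeats 400000

universe u

open CategoryTheory CategoryTheory.Limits AlgebraicGeometry
open Groth.Agent.H16Derived

attribute [local instance] HasDerivedCategory.standard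

namespace Groth.Agent.H4Rel

/-- Depth and dimension of localisations of stalks. -/
theorem invariants_localizedModule_stalk {X : Scheme.{u}} (F : X.Modules) (hF : Coh.IsQCoh F) {η y : X} (h : η ⤳ y) :
    Module.supportDim (Localization.AtPrime (H7CDiv.primeOf h).asIdeal)
        (LocalizedModule (H7CDiv.primeOf h).asIdeal.primeCompl (F.presheaf.stalk y)) =
      Module.supportDim (X.presheaf.stalk η) (F.presheaf.stalk η) ∧
    LocCoh.depth (Localization.AtPrime (H7CDiv.primeOf h).asIdeal)
        (LocalizedModule (H7CDiv.primeOf h).asIdeal.primeCompl (F.presheaf.stalk y)) =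
      LocCoh.depth (X.presheaf.stalk η) (F.presheaf.stalk η) := by
  letI := (X.presheaf.stalkSpecializes h).hom.toAlgebra
  letI := Module.compHom (F.presheaf.stalk η) (X.presheaf.stalkSpecializes h).hom
  haveI := isLocalizedModule_specLin F hF h
  haveI := H7CDiv.isLocalization_stalkSpecializes h
  let P := (H7CDiv.primeOf h).asIdeal
  let σ := IsLocalization.algEquiv P.primeCompl (Localization.AtPrime P) (X.presheaf.stalk η)
  letI : Module (Localization.AtPrime P) (F.presheaf.stalk η) := Module.compHom _ σ.toRingEquiv.toRingHom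
  haveI : IsScalarTower (X.presheaf.stalk y) (Localization.AtPrime P) (F.presheaf.stalk η) :=
    .of_algebraMap_smul fun r m => by
      show σ (algebraMap _ _ r) • m = r • m
      rw [AlgEquiv.commutes]; rfl
  let e := (IsLocalizedModule.iso P.primeCompl (specLin F h)).extendScalarsOfIsLocalization
    P.primeCompl (Localization.AtPrime P)
  obtain ⟨g1, g2, -⟩ := H06EGA12.invariants_of_semilinear σ.toRingEquiv.toRingHom σ.surjective e.toAddEquiv
    fun r m => e.map_smul r m
  exact ⟨g2.symm, g1.symm⟩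

variable (K : Type u) [Field K] (Y : Scheme.{u}) [Y.Over (Spec (CommRingCat.of K))]
  [IsProper (Y ↘ Spec (CommRingCat.of K))] (d : ℕ)
  (hd : Cyc.HasRelDim (Y ↘ Spec (CommRingCat.of K)) d) {ω : Y.Modules}
  (hω : RelCanon.IsDualizingSheaf K Y d ω)

include hd hω in
/-- Depth of the dualizing sheaf of a proper scheme over a field. -/
theorem min_two_le_depth_dualizing (y : Y) :
    min ((2 : ℕ) : WithBot ℕ∞) (Module.supportDim (Y.presheaf.stalk y) (ω.presheaf.stalk y)) ≤
      ((LocCoh.depth (Y.presheaf.stalk y) (ω.presheaf.stalk y) : ℕ∞) : WithBot ℕ∞) := by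
  let f := Y ↘ Spec (CommRingCat.of K)
  haveI := QCohD.hasRpush f
  haveI : CompactSpace Y := QuasiCompact.compactSpace_of_compactSpace f
  haveI : QuasiSeparatedSpace Y := quasiSeparatedSpace_of_quasiSeparated f
  haveI := isNoetherian_of_proper K Y
  obtain ⟨hf, a, ⟨adj⟩⟩ := exists_rightAdjoint f
  obtain ⟨O, hO⟩ := exists_unit_obj K
  have h4 := isDualizingSheaf_rightAdjoint K Y adj O hO d
    fun t => H4RSH.ProperLocal.dim_le_of_components fun Z hZ => (hd t Z hZ).le
  obtain ⟨e₀⟩ := nonempty_iso_of_isDualizingSheaf K Y h4 hω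
  let es := H06EGA9.stalkIso e₀ y
  rw [← Module.supportDim_eq_of_equiv es, ← H4Depth.depth_congr es]
  obtain ⟨B, iB, j, hjo, q, rfl⟩ : ∃ (B : Type u) (_ : CommRing B) (j : Spec (CommRingCat.of B) ⟶ Y)
      (_ : IsOpenImmersion j) (q : PrimeSpectrum B), j.base q = y := by
    obtain ⟨q, hq⟩ := Y.affineCover.covers y
    exact ⟨_, inferInstance, Y.affineCover.f (Y.affineCover.idx y),
      inferInstanceAs (IsOpenImmersion (Y.affineCover.f (Y.affineCover.idx y))), q, hq⟩
  obtain ⟨φ, hφ⟩ : ∃ φ : K →+* B, Spec.map (CommRingCat.ofHom φ) = j ≫ f :=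
    ⟨(Spec.preimage (j ≫ f)).hom, Spec.map_preimage _⟩
  letI := φ.toAlgebra
  haveI : Algebra.FiniteType K B := by
    have h : LocallyOfFiniteType (j ≫ f) := inferInstance
    rw [← hφ, HasRingHomProperty.Spec_iff (P := @LocallyOfFiniteType)] at h
    exact h
  haveI : IsNoetherianRing B := Algebra.FiniteType.isNoetherianRing K B
  obtain ⟨n, ψ, hψ⟩ := (Algebra.FiniteType.iff_quotient_mvPolynomial'' (R := K) (S := B)).1 inferInstance
  haveI := H4DR.TorAmp.hasLBaseChange (algebraMap K (MvPolynomial (Fin n) K))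
  haveI := H26Dual2.isLeftAdjoint_TD ψ.toRingHom
  let adjψ : DRing.restrictD ψ.toRingHom ⊣ _ :=
    Adjunction.ofIsLeftAdjoint (H26Dual2.TD ψ.toRingHom)
  obtain ⟨e⟩ := exists_shriek_chart K Y adj O hO j hφ.symm ψ hψ adjψ
  obtain ⟨φ', hφ', T, hT⟩ := H4RSH.ProperLocal.exists_semilinear_HD_stalk j (a.obj O).obj _ e q (-(d : ℤ))
  obtain ⟨g1, g2, -⟩ := H06EGA12.invariants_of_semilinear φ' hφ' T hT
  haveI : LocCoh.IsCohenMacaulayLocalRing (Localization.AtPrime (⊥ : Ideal K)) := by
    exact { supportDim_eq_depth := by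
              rw [Module.supportDim_self_eq_ringKrullDim, ringKrullDim_eq_zero_of_field' (Localization.AtPrime (⊥ : Ideal K))]
              exact le_antisymm (WithBot.coe_le_coe.2 zero_le) ((H8Props.FlatDepth.depth_le_dim _).trans
                (le_of_eq (ringKrullDim_eq_zero_of_field' _))) }
  have htr : ∀ q' : PrimeSpectrum B, Dual3.resTrdeg (Spec.map (CommRingCat.ofHom (algebraMap K B))) q' =
      Dual3.resTrdeg f (j q') := fun q' => by
    rw [← resTrdeg_comp j f q', ← hφ]
    rfl
  rw [g1, g2]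
  refine H4RSH.RelDualS2.point_depth ψ hψ adjψ ⊥ d (fun q' _ => ?_) q (fun x hx => ?_)
  · obtain ⟨s, hs, hsdim⟩ := resTrdeg_bounds f d hd (j q')
    rw [htr, hs, Nat.cast_le]
    have h : (s : WithBot ℕ∞) ≤ (d : WithBot ℕ∞) :=
      le_of_le_of_eq (le_add_of_nonneg_left ringKrullDim_nonneg_of_nontrivial) hsdim
    exact_mod_cast h
  · by_contra hne
    exact q.2.ne_top (Ideal.eq_top_of_isUnit_mem _ hx
      ((IsUnit.mk0 x fun h0 => hne (by rw [h0]; exact Ideal.zero_mem _)).map (algebraMap K B)))
where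
  ringKrullDim_eq_zero_of_field' (L : Type u) [CommRing L] [Algebra K L] [IsLocalization.AtPrime L (⊥ : Ideal K)] :
      ringKrullDim L = 0 := by
    rw [IsLocalization.AtPrime.ringKrullDim_eq_height (⊥ : Ideal K) L, Ideal.height_bot]
    rfl

include hd hω in
/-- The dualizing sheaf of a proper scheme over a field satisfies `(S₂)`. -/
theorem skAt_two_dualizing (y : Y) : RelCanon.SkAt 2 ω y := by
  haveI := isNoetherian_of_proper K Y
  obtain ⟨hcoh, -⟩ := isCoh_and_two_le_depth K Y d hd hω
  intro p hp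
  let w := Y.fromSpecStalk y ⟨p, hp⟩
  have hwy : w ⤳ y := H7CDiv.fromSpecStalk_specializes _
  have hP : (H7CDiv.primeOf hwy).asIdeal = p := congrArg PrimeSpectrum.asIdeal (H7CDiv.primeOf_fromSpecStalk ⟨p, hp⟩ hwy)
  have h := min_two_le_depth_dualizing K Y d hd hω w
  obtain ⟨h1, h2⟩ := invariants_localizedModule_stalk ω hcoh.1 hwy
  rw [← h1, ← h2] at h
  have key : ∀ Q : Ideal (Y.presheaf.stalk y), ∀ [Q.IsPrime], Q = p →
      min ((2 : ℕ) : WithBot ℕ∞) (Module.supportDim (Localization.AtPrime Q)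
          (LocalizedModule Q.primeCompl (ω.presheaf.stalk y))) ≤
        ((LocCoh.depth (Localization.AtPrime Q) (LocalizedModule Q.primeCompl (ω.presheaf.stalk y)) : ℕ∞) :
          WithBot ℕ∞) →
      min ((2 : ℕ) : WithBot ℕ∞) (Module.supportDim (Localization.AtPrime p)
          (LocalizedModule p.primeCompl (ω.presheaf.stalk y))) ≤
        ((LocCoh.depth (Localization.AtPrime p) (LocalizedModule p.primeCompl (ω.presheaf.stalk y)) : ℕ∞) :
          WithBot ℕ∞) := by
    rintro Q _ rfl hQ
    exact hQ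
  exact key _ hP h

end Groth.Agent.H4Rel
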