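import Groth.Agent.H4Rel.Descent

/-!
# Extension across a closed subset of an open
-/

set_option autoImplicit false
set_option maxHeartbeats 800000
set_option linter.style.haveILetI false
set_option backward.isDefEq.respectTransparency false

universe u

open CategoryTheory CategoryTheory.Limits AlgebraicGeometry Opposite TopologicalSpace LocCoh

namespace Groth.Agent.H4Rel

open H29Ref

variable {X : Scheme.{u}}

/-- A map of coherent into quasi-coherent modules is bijective on the stalks of an open where it is so up to depth two. -/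
theorem bijective_stalk_of_depth_two [IsLocallyNoetherian X] {F G : X.Modules} (φ : F ⟶ G)
    (hF : Coh.IsCoh F) (hG : Coh.IsQCoh G) (W : X.Opens)
    (h : ∀ x ∈ W, Function.Bijective (RefHull.stalkMapₗ φ x) ∨
      ((2 : ℕ∞) ≤ LocCoh.depth (X.presheaf.stalk x) (F.presheaf.stalk x) ∧ ¬ Curv2.IsAssPoint G x)) :
    ∀ x ∈ W, Function.Bijective (RefHull.stalkMapₗ φ x) := by
  intro x hxW
  obtain ⟨V, hV, hxV, hVW⟩ := exists_isAffineOpen_mem_and_subset (X := X) (x := x) (U := W) hxW
  haveI : IsNoetherianRing Γ(X, V) := IsLocallyNoetherian.component_noetherian ⟨V, hV⟩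
  haveI : Module.Finite Γ(X, V) Γ(F, V) := @H10Coh.finite_sections _ F hF.1 hF.2 _ hV
  let f : Γ(F, V) →ₗ[Γ(X, V)] Γ(G, V) :=
    { toFun := φ.app V, map_add' := map_add _, map_smul' := fun a m => φ.app_smul a m }
  -- the comparison at a point of `V`
  have key : ∀ z : V, (Function.Bijective (RefHull.stalkMapₗ φ z.1) ↔
        Function.Bijective (LocalizedModule.map (hV.primeIdealOf z).asIdeal.primeCompl f)) ∧
      LocCoh.depth (X.presheaf.stalk z.1) (F.presheaf.stalk z.1) =
        LocCoh.depth (Localization.AtPrime (hV.primeIdealOf z).asIdeal)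
          (LocalizedModule (hV.primeIdealOf z).asIdeal.primeCompl Γ(F, V)) := by
    intro z
    let P := (hV.primeIdealOf z).asIdeal
    letI := TopCat.Presheaf.algebra_section_stalk X.presheaf z
    letI := Module.compHom (F.presheaf.stalk z.1) (algebraMap Γ(X, V) (X.presheaf.stalk z.1))
    letI := Module.compHom (G.presheaf.stalk z.1) (algebraMap Γ(X, V) (X.presheaf.stalk z.1))
    haveI : IsScalarTower Γ(X, V) (X.presheaf.stalk z.1) (F.presheaf.stalk z.1) :=
      .of_algebraMap_smul fun _ _ => rfl
    haveI : IsScalarTower Γ(X, V) (X.presheaf.stalk z.1) (G.presheaf.stalk z.1) :=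
      .of_algebraMap_smul fun _ _ => rfl
    haveI : IsLocalization P.primeCompl (X.presheaf.stalk z.1) := hV.isLocalization_stalk z
    haveI : IsLocalizedModule P.primeCompl (H29Fitt.germLin F z) :=
      H29Fitt.isLocalizedModule_germLin F hF.1 hV z
    haveI : IsLocalizedModule P.primeCompl (H29Fitt.germLin G z) :=
      H29Fitt.isLocalizedModule_germLin G hG hV z
    let eF := IsLocalizedModule.iso P.primeCompl (H29Fitt.germLin F z)
    let eG := IsLocalizedModule.iso P.primeCompl (H29Fitt.germLin G z)
    have hsq : ∀ w, RefHull.stalkMapₗ φ z.1 (eF w) = eG (LocalizedModule.map P.primeCompl f w) := by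
      intro w
      induction w using LocalizedModule.induction_on with
      | _ m c =>
        rw [LocalizedModule.map_mk]
        refine ((Module.End.isUnit_iff _).mp (IsLocalizedModule.map_units (H29Fitt.germLin G z) c)).1 ?_
        simp only [Module.algebraMap_end_apply]
        rw [← map_smul eG, ← LinearMap.map_smul_of_tower, ← map_smul eF,
          LocalizedModule.smul'_mk, LocalizedModule.smul'_mk]
        rw [← Submonoid.smul_def, ← Submonoid.smul_def, LocalizedModule.mk_cancel,
          LocalizedModule.mk_cancel, IsLocalizedModule.iso_mk_one, IsLocalizedModule.iso_mk_one]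
        exact RefHull.stalkMapₗ_germ φ z.1 z.2 m
    refine ⟨?_, ?_⟩
    · have : (RefHull.stalkMapₗ φ z.1 : _ → _) =
          eG ∘ (LocalizedModule.map P.primeCompl f) ∘ eF.symm := funext fun w => by
        rw [Function.comp_apply, Function.comp_apply, ← hsq, LinearEquiv.apply_symm_apply]
      rw [this, EquivLike.comp_bijective, EquivLike.bijective_comp]
    · let e : Localization.AtPrime P ≃ₐ[Γ(X, V)] X.presheaf.stalk z.1 :=
        IsLocalization.algEquiv P.primeCompl _ _
      letI : Algebra (Localization.AtPrime P) (X.presheaf.stalk z.1) := e.toAlgHom.toRingHom.toAlgebra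
      letI : Module (Localization.AtPrime P) (F.presheaf.stalk z.1) :=
        Module.compHom _ e.toAlgHom.toRingHom
      haveI : IsScalarTower (Localization.AtPrime P) (X.presheaf.stalk z.1) (F.presheaf.stalk z.1) :=
        .of_algebraMap_smul fun _ _ => rfl
      haveI : IsScalarTower Γ(X, V) (Localization.AtPrime P) (F.presheaf.stalk z.1) :=
        .of_algebraMap_smul fun r v => by
          show e (algebraMap Γ(X, V) (Localization.AtPrime P) r) • v = _
          rw [e.commutes, algebraMap_smul]
      haveI : Module.Finite (X.presheaf.stalk z.1) (F.presheaf.stalk z.1) :=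
        Module.Finite.of_isLocalizedModule P.primeCompl (H29Fitt.germLin F z)
      haveI : Module.Finite (Localization.AtPrime P) (LocalizedModule P.primeCompl Γ(F, V)) :=
        Module.Finite.of_isLocalizedModule P.primeCompl (LocalizedModule.mkLinearMap _ _)
      rw [H8Props.FlatDepth.depth_eq_of_surjective (R := Localization.AtPrime P)
        (S := X.presheaf.stalk z.1) (M := F.presheaf.stalk z.1) e.surjective]
      exact (H4Depth.depth_congr
        (LinearEquiv.extendScalarsOfIsLocalization P.primeCompl (Localization.AtPrime P) eF)).symm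
  suffices hb : Function.Bijective f by
    refine ((key ⟨x, hxV⟩).1).mpr ⟨LocalizedModule.map_injective _ f hb.1, LocalizedModule.map_surjective _ f hb.2⟩
  refine H1CAlg.bijective_of_depth_two f fun p hp => ?_
  let z : V := ⟨hV.fromSpec ⟨p, hp⟩, hV.range_fromSpec.le (Set.mem_range_self _)⟩
  have hzp : hV.primeIdealOf z = ⟨p, hp⟩ :=
    hV.fromSpec.isOpenEmbedding.injective (hV.fromSpec_primeIdealOf z)
  have hpe : (hV.primeIdealOf z).asIdeal = p := congrArg PrimeSpectrum.asIdeal hzp
  clear_value z
  clear hzp
  obtain rfl := hpe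
  rcases h z.1 (hVW z.2) with hb | ⟨hd, hass⟩
  · exact Or.inl ((key z).1.mp hb)
  refine Or.inr ⟨(key z).2 ▸ hd, fun hp' => hass ?_⟩
  obtain ⟨-, t, ht⟩ := isAssociatedPrime_iff.mp hp'
  letI := TopCat.Presheaf.algebra_section_stalk X.presheaf z
  letI := Module.compHom (G.presheaf.stalk z.1) (algebraMap Γ(X, V) (X.presheaf.stalk z.1))
  haveI := hV.isLocalization_stalk z
  haveI := H29Fitt.isLocalizedModule_germLin G hG hV z
  haveI : IsScalarTower Γ(X, V) (X.presheaf.stalk z.1) (G.presheaf.stalk z.1) :=
    .of_algebraMap_smul fun _ _ => rfl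
  refine isAssociatedPrime_iff.mpr ⟨inferInstance, H29Fitt.germLin G z t, ?_⟩
  ext a
  rw [Submodule.mem_colon_singleton, Submodule.mem_bot]
  obtain ⟨⟨r, c⟩, hrc⟩ := IsLocalization.surj (hV.primeIdealOf z).asIdeal.primeCompl a
  have h1 : a ∈ IsLocalRing.maximalIdeal (X.presheaf.stalk z.1) ↔ r ∈ (hV.primeIdealOf z).asIdeal := by
    rw [← IsLocalization.AtPrime.to_map_mem_maximal_iff (X.presheaf.stalk z.1) (hV.primeIdealOf z).asIdeal r,
      ← hrc, Ideal.mul_unit_mem_iff_mem _ (IsLocalization.map_units (X.presheaf.stalk z.1) c)]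
  rw [h1, ht, Submodule.mem_colon_singleton, Submodule.mem_bot]
  have h2 : algebraMap Γ(X, V) (X.presheaf.stalk z.1) (c : Γ(X, V)) • (a • H29Fitt.germLin G z t) =
      H29Fitt.germLin G z (r • t) := by
    rw [smul_smul, mul_comm, hrc, map_smul, algebraMap_smul]
  constructor
  · intro hr
    rw [hr, map_zero] at h2
    exact ((IsLocalization.map_units (X.presheaf.stalk z.1) c).smul_eq_zero).mp h2
  · intro ha
    rw [ha, smul_zero] at h2
    obtain ⟨q, hq⟩ := (IsLocalizedModule.eq_zero_iff (hV.primeIdealOf z).asIdeal.primeCompl _).mp h2.symm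
    have hq' : ((q : Γ(X, V)) * r) • t = 0 := by rw [mul_smul]; exact hq
    have hm : (q : Γ(X, V)) * r ∈ (hV.primeIdealOf z).asIdeal :=
      ht.ge (Submodule.mem_colon_singleton.mpr ((Submodule.mem_bot _).mpr hq'))
    have hr := ((hV.primeIdealOf z).isPrime.mem_or_mem hm).resolve_left q.2
    exact (Submodule.mem_bot _).mp (Submodule.mem_colon_singleton.mp (ht.le hr))

/-- A map with bijective stalks over an open restricts to an isomorphism there. -/
theorem isIso_restrict_of_bijective_stalk {F G : X.Modules} (φ : F ⟶ G) (W : X.Opens)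
    (h : ∀ x ∈ W, Function.Bijective (RefHull.stalkMapₗ φ x)) :
    IsIso ((Scheme.Modules.restrictFunctor W.ι).map φ) := by
  rw [H29Ref.isIso_iff_bijective_stalk]
  intro w
  haveI : IsIso ((Scheme.Modules.toPresheaf X ⋙ TopCat.Presheaf.stalkFunctor Ab.{u} w.1).map φ) :=
    (ConcreteCategory.isIso_iff_bijective _).2 (h w.1 w.2)
  exact (ConcreteCategory.isIso_iff_bijective _).1
    ((NatIso.isIso_map_iff (Scheme.Modules.restrictStalkNatIso W.ι w) φ).2 ‹_›)

/-- The unit of restriction to `U` is an isomorphism over an open where the depth is two off `U`. -/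
theorem isIso_restrict_unit [IsNoetherian X] (U W : X.Opens) (G : X.Modules) (hG : Coh.IsCoh G)
    (hd : ∀ x : X, x ∈ W → x ∉ U → (2 : ℕ∞) ≤ LocCoh.depth (X.presheaf.stalk x) (G.presheaf.stalk x)) :
    IsIso ((Scheme.Modules.restrictFunctor W.ι).map ((Scheme.Modules.restrictAdjunction U.ι).unit.app G)) := by
  haveI : G.IsQuasicoherent := hG.1
  haveI : (G.restrict U.ι).IsQuasicoherent := Scheme.Modules.isQuasicoherent_restrictFunctor _ G
  refine isIso_restrict_of_bijective_stalk _ W (bijective_stalk_of_depth_two _ hG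
    (H10Coh.isQuasicoherent_pushforward U.ι _) W fun x hxW => ?_)
  by_cases hx : x ∈ U
  · left
    show Function.Bijective ((Scheme.Modules.toPresheaf X ⋙ TopCat.Presheaf.stalkFunctor Ab.{u} x).map _)
    refine (ConcreteCategory.isIso_iff_bijective _).1 ?_
    refine (NatIso.isIso_map_iff (Scheme.Modules.restrictStalkNatIso U.ι ⟨x, hx⟩) _).1 ?_
    haveI : IsIso ((Scheme.Modules.restrictFunctor U.ι).map
        ((Scheme.Modules.restrictAdjunction U.ι).unit.app G)) :=
      by
        haveI : IsIso ((Scheme.Modules.restrictFunctor U.ι).map ((Scheme.Modules.restrictAdjunction U.ι).unit.app G) ≫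
            (Scheme.Modules.restrictAdjunction U.ι).counit.app ((Scheme.Modules.restrictFunctor U.ι).obj G)) := by
          rw [show (Scheme.Modules.restrictFunctor U.ι).map ((Scheme.Modules.restrictAdjunction U.ι).unit.app G) ≫
              (Scheme.Modules.restrictAdjunction U.ι).counit.app ((Scheme.Modules.restrictFunctor U.ι).obj G) = 𝟙 _
            from (Scheme.Modules.restrictAdjunction U.ι).left_triangle_components G]
          infer_instance
        exact IsIso.of_isIso_comp_right _ ((Scheme.Modules.restrictAdjunction U.ι).counit.app _)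
    exact Functor.map_isIso (Scheme.Modules.toPresheaf (U : Scheme.{u}) ⋙
      TopCat.Presheaf.stalkFunctor Ab.{u} (⟨x, hx⟩ : (U : Scheme.{u}))) _
  · exact Or.inr ⟨hd x hxW hx, H4PushUniv.not_isAssPoint U _ x hx⟩

/-- Coherent modules of depth two off `U` inside `W` are determined over `W` by their restrictions to `U`. -/
theorem nonempty_restrict_iso_of_restrict [IsNoetherian X] (U W : X.Opens) {F G : X.Modules}
    (hF : Coh.IsCoh F) (hG : Coh.IsCoh G)
    (dF : ∀ x : X, x ∈ W → x ∉ U → (2 : ℕ∞) ≤ LocCoh.depth (X.presheaf.stalk x) (F.presheaf.stalk x))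
    (dG : ∀ x : X, x ∈ W → x ∉ U → (2 : ℕ∞) ≤ LocCoh.depth (X.presheaf.stalk x) (G.presheaf.stalk x))
    (e : Nonempty (F.restrict U.ι ≅ G.restrict U.ι)) : Nonempty (F.restrict W.ι ≅ G.restrict W.ι) := by
  obtain ⟨e⟩ := e
  haveI := isIso_restrict_unit U W F hF dF
  haveI := isIso_restrict_unit U W G hG dG
  exact ⟨asIso ((Scheme.Modules.restrictFunctor W.ι).map ((Scheme.Modules.restrictAdjunction U.ι).unit.app F)) ≪≫
    (Scheme.Modules.restrictFunctor W.ι).mapIso ((Scheme.Modules.pushforward U.ι).mapIso e) ≪≫
    (asIso ((Scheme.Modules.restrictFunctor W.ι).map ((Scheme.Modules.restrictAdjunction U.ι).unit.app G))).symm⟩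


end Groth.Agent.H4Rel
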