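import Groth.Agent.H4Rel.Powers
import Groth.Agent.H4Rel.LocalExt
import Groth.Agent.H17.FLI.HodgeSymm
import Groth.Agent.H17.FLI.Adjunction
import Groth.Agent.H7KS.Weil
import Groth.Agent.H25AbCube.DualInverse

/-!
# Reflexive hulls and invertible factors
-/

set_option autoImplicit false
set_option linter.style.haveILetI false
set_option backward.isDefEq.respectTransparency false
set_option maxHeartbeats 1000000
set_option synthInstance.maxHeartbeats 400000

universe u

open CategoryTheory CategoryTheory.Limits AlgebraicGeometry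
open Groth.Agent.H10Inj.SheafExt
open Groth.Agent.H25Theta (tI)

namespace Groth.Agent.H4Rel

variable {X : Scheme.{u}}

/-- Invertibility at all points of an open. -/
theorem isInvertible_restrict_of_invertibleAt {F : X.Modules} (W : X.Opens)
    (hF : ∀ x ∈ W, RelCanon.InvertibleAt F x) : PicF.IsInvertible (F.restrict W.ι) := by
  intro w
  obtain ⟨T, hT, ⟨e⟩⟩ := hF w.1 w.2
  refine ⟨W.ι ⁻¹ᵁ T, hT, ⟨?_⟩⟩
  exact ((Scheme.Modules.restrictFunctorComp (W.ι ⁻¹ᵁ T).ι W.ι).app F).symm ≪≫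
    (Scheme.Modules.restrictFunctorCongr (f := (W.ι ⁻¹ᵁ T).ι ≫ W.ι) (g := (W.ι ∣_ T) ≫ T.ι)
      (morphismRestrict_ι W.ι T).symm).app F ≪≫
    (Scheme.Modules.restrictFunctorComp (W.ι ∣_ T) T.ι).app F ≪≫
    (Scheme.Modules.restrictFunctor (W.ι ∣_ T)).mapIso e ≪≫ Scheme.Modules.restrictUnitIso (W.ι ∣_ T)

/-- Homomorphisms out of an invertible module. -/
theorem nonempty_homSh_invertible {K K' : X.Modules} (hK : PicF.IsInvertible K)
    (e : CohB1.tensorMod K K' ≅ Coh.structureModule X) (G : X.Modules) :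
    Nonempty (RefHull.homSh K G ≅ CohB1.tensorMod K' G) := by
  obtain ⟨i⟩ := H17.FLI.nonempty_homSh_tensor_iso hK (CohB1.tensorMod K' G)
  let g : G ≅ CohB1.tensorMod K (CohB1.tensorMod K' G) :=
    (H10Coh.Tw.leftUnitIso G).symm ≪≫ tI e.symm (Iso.refl G) ≪≫ H10Coh.Tw.assoc K K' G
  exact ⟨(show RefHull.homSh K G ≅ RefHull.homSh K (CohB1.tensorMod K (CohB1.tensorMod K' G)) from
    (homFunctor K).mapIso g) ≪≫ i⟩

/-- Reflexive hulls commute with invertible factors. -/
theorem nonempty_ddual_tensorMod (F : X.Modules) {K : X.Modules} (hK : PicF.IsInvertible K) :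
    Nonempty (RefHull.ddual (CohB1.tensorMod F K) ≅ CohB1.tensorMod (RefHull.ddual F) K) := by
  obtain ⟨K', hK', ⟨e⟩⟩ := H11Sym.exists_inverse hK
  let c : CohB1.tensorMod K K' ≅ Coh.structureModule X := H10Coh.Tw.commIso K K' ≪≫ e
  obtain ⟨a⟩ := H17.FLI.nonempty_homSh_homSh_iso F K (Coh.structureModule X)
  obtain ⟨b⟩ := nonempty_homSh_invertible hK c (RefHull.dual F)
  obtain ⟨d⟩ := nonempty_dual_congr (show RefHull.dual (CohB1.tensorMod F K) ≅ CohB1.tensorMod (RefHull.dual F) K' from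
    a.symm ≪≫ b ≪≫ H10Coh.Tw.commIso _ _)
  obtain ⟨a'⟩ := H17.FLI.nonempty_homSh_homSh_iso (RefHull.dual F) K' (Coh.structureModule X)
  obtain ⟨b'⟩ := nonempty_homSh_invertible hK' e (RefHull.ddual F)
  exact ⟨d ≪≫ a'.symm ≪≫ b' ≪≫ H10Coh.Tw.commIso _ _⟩

/-- A product with an invertible factor determines that factor. -/
theorem nonempty_iso_dual_tensorMod {K P G : X.Modules} (hK : PicF.IsInvertible K)
    (e : CohB1.tensorMod K P ≅ G) : Nonempty (P ≅ CohB1.tensorMod (RefHull.dual K) G) := by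
  obtain ⟨c⟩ := H25AbCube.isInverseOf_dual hK
  exact ⟨(H10Coh.Tw.leftUnitIso P).symm ≪≫ tI c.symm (Iso.refl P) ≪≫ H10Coh.Tw.assoc _ _ _ ≪≫
    tI (Iso.refl _) e⟩

end Groth.Agent.H4Rel
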