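import Groth.Agent.H4Rel.TwistCM
import Groth.Agent.H4Rel.TwistLemmas
import Groth.Agent.H4Rel.DepthThreeGen
import Groth.Agent.H4Rel.DualS2
import Groth.Agent.H10Coh.TensorTilde
import Groth.Agent.H8Props.IsoLocus.Main

/-!
# The twist relating a flat module with canonical fibre to the dualizing sheaf
-/

set_option autoImplicit false
set_option linter.style.haveILetI false
set_option linter.unusedSectionVars false
set_option backward.isDefEq.respectTransparency false
set_option maxHeartbeats 1000000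
set_option synthInstance.maxHeartbeats 400000

universe u

open CategoryTheory CategoryTheory.Limits AlgebraicGeometry IsLocalRing TensorProduct
open Groth.Agent.H16Derived
open Groth.Agent.H16Derived.KFlat.Stalk (stalkEquiv tensor)
open Groth.Agent.H10Inj.SheafExt (homFunctor homRestrictIso)
open Groth.Agent.H25Theta (tI pT)

attribute [local instance] HasDerivedCategory.standard

namespace Groth.Agent.H4Rel

attribute [local instance] H06Mod.stalkAlgebra

theorem three_le_of_not_le_two {a : WithBot ℕ∞} (h : ¬ a ≤ ((2 : ℕ) : WithBot ℕ∞)) : ((3 : ℕ) : WithBot ℕ∞) ≤ a := by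
  induction a using WithBot.recBotCoe with
  | bot => exact absurd bot_le h
  | coe a =>
    have h' : ((2 : ℕ) : ℕ∞) < a := by
      rw [← not_le]
      exact fun hle => h (WithBot.coe_le_coe.2 hle)
    exact WithBot.coe_le_coe.2 ((ENat.add_one_le_iff (ENat.natCast_ne_top 2)).2 h')

variable (A : Type u) [CommRing A] [IsNoetherianRing A] (Y : Scheme.{u}) [Y.Over (Spec (CommRingCat.of A))]
  [IsProper (Y ↘ Spec (CommRingCat.of A))] (d : ℕ)

/-- A property of fibre points from its values at the points over `t`. -/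
theorem forall_fiber_of (t : Spec (CommRingCat.of A))
    {P : ∀ s : Spec (CommRingCat.of A), (Y ↘ Spec (CommRingCat.of A)).fiber s → Prop}
    (h : ∀ y : Y, (Y ↘ Spec (CommRingCat.of A)) y = t →
      P ((Y ↘ Spec (CommRingCat.of A)) y) ((Y ↘ Spec (CommRingCat.of A)).asFiber y))
    (z : (Y ↘ Spec (CommRingCat.of A)).fiber t) : P t z :=
  haveI := isNoetherian_of_proper A Y
  LeadBrown.Rel.forall_fiber (Y ↘ Spec (CommRingCat.of A)) (P := fun s z => s = t → P s z)
    (fun y hy => h y hy) t z rfl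

variable (hd : Cyc.HasRelDim (Y ↘ Spec (CommRingCat.of A)) d) {ω : Y.Modules}
  (hω : RelCanon.IsDualizingSheaf A Y d ω)
  (hS : RelCanon.IsSkMor (Y ↘ Spec (CommRingCat.of A)) 2)
  {L : Y.Modules} (hL : Coh.IsCoh L) (hLf : FlatMod.IsFlatOver (Y ↘ Spec (CommRingCat.of A)) L)
  (t : Spec (CommRingCat.of A)) (hLt : RelCanon.IsDualizingSheafFib (Y ↘ Spec (CommRingCat.of A)) d L t)

include hd hω hL in
/-- The Cohen–Macaulay points near which `𝓗om(L, ω)` is invertible and evaluation an isomorphism. -/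
theorem exists_twist_open (hflat : Flat (Y ↘ Spec (CommRingCat.of A))) (hLf : FlatMod.IsFlatOver (Y ↘ Spec (CommRingCat.of A)) L)
    (hLt : RelCanon.IsDualizingSheafFib (Y ↘ Spec (CommRingCat.of A)) d L t) :
    ∃ U : Y.Opens, (∀ x ∈ U, MoreMor.IsCMAt (Y ↘ Spec (CommRingCat.of A)) x ∧
        RelCanon.InvertibleAt (RefHull.homSh L ω) x ∧ Function.Bijective (RefHull.stalkMapₗ (evMap L ω) x)) ∧
      ∀ z : (Y ↘ Spec (CommRingCat.of A)).fiber t,
        MoreMor.IsCMAt (Y ↘ Spec (CommRingCat.of A)) (((Y ↘ Spec (CommRingCat.of A)).fiberι t) z) →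
          ((Y ↘ Spec (CommRingCat.of A)).fiberι t) z ∈ U := by
  let f := Y ↘ Spec (CommRingCat.of A)
  haveI : Flat f := hflat
  haveI := isNoetherian_of_proper A Y
  haveI : LocallyOfFinitePresentation f := inferInstance
  obtain ⟨hcoh, -⟩ := isCoh_and_two_le_depth A Y d hd hω
  let U₁ : Y.Opens := ⟨_, (S1341.result f).1⟩
  let S : Set Y := {x | ∃ W : Y.Opens, x ∈ W ∧ W ≤ U₁ ∧ ∀ w ∈ W,
    RelCanon.InvertibleAt (RefHull.homSh L ω) w ∧ Function.Bijective (RefHull.stalkMapₗ (evMap L ω) w)}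
  have hSo : IsOpen S := isOpen_iff_forall_mem_open.2 fun x ⟨W, hx, hW1, hW⟩ =>
    ⟨W, fun w hw => ⟨W, hw, hW1, hW⟩, W.2, hx⟩
  refine ⟨⟨S, hSo⟩, fun x ⟨W, hx, hW1, hW⟩ => ⟨hW1 hx, hW x hx⟩, fun z hz => ?_⟩
  obtain ⟨⟨W₁, h₁, e₁⟩, hbij⟩ := invertibleAt_and_bijective_of_cm A Y d hflat hd hω hL hLf t hLt z hz
  obtain ⟨W₂, h₂, hW₂⟩ := exists_nhd_bijective (evMap L ω)
    (H10Coh.TT.isCoh_tensorMod hL (H29Ref.isCoh_homSh L ω hL hcoh)) hcoh _ hbij
  exact ⟨W₁ ⊓ W₂ ⊓ U₁, ⟨⟨h₁, h₂⟩, hz⟩, inf_le_right, fun w hw => ⟨⟨W₁, hw.1.1, e₁⟩, hW₂ w hw.1.2⟩⟩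

include hd hω hS hL hLt in
/-- On the Cohen–Macaulay part of the fibre the pullback of `𝓗om(L, ω)` is trivial. -/
theorem nonempty_restrict_fibre_homSh (U : Y.Opens) (hU : ∀ x ∈ U, MoreMor.IsCMAt (Y ↘ Spec (CommRingCat.of A)) x ∧
        RelCanon.InvertibleAt (RefHull.homSh L ω) x ∧ Function.Bijective (RefHull.stalkMapₗ (evMap L ω) x)) :
    Nonempty (((Scheme.Modules.pullback ((Y ↘ Spec (CommRingCat.of A)).fiberι t)).obj (RefHull.homSh L ω)).restrict
        (((Y ↘ Spec (CommRingCat.of A)).fiberι t) ⁻¹ᵁ U).ι ≅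
      (Coh.structureModule ((Y ↘ Spec (CommRingCat.of A)).fiber t)).restrict
        (((Y ↘ Spec (CommRingCat.of A)).fiberι t) ⁻¹ᵁ U).ι) := by
  let f := Y ↘ Spec (CommRingCat.of A)
  haveI : Flat f := hS.1
  haveI := isNoetherian_of_proper A Y
  haveI : LocallyOfFinitePresentation f := inferInstance
  let K := (Spec (CommRingCat.of A)).residueField t
  letI : (f.fiber t).Over (Spec (CommRingCat.of K)) := ⟨f.fiberToSpecResidueField t⟩
  haveI : IsProper (f.fiber t ↘ Spec (CommRingCat.of K)) :=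
    MorphismProperty.pullback_snd (P := @IsProper) _ _ inferInstance
  haveI := isNoetherian_of_proper K (f.fiber t)
  have hsq : IsPullback (f.fiberι t) (f.fiber t ↘ Spec (CommRingCat.of K)) f
      ((Spec (CommRingCat.of A)).fromSpecResidueField t) := IsPullback.of_hasPullback _ _
  have hdt := hasRelDim_of_isPullback hsq hd
  have hLt' : RelCanon.IsDualizingSheaf K (f.fiber t) d ((Scheme.Modules.pullback (f.fiberι t)).obj L) := hLt
  obtain ⟨hcoh, -⟩ := isCoh_and_two_le_depth A Y d hd hω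
  let M := RefHull.homSh L ω
  have hM : Coh.IsCoh M := H29Ref.isCoh_homSh L ω hL hcoh
  let Lt := (Scheme.Modules.pullback (f.fiberι t)).obj L
  have hLtc : Coh.IsCoh Lt := isCohPull _ hL
  let Wt := (Scheme.Modules.pullback (f.fiberι t)).obj ω
  let U' := f.fiberι t ⁻¹ᵁ U
  obtain ⟨χ⟩ := nonempty_restrict_bc A Y d hS.1 hd hω hsq U (fun x hx => (hU x hx).1) hLt'
  let φ : tensor Lt ((Scheme.Modules.pullback (f.fiberι t)).obj M) ⟶ Wt :=
    (pT (f.fiberι t) L M).inv ≫ (Scheme.Modules.pullback (f.fiberι t)).map (evMap L ω)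
  haveI : IsIso ((Scheme.Modules.restrictFunctor U'.ι).map (H10Coh.SheafHom.curry φ)) := by
    refine H29Ref.isIso_restrict_of_bijective U' _ fun z hz => ?_
    obtain ⟨hcm, hinv, hbij⟩ := hU _ hz
    obtain ⟨b₀⟩ := nonempty_stalk_equiv_of_invertibleAt hM.1 hinv
    obtain ⟨e⟩ := nonempty_fibre_stalk_equiv_of_cm A Y d hS.1 hd hω hL t hLt z hcm
    let EM := LinearEquiv.ofBijective _ (H06Mod.pullStalkLin_bijective (f.fiberι t) M z)
    refine bijective_curry_stalk φ z (H10Coh.isFP_of_isCoh Lt hLtc)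
      (EM.symm.trans ((TensorProduct.AlgebraTensorModule.congr (LinearEquiv.refl _ _) b₀).trans
        (TensorProduct.AlgebraTensorModule.rid (Y.presheaf.stalk (f.fiberι t z)) ((f.fiber t).presheaf.stalk z)
          ((f.fiber t).presheaf.stalk z)))) e ?_ ?_
    · have h1 : Function.Bijective (RefHull.stalkMapₗ ((Scheme.Modules.pullback (f.fiberι t)).map (evMap L ω)) z) :=
        H8Props.IsoLocus.bijective_stalkLin_pullback (f.fiberι t) (evMap L ω) z hbij
      have h2 : Function.Bijective (RefHull.stalkMapₗ (pT (f.fiberι t) L M).inv z) :=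
        (H29Ref.isIso_iff_bijective_stalk _).1 inferInstance z
      have h3 : ∀ v, RefHull.stalkMapₗ φ z v = RefHull.stalkMapₗ ((Scheme.Modules.pullback (f.fiberι t)).map (evMap L ω)) z
          (RefHull.stalkMapₗ (pT (f.fiberι t) L M).inv z v) := fun v => H29Ref.stalkMapₗ_comp_apply _ _ z v
      show Function.Bijective fun v => RefHull.stalkMapₗ φ z v
      rw [funext h3]
      exact h1.comp h2
    · exact bijective_smul_stalk K (f.fiber t) d (H28Def.flat_of_field _) hdt hLt' z (isCMAt_fiber A Y t z hcm)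
  obtain ⟨θ, hθ⟩ := exists_scalarMap Lt (H10Coh.isFP_of_isCoh Lt hLtc)
  haveI : IsIso ((Scheme.Modules.restrictFunctor U'.ι).map θ) :=
    H29Ref.isIso_restrict_of_bijective U' θ fun z hz =>
      hθ z (bijective_smul_stalk K (f.fiber t) d (H28Def.flat_of_field _) hdt hLt' z
        (isCMAt_fiber A Y t z (hU _ hz).1))
  let ρ : (RefHull.homSh Lt Wt).restrict U'.ι ≅ (RefHull.homSh Lt Lt).restrict U'.ι :=
    (homRestrictIso U' Lt).app Wt ≪≫ (homFunctor (Lt.restrict U'.ι)).mapIso χ ≪≫ ((homRestrictIso U' Lt).app Lt).symm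
  exact ⟨asIso ((Scheme.Modules.restrictFunctor U'.ι).map (H10Coh.SheafHom.curry φ)) ≪≫ ρ ≪≫
    (asIso ((Scheme.Modules.restrictFunctor U'.ι).map θ)).symm⟩

include hd hω hS hL hLf hLt in
set_option maxHeartbeats 4000000 in
/-- The twist is invertible along the fibre and evaluation is bijective there. -/
theorem twist_invertibleAt_and_bijective
    (h3 : (∀ z : (Y ↘ Spec (CommRingCat.of A)).fiber t,
        RelCanon.SkAt 3 (Coh.structureModule ((Y ↘ Spec (CommRingCat.of A)).fiber t)) z) ∨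
      (∃ r : ℕ, 0 < r ∧ (r : (Spec (CommRingCat.of A)).residueField t) ≠ 0 ∧
        ∀ z : (Y ↘ Spec (CommRingCat.of A)).fiber t,
          RelCanon.InvertibleAt (RelCanon.refPowZ L r) (((Y ↘ Spec (CommRingCat.of A)).fiberι t) z) ∧
          RelCanon.InvertibleAt (RelCanon.refPowZ ω r) (((Y ↘ Spec (CommRingCat.of A)).fiberι t) z)))
    (z : (Y ↘ Spec (CommRingCat.of A)).fiber t) :
    RelCanon.InvertibleAt (RefHull.homSh L ω) (((Y ↘ Spec (CommRingCat.of A)).fiberι t) z) ∧
      Function.Bijective (RefHull.stalkMapₗ (evMap L ω) (((Y ↘ Spec (CommRingCat.of A)).fiberι t) z)) := by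
  let f := Y ↘ Spec (CommRingCat.of A)
  haveI : Flat f := hS.1
  haveI := isNoetherian_of_proper A Y
  haveI : LocallyOfFinitePresentation f := inferInstance
  let K := (Spec (CommRingCat.of A)).residueField t
  letI : (f.fiber t).Over (Spec (CommRingCat.of K)) := ⟨f.fiberToSpecResidueField t⟩
  haveI : IsProper (f.fiber t ↘ Spec (CommRingCat.of K)) :=
    MorphismProperty.pullback_snd (P := @IsProper) _ _ inferInstance
  haveI := isNoetherian_of_proper K (f.fiber t)
  have hsq : IsPullback (f.fiberι t) (f.fiber t ↘ Spec (CommRingCat.of K)) f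
      ((Spec (CommRingCat.of A)).fromSpecResidueField t) := IsPullback.of_hasPullback _ _
  have hdt := hasRelDim_of_isPullback hsq hd
  have hLt' : RelCanon.IsDualizingSheaf K (f.fiber t) d ((Scheme.Modules.pullback (f.fiberι t)).obj L) := hLt
  obtain ⟨hcoh, hdep⟩ := isCoh_and_two_le_depth A Y d hd hω
  let M := RefHull.homSh L ω
  have hM : Coh.IsCoh M := H29Ref.isCoh_homSh L ω hL hcoh
  obtain ⟨U, hU, hmem⟩ := exists_twist_open A Y d hd hω hL t hS.1 hLf hLt
  let V : Y.Opens := ⟨_, isOpen_goodCodim A Y d hd (U : Set Y)ᶜ U.2.isClosed_compl 2⟩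
  have hV : ∀ x ∈ V, x ∉ U → 2 ≤ fibDim A Y x := fun x hx hxU => hx x rfl hxU (specializes_refl x)
  have hcm : ∀ w : f.fiber t, f.fiberι t w ∉ U → ¬ MoreMor.IsCMAt f (f.fiberι t w) := fun w hw h => hw (hmem w h)
  have hfV : ∀ w : f.fiber t, f.fiberι t w ∈ V := fun w v hv hvU _ => by
    obtain ⟨v', rfl⟩ : v ∈ Set.range (f.fiberι t).base := by
      rw [Scheme.Hom.range_fiberι]
      exact hv.trans ((f.range_fiberι t).subset (Set.mem_range_self w))
    exact two_le_fibDim_of_not_cm A Y hS _ (hcm v' hvU)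
  have hMU : PicF.IsInvertible (M.restrict U.ι) := isInvertible_restrict_of_invertibleAt U fun x hx => (hU x hx).2.1
  have hdM : ∀ x ∈ V, x ∉ U → (2 : ℕ∞) ≤ LocCoh.depth (Y.presheaf.stalk x) (M.presheaf.stalk x) :=
    fun x hx hxU => two_le_depth_homSh L ω hL hcoh x (hdep x (hV x hx hxU))
  obtain ⟨eU⟩ := nonempty_restrict_fibre_homSh A Y d hd hω hS hL t hLt U hU
  obtain ⟨eP⟩ := nonempty_restrict_pullback (f.fiberι t) U M
  have hUt : Nonempty (((Scheme.Modules.pullback ((f.fiberι t) ∣_ U)).obj (M.restrict U.ι)) ≅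
      (Coh.structureModule (f.fiber t)).restrict ((f.fiberι t) ⁻¹ᵁ U).ι) := ⟨eP.symm ≪≫ eU⟩
  have hdO : ∀ w : f.fiber t, w ∈ (f.fiberι t) ⁻¹ᵁ V → w ∉ (f.fiberι t) ⁻¹ᵁ U →
      (2 : ℕ∞) ≤ LocCoh.depth ((f.fiber t).presheaf.stalk w) ((Coh.structureModule (f.fiber t)).presheaf.stalk w) :=
    fun w hw hw' => by
      rw [← H4Depth.depth_congr (H29Ref.unitEquiv (X := f.fiber t) w)]
      exact two_le_depth_fiber_stalk A Y hS t w (hV _ hw hw')
  have hone : RelCanon.InvertibleAt (Coh.structureModule (f.fiber t)) z :=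
    ⟨⊤, trivial, ⟨Scheme.Modules.restrictUnitIso _⟩⟩
  let y := f.fiberι t z
  by_cases hyU : y ∈ U
  · exact (hU y hyU).2
  have hinv : RelCanon.InvertibleAt M y := by
    rcases h3 with h3 | ⟨r, hr0, hrne, hr⟩
    · refine invertibleAt_of_depth_three A Y hS U V hV t z (hfV z) hM hMU (H10Coh.isCoh_structureModule' _) hdO
        hUt hdM hone fun w hwz hw => ?_
      rw [← H4Depth.depth_congr (H29Ref.unitEquiv (X := f.fiber t) w)]
      refine le_depth_stalk_of_skAt 3 (h3 z) hwz ?_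
      rw [ringKrullDim_fiber_stalk A Y t w]
      exact three_le_of_not_le_two (not_le_fibDim_of_not_cm A Y hS _ (hcm w hw))
    · obtain ⟨k, rfl⟩ : ∃ k, r = k + 1 := ⟨r - 1, by omega⟩
      refine invertibleAt_of_root' A Y hS U V hV t z (hfV z) hM hMU (H10Coh.isCoh_structureModule' _) hdO
        hUt hdM hone k hrne ?_
      obtain ⟨⟨W₁, h₁, e₁⟩, ⟨W₂, h₂, e₂⟩⟩ := hr z
      let W := W₁ ⊓ W₂
      let RL := RelCanon.refPowZ L ((k + 1 : ℕ) : ℤ)
      let Rω := RelCanon.refPowZ ω ((k + 1 : ℕ) : ℤ)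
      have hRL : Coh.IsCoh RL := H29Ref.isCoh_ddual _ (isCoh_tensorPow hL (k + 1))
      have hRω : Coh.IsCoh Rω := H29Ref.isCoh_ddual _ (isCoh_tensorPow hcoh (k + 1))
      have hiL : ∀ x ∈ W, RelCanon.InvertibleAt RL x := fun x hx => ⟨W₁, hx.1, e₁⟩
      have hiω : ∀ x ∈ W, RelCanon.InvertibleAt Rω x := fun x hx => ⟨W₂, hx.2, e₂⟩
      let G := CohB1.tensorMod (RefHull.dual RL) Rω
      have hG : Coh.IsCoh G := H10Coh.TT.isCoh_tensorMod (H29Ref.isCoh_dual _ hRL) hRω
      have hGW : PicF.IsInvertible (G.restrict W.ι) := by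
        obtain ⟨a⟩ := nonempty_restrict_tensorMod W (RefHull.dual RL) Rω
        obtain ⟨a'⟩ := nonempty_restrict_dual W RL
        exact H11Tilde.isInvertible_of_iso (a ≪≫ tI a' (Iso.refl _)).symm
          (H11Ample.isInvertible_tensor
            (H8Props.DivisorSection.isInvertible_dual (isInvertible_restrict_of_invertibleAt W hiL))
            (isInvertible_restrict_of_invertibleAt W hiω))
      let T := CohB1.tensorPow M (k + 1)
      have hT : Coh.IsCoh T := isCoh_tensorPow hM (k + 1)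
      obtain ⟨eW⟩ : Nonempty ((RefHull.ddual T).restrict (W ⊓ V).ι ≅ G.restrict (W ⊓ V).ι) := by
        refine nonempty_restrict_iso_of_restrict (W ⊓ U) (W ⊓ V) (H29Ref.isCoh_ddual T hT) hG
          (fun x hx hx' => two_le_depth_ddual A Y hS T hT x (hV x hx.2 fun h => hx' ⟨hx.1, h⟩))
          (fun x hx hx' => ?_) ?_
        · obtain ⟨es⟩ := nonempty_stalk_equiv_of_invertibleAt hG.1 (invertibleAt_of_isInvertible_restrict hGW hx.1)
          rw [H4Depth.depth_congr es]
          exact two_le_depth_stalk A Y hS x (hV x hx.2 fun h => hx' ⟨hx.1, h⟩)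
        let W' := W ⊓ U
        have hev : IsIso ((Scheme.Modules.restrictFunctor W'.ι).map (evMap L ω)) :=
          H29Ref.isIso_restrict_of_bijective W' _ fun x hx => (hU x hx.2).2.2
        obtain ⟨a⟩ := nonempty_restrict_tensorMod W' L M
        let ε : CohB1.tensorMod (L.restrict W'.ι) (M.restrict W'.ι) ≅ ω.restrict W'.ι :=
          a.symm ≪≫ (@asIso _ _ _ _ _ hev)
        obtain ⟨p⟩ := nonempty_tensorPow_congr ε (k + 1)
        obtain ⟨q⟩ := H7KS.tensorPow_tensorMod (L.restrict W'.ι) (M.restrict W'.ι) (k + 1)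
        have hMW : PicF.IsInvertible (M.restrict W'.ι) :=
          isInvertible_restrict_of_invertibleAt W' fun x hx => (hU x hx.2).2.1
        have hP := H11Ample.isInvertible_tensorPow hMW (k + 1)
        obtain ⟨dd⟩ := nonempty_ddual_tensorMod (CohB1.tensorPow (L.restrict W'.ι) (k + 1)) hP
        obtain ⟨dd'⟩ := nonempty_ddual_congr ⟨q.symm ≪≫ p⟩
        obtain ⟨rL⟩ := nonempty_restrict_refPowZ W' L ((k + 1 : ℕ) : ℤ)
        obtain ⟨rω⟩ := nonempty_restrict_refPowZ W' ω ((k + 1 : ℕ) : ℤ)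
        let rL' : RL.restrict W'.ι ≅ RefHull.ddual (CohB1.tensorPow (L.restrict W'.ι) (k + 1)) := rL
        let rω' : Rω.restrict W'.ι ≅ RefHull.ddual (CohB1.tensorPow (ω.restrict W'.ι) (k + 1)) := rω
        obtain ⟨cancel⟩ := nonempty_iso_dual_tensorMod
          (isInvertible_restrict_of_invertibleAt W' fun x hx => hiL x hx.1)
          (tI rL' (Iso.refl _) ≪≫ dd.symm ≪≫ dd' ≪≫ rω'.symm)
        obtain ⟨g⟩ := nonempty_restrict_tensorMod W' (RefHull.dual RL) Rω
        obtain ⟨g'⟩ := nonempty_restrict_dual W' RL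
        obtain ⟨m⟩ := nonempty_restrict_ddual W' T
        obtain ⟨m'⟩ := nonempty_ddual_congr (nonempty_restrict_tensorPow W' M (k + 1))
        obtain ⟨m''⟩ := nonempty_ddual_of_isInvertible hP
        exact ⟨m ≪≫ m' ≪≫ m'' ≪≫ cancel ≪≫ tI g'.symm (Iso.refl _) ≪≫ g.symm⟩
      exact invertibleAt_of_restrict_iso ⟨eW⟩ (show y ∈ W ⊓ V from ⟨⟨h₁, h₂⟩, hfV z⟩)
        (invertibleAt_of_isInvertible_restrict hGW ⟨h₁, h₂⟩)
  refine ⟨hinv, ?_⟩
  -- evaluation at a point off `U`
  let B := Y.presheaf.stalk y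
  let A₀ := (Spec (CommRingCat.of A)).presheaf.stalk (f y)
  letI : Algebra A₀ B := (f.stalkMap y).hom.toAlgebra
  haveI : IsLocalHom (algebraMap A₀ B) := inferInstanceAs (IsLocalHom (f.stalkMap y).hom)
  let C := (f.fiber t).presheaf.stalk z
  have hs : Function.Surjective (algebraMap B C) := (f.fiberι t).stalkMap_surjective z
  have hk : RingHom.ker (algebraMap B C) = (maximalIdeal A₀).map (algebraMap A₀ B) := ker_fiberι_stalkMap f t z
  haveI : IsLocalHom (algebraMap B C) := inferInstanceAs (IsLocalHom ((f.fiberι t).stalkMap z).hom)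
  let J := PrimeSpectrum.vanishingIdeal (Y.fromSpecStalk y ⁻¹' (U : Set Y)ᶜ)
  have hJ1 : ∀ q : PrimeSpectrum B, ¬ J ≤ q.asIdeal → Y.fromSpecStalk y q ∈ U := fun q hq => by
    by_contra hc
    exact hq fun a ha => (PrimeSpectrum.mem_vanishingIdeal _ _).1 ha q hc
  have hJ2 : ∀ q : PrimeSpectrum B, J ≤ q.asIdeal → Y.fromSpecStalk y q ∉ U := fun q hq => by
    have h : q ∈ PrimeSpectrum.zeroLocus (J : Set B) := hq
    have hc : IsClosed (Y.fromSpecStalk y ⁻¹' (U : Set Y)ᶜ : Set (PrimeSpectrum B)) :=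
      U.2.isClosed_compl.preimage (Y.fromSpecStalk y).continuous
    rw [PrimeSpectrum.zeroLocus_vanishingIdeal_eq_closure] at h
    exact hc.closure_subset h
  have hJm : J ≤ maximalIdeal B := fun a ha => by
    have hc : Y.fromSpecStalk y (closedPoint B) ∉ U := by rw [Scheme.fromSpecStalk_closedPoint]; exact hyU
    exact (PrimeSpectrum.mem_vanishingIdeal _ _).1 ha (closedPoint B) hc
  have hJC : J.map (algebraMap B C) ≠ ⊤ := ne_top_of_le_ne_top (maximalIdeal.isMaximal C).ne_top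
    (Ideal.map_le_iff_le_comap.2 fun a ha => map_nonunit (algebraMap B C) a (hJm ha))
  obtain ⟨hLtc, hLtd⟩ := isCoh_and_two_le_depth K (f.fiber t) d hdt hLt'
  obtain ⟨a₁, b₁, ha₁, hb₁, hab⟩ := exists_reg2_stalk hLtc z _ hJC fun p hp => by
    refine hLtd _ (le_of_le_of_eq (hV _ (hfV _) ?_) (fibDim_fiber A Y t _).symm)
    rw [← Scheme.Hom.comp_apply, ← Scheme.SpecMap_stalkMap_fromSpecStalk, Scheme.Hom.comp_apply]
    exact hJ2 _ (Ideal.map_le_iff_le_comap.1 hp)
  obtain ⟨a, ha, rfl⟩ := (Ideal.mem_map_iff_of_surjective _ hs).1 ha₁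
  obtain ⟨b, hb, rfl⟩ := (Ideal.mem_map_iff_of_surjective _ hs).1 hb₁
  letI : Module A₀ (L.presheaf.stalk y) := FlatMod.moduleStalkOver f L y
  haveI : IsScalarTower A₀ B (L.presheaf.stalk y) := .of_algebraMap_smul fun _ _ => rfl
  haveI : Module.Flat A₀ (L.presheaf.stalk y) := hLf y
  haveI : Module.Finite B (L.presheaf.stalk y) := H06Mod.finite_stalk _ hL.2 y
  let EL := LinearEquiv.ofBijective _ (H06Mod.pullStalkLin_bijective (f.fiberι t) L z)
  have hLC : Lift.Reg2 (algebraMap B C a) (algebraMap B C b) (C ⊗[B] L.presheaf.stalk y) := hab.congr EL.symm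
  have hLB : Lift.Reg2 a b (C ⊗[B] L.presheaf.stalk y) := by
    refine ⟨fun v v' hv => hLC.reg ?_, fun v v' hv => ?_⟩
    · show algebraMap B C a • v = algebraMap B C a • v'
      rwa [algebraMap_smul, algebraMap_smul]
    · obtain ⟨c, hc⟩ := hLC.reg2 v v' (by rw [algebraMap_smul, algebraMap_smul, hv])
      exact ⟨c, by rw [hc, algebraMap_smul]⟩
  have hLy : Lift.Reg2 a b (L.presheaf.stalk y) :=
    Lift.reg2_of_fibre (A := A₀) (hLB.congr (Lift.fibreQuot (A := A₀) hs hk))
  obtain ⟨b₀⟩ := nonempty_stalk_equiv_of_invertibleAt hM.1 hinv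
  let eT : L.presheaf.stalk y ≃ₗ[B] (tensor L M).presheaf.stalk y :=
    ((TensorProduct.rid B (L.presheaf.stalk y)).symm.trans
      (TensorProduct.congr (LinearEquiv.refl B _) b₀.symm)).trans (stalkEquiv L M y)
  obtain ⟨a', b', ha', -, hab'⟩ := exists_reg2_stalk hcoh y J (ne_top_of_le_ne_top (maximalIdeal.isMaximal B).ne_top hJm)
    fun p hp => hdep _ (hV _ ((H7CDiv.fromSpecStalk_specializes p).mem_open V.2 (hfV z)) (hJ2 p hp))
  exact bijective_of_bijective_off (evMap L ω) (H10Coh.TT.isCoh_tensorMod hL hM).1 hcoh.1 U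
    (fun x hx => (hU x hx).2.2) y J hJ1 ha hb (hLy.congr eT) ha' hab'.reg

include hd hω hS hL hLf hLt in
/-- Consequences along the fibre. -/
theorem twist_core
    (h3 : (∀ z : (Y ↘ Spec (CommRingCat.of A)).fiber t,
        RelCanon.SkAt 3 (Coh.structureModule ((Y ↘ Spec (CommRingCat.of A)).fiber t)) z) ∨
      (∃ r : ℕ, 0 < r ∧ (r : (Spec (CommRingCat.of A)).residueField t) ≠ 0 ∧
        ∀ z : (Y ↘ Spec (CommRingCat.of A)).fiber t,
          RelCanon.InvertibleAt (RelCanon.refPowZ L r) (((Y ↘ Spec (CommRingCat.of A)).fiberι t) z) ∧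
          RelCanon.InvertibleAt (RelCanon.refPowZ ω r) (((Y ↘ Spec (CommRingCat.of A)).fiberι t) z))) :
    (∀ y : Y, (Y ↘ Spec (CommRingCat.of A)) y = t →
      RelCanon.InvertibleAt (RefHull.homSh L ω) y ∧ RelCanon.RelSkAt (Y ↘ Spec (CommRingCat.of A)) 2 ω y) ∧
    Nonempty ((Scheme.Modules.pullback ((Y ↘ Spec (CommRingCat.of A)).fiberι t)).obj (RefHull.homSh L ω) ≅
      Coh.structureModule ((Y ↘ Spec (CommRingCat.of A)).fiber t)) ∧
    RelCanon.IsDualizingSheafFib (Y ↘ Spec (CommRingCat.of A)) d ω t ∧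
    (∃ V : Y.Opens, (∀ y : Y, (Y ↘ Spec (CommRingCat.of A)) y = t → y ∈ V) ∧
      Nonempty ((CohB1.tensorMod L (RefHull.homSh L ω)).restrict V.ι ≅ ω.restrict V.ι)) := by
  let f := Y ↘ Spec (CommRingCat.of A)
  haveI : Flat f := hS.1
  haveI := isNoetherian_of_proper A Y
  haveI : LocallyOfFinitePresentation f := inferInstance
  let K := (Spec (CommRingCat.of A)).residueField t
  letI : (f.fiber t).Over (Spec (CommRingCat.of K)) := ⟨f.fiberToSpecResidueField t⟩
  haveI : IsProper (f.fiber t ↘ Spec (CommRingCat.of K)) :=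
    MorphismProperty.pullback_snd (P := @IsProper) _ _ inferInstance
  haveI := isNoetherian_of_proper K (f.fiber t)
  have hsq : IsPullback (f.fiberι t) (f.fiber t ↘ Spec (CommRingCat.of K)) f
      ((Spec (CommRingCat.of A)).fromSpecResidueField t) := IsPullback.of_hasPullback _ _
  have hdt := hasRelDim_of_isPullback hsq hd
  have hLt' : RelCanon.IsDualizingSheaf K (f.fiber t) d ((Scheme.Modules.pullback (f.fiberι t)).obj L) := hLt
  obtain ⟨hcoh, -⟩ := isCoh_and_two_le_depth A Y d hd hω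
  let M := RefHull.homSh L ω
  have hM : Coh.IsCoh M := H29Ref.isCoh_homSh L ω hL hcoh
  have hall := twist_invertibleAt_and_bijective A Y d hd hω hS hL hLf t hLt h3
  have hpt : ∀ y : Y, f y = t → ∃ z : f.fiber t, f.fiberι t z = y := fun y hy => by
    have : y ∈ Set.range (f.fiberι t).base := by rw [Scheme.Hom.range_fiberι]; exact hy
    exact this
  -- the pullback of the twist
  let P := (Scheme.Modules.pullback (f.fiberι t)).obj M
  have hP : Coh.IsCoh P := isCohPull _ hM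
  obtain ⟨U, hU, hmem⟩ := exists_twist_open A Y d hd hω hL t hS.1 hLf hLt
  have hPz : ∀ z : f.fiber t, Nonempty (P.presheaf.stalk z ≃ₗ[(f.fiber t).presheaf.stalk z] (f.fiber t).presheaf.stalk z) :=
    fun z => by
      obtain ⟨b₀⟩ := nonempty_stalk_equiv_of_invertibleAt hM.1 (hall z).1
      exact ⟨(LinearEquiv.ofBijective _ (H06Mod.pullStalkLin_bijective (f.fiberι t) M z)).symm.trans
        ((TensorProduct.AlgebraTensorModule.congr (LinearEquiv.refl _ _) b₀).trans
          (TensorProduct.AlgebraTensorModule.rid (Y.presheaf.stalk (f.fiberι t z)) ((f.fiber t).presheaf.stalk z)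
            ((f.fiber t).presheaf.stalk z)))⟩
  have h2 : ∀ w : f.fiber t, w ∉ f.fiberι t ⁻¹ᵁ U →
      (2 : ℕ∞) ≤ LocCoh.depth ((f.fiber t).presheaf.stalk w) ((f.fiber t).presheaf.stalk w) := fun w hw =>
    two_le_depth_fiber_stalk A Y hS t w (two_le_fibDim_of_not_cm A Y hS _ fun h => hw (hmem w h))
  obtain ⟨eP⟩ : Nonempty (P ≅ Coh.structureModule (f.fiber t)) := by
    refine nonempty_iso_of_restrict (f.fiberι t ⁻¹ᵁ U) hP (H10Coh.isCoh_structureModule' _) (fun w hw => ?_)
      (fun w hw => ?_) (nonempty_restrict_fibre_homSh A Y d hd hω hS hL t hLt U hU)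
    · obtain ⟨e⟩ := hPz w
      rw [H4Depth.depth_congr e]
      exact h2 w hw
    · rw [← H4Depth.depth_congr (H29Ref.unitEquiv (X := f.fiber t) w)]
      exact h2 w hw
  -- the fibre of `ω`
  haveI : IsIso ((Scheme.Modules.pullback (f.fiberι t)).map (evMap L ω)) :=
    (H29Ref.isIso_iff_bijective_stalk _).2 fun z =>
      H8Props.IsoLocus.bijective_stalkLin_pullback (f.fiberι t) (evMap L ω) z (hall z).2
  let i : (Scheme.Modules.pullback (f.fiberι t)).obj L ≅ (Scheme.Modules.pullback (f.fiberι t)).obj ω :=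
    (H10Coh.Tw.rightUnitIso _).symm ≪≫ tI (Iso.refl _) eP.symm ≪≫ (pT (f.fiberι t) L M).symm ≪≫
      asIso ((Scheme.Modules.pullback (f.fiberι t)).map (evMap L ω))
  refine ⟨fun y hy => ?_, ⟨eP⟩, ?_, ?_⟩
  · obtain ⟨z, rfl⟩ := hpt y hy
    refine ⟨(hall z).1, ?_, ?_⟩
    · let y := f.fiberι t z
      let B := Y.presheaf.stalk y
      obtain ⟨b₀⟩ := nonempty_stalk_equiv_of_invertibleAt hM.1 (hall z).1
      let eω : L.presheaf.stalk y ≃ₗ[B] ω.presheaf.stalk y :=
        (((TensorProduct.rid B (L.presheaf.stalk y)).symm.trans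
          (TensorProduct.congr (LinearEquiv.refl B _) b₀.symm)).trans (stalkEquiv L M y)).trans
          (LinearEquiv.ofBijective (RefHull.stalkMapₗ (evMap L ω) y) (hall z).2)
      letI := (f.stalkMap y).hom.toAlgebra
      letI : Module ((Spec (CommRingCat.of A)).presheaf.stalk (f y)) (L.presheaf.stalk y) := FlatMod.moduleStalkOver f L y
      letI : Module ((Spec (CommRingCat.of A)).presheaf.stalk (f y)) (ω.presheaf.stalk y) := FlatMod.moduleStalkOver f ω y
      haveI : IsScalarTower ((Spec (CommRingCat.of A)).presheaf.stalk (f y)) B (L.presheaf.stalk y) :=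
        .of_algebraMap_smul fun _ _ => rfl
      haveI : IsScalarTower ((Spec (CommRingCat.of A)).presheaf.stalk (f y)) B (ω.presheaf.stalk y) :=
        .of_algebraMap_smul fun _ _ => rfl
      haveI : Module.Flat ((Spec (CommRingCat.of A)).presheaf.stalk (f y)) (L.presheaf.stalk y) := hLf y
      exact Module.Flat.of_linearEquiv (eω.restrictScalars ((Spec (CommRingCat.of A)).presheaf.stalk (f y))).symm
    · refine LeadBrown.Rel.forall_fiber f
        (P := fun s w => RelCanon.SkAt 2 ((Scheme.Modules.pullback (f.fiberι s)).obj ω) w →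
          RelCanon.SkAt 2 ((Scheme.Modules.pullback (f.fiberι (f (f.fiberι s w)))).obj ω) (f.asFiber (f.fiberι s w)))
        (fun y hy => by rwa [f.fiberι_asFiber y]) t z ?_
      let l := H06EGA9.stalkIso i z
      exact (H06EGA12.hasSk_iff_of_semilinear (RingHom.id _) Function.surjective_id l.toAddEquiv
        (fun r v => map_smul l r v) 2).2 (skAt_two_dualizing K (f.fiber t) d hdt hLt' z)
  · exact isDualizingSheaf_of_iso i hLt'
  · let S : Set Y := {x | ∃ W : Y.Opens, x ∈ W ∧ ∀ w ∈ W, Function.Bijective (RefHull.stalkMapₗ (evMap L ω) w)}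
    have hSo : IsOpen S := isOpen_iff_forall_mem_open.2 fun x ⟨W, hx, hW⟩ =>
      ⟨W, fun w hw => ⟨W, hw, hW⟩, W.2, hx⟩
    let V₁ : Y.Opens := ⟨S, hSo⟩
    refine ⟨V₁, fun y hy => ?_, ?_⟩
    · obtain ⟨z, rfl⟩ := hpt y hy
      exact exists_nhd_bijective (evMap L ω) (H10Coh.TT.isCoh_tensorMod hL hM) hcoh _ (hall z).2
    · haveI := H29Ref.isIso_restrict_of_bijective V₁ (evMap L ω) fun x ⟨W, hx, hW⟩ => hW x hx
      exact ⟨asIso ((Scheme.Modules.restrictFunctor V₁.ι).map (evMap L ω))⟩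

end Groth.Agent.H4Rel
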