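import Groth.Agent.H4RepDual.Main
import Groth.Agent.H4RepDual.Bound
import Groth.Agent.H17.Canon.RDual
import Groth.Agent.H29Serre.Duality
import Groth.Agent.S1766
import Groth.Prelude.Def_RelCanon

/-!
# The relative dualizing sheaf of a proper morphism to an affine Noetherian base
-/

set_option autoImplicit false
set_option linter.style.haveILetI false
set_option linter.unusedSectionVars false
set_option backward.isDefEq.respectTransparency false
set_option synthInstance.maxHeartbeats 400000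
set_option maxHeartbeats 1000000

universe u

open CategoryTheory CategoryTheory.Limits AlgebraicGeometry
open Groth.Agent.H16Derived
open Groth.Agent.H16Derived.KFlat.Stalk (hasLpull)

attribute [local instance] HasDerivedCategory.standard
namespace Groth.Agent.H4Rel

attribute [local instance 10000] H10Coh.hasSheafifyAb H10Coh.hasWeakSheafifyAb H10Coh.hasExtAb H10Coh.enoughInjAb

/-- The direct image of a morphism of quasi-compact quasi-separated schemes has a right adjoint. -/
theorem exists_rightAdjoint {X Y : Scheme.{u}} [CompactSpace X] [QuasiSeparatedSpace X] [CompactSpace Y]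
    [QuasiSeparatedSpace Y] (f : X ⟶ Y) [DCoh.HasRpush f] :
    ∃ (hf : DCoh.RpushPreservesQCoh f) (a : DCoh.DQCoh Y ⥤ DCoh.DQCoh X), Nonempty (DCoh.RpushQ f hf ⊣ a) := by
  haveI : QuasiCompact f := inferInstance
  haveI : QuasiSeparated f := inferInstance
  have hf : DCoh.RpushPreservesQCoh f := fun K hK => QCohD.isQCohD_rpush f hK
  haveI := S1766.result X Y f hf
  exact ⟨hf, _, ⟨Adjunction.ofIsLeftAdjoint (DCoh.RpushQ f hf)⟩⟩

variable (A : Type u) [CommRing A]

/-- The structure sheaf of an affine scheme as an object of `D_QCoh`. -/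
theorem exists_unit_obj : ∃ O : DCoh.DQCoh (Spec (CommRingCat.of A)),
    Nonempty (O.obj ≅ DCoh.inD (Spec (CommRingCat.of A)) (Coh.structureModule (Spec (CommRingCat.of A)))) := by
  haveI : PreservesFiniteLimits (tilde.functor (CommRingCat.of A)) := inferInstance
  have h : DCoh.IsQCohD ((DCoh.tildeD (CommRingCat.of A)).obj (Dual.inD A A)) :=
    QCohD.isQCohD_tildeD _ _
  exact ⟨⟨_, h⟩, ⟨H4RepDual.tildeUnit (A := A)⟩⟩

variable (Y : Scheme.{u}) [Y.Over (Spec (CommRingCat.of A))]

/-- Two relative dualizing sheaves are isomorphic. -/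
theorem nonempty_iso_of_isDualizingSheaf {d : ℕ} {ω ω' : Y.Modules}
    (hω : RelCanon.IsDualizingSheaf A Y d ω) (hω' : RelCanon.IsDualizingSheaf A Y d ω') : Nonempty (ω ≅ ω') := by
  obtain ⟨s, hq, hs⟩ := hω
  obtain ⟨t, hq', ht⟩ := hω'
  obtain ⟨u, hu⟩ := (ht ω hq).2 s
  obtain ⟨v, hv⟩ := (hs ω' hq').2 t
  have hid : ∀ (M : Y.Modules) (r : Coh.HH Y M d →ₗ[A] A), Canon.dualityMap A Y d M r M (𝟙 M) = r :=
    fun M r => LinearMap.ext fun x => congrArg r (by
      show Sheaf.H.map _ d x = x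
      rw [CategoryTheory.Functor.map_id, Sheaf.H.map_id_apply])
  refine ⟨⟨u, v, (hs ω hq).1 ?_, (ht ω' hq').1 ?_⟩⟩
  · rw [hid]
    show s ∘ₗ Canon.HHlin A (u ≫ v) d = s
    rw [H29Serre.lin_comp, ← LinearMap.comp_assoc, show s ∘ₗ Canon.HHlin A v d = t from hv]
    exact hu
  · rw [hid]
    show t ∘ₗ Canon.HHlin A (v ≫ u) d = t
    rw [H29Serre.lin_comp, ← LinearMap.comp_assoc, show t ∘ₗ Canon.HHlin A u d = s from hu]
    exact hv

variable [IsNoetherianRing A] [IsProper (Y ↘ Spec (CommRingCat.of A))]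
  [DCoh.HasRpush (Y ↘ Spec (CommRingCat.of A))]

/-- `H^{-d}` of `a(O)` is a relative dualizing sheaf. -/
theorem isDualizingSheaf_rightAdjoint {hf : DCoh.RpushPreservesQCoh (Y ↘ Spec (CommRingCat.of A))}
    {a : DCoh.DQCoh (Spec (CommRingCat.of A)) ⥤ DCoh.DQCoh Y}
    (adj : DCoh.RpushQ (Y ↘ Spec (CommRingCat.of A)) hf ⊣ a) (O : DCoh.DQCoh (Spec (CommRingCat.of A)))
    (hO : Nonempty (O.obj ≅ DCoh.inD (Spec (CommRingCat.of A)) (Coh.structureModule (Spec (CommRingCat.of A)))))
    (d : ℕ) (hd : ∀ t, topologicalKrullDim ↥((Y ↘ Spec (CommRingCat.of A)).fiber t) ≤ (d : WithBot ℕ∞)) :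
    RelCanon.IsDualizingSheaf A Y d (DCoh.HD (a.obj O).obj (-(d : ℤ))) := by
  haveI := H4RepDual.hasExtModules Y
  haveI : PreservesFiniteLimits (tilde.functor (CommRingCat.of A)) := inferInstance
  let f := Y ↘ Spec (CommRingCat.of A)
  haveI : CompactSpace Y := QuasiCompact.compactSpace_of_compactSpace f
  haveI : QuasiSeparatedSpace Y := quasiSeparatedSpace_of_quasiSeparated f
  obtain ⟨e⟩ := hO
  let eK : O.obj ≅ (DCoh.tildeD (CommRingCat.of A)).obj (Dual.inD A A) :=
    e ≪≫ (H4RepDual.tildeUnit (A := A)).symm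
  have hbound := H4RepDual.isLE_rpush_inD f d hd
  have hO0 : O.obj.IsGE 0 := by
    haveI : (DCoh.inD (Spec (CommRingCat.of A)) (Coh.structureModule (Spec (CommRingCat.of A)))).IsGE 0 := inferInstance
    exact DerivedCategory.TStructure.t.isGE_of_iso e.symm 0
  obtain ⟨t, ht, hu⟩ := H4RepDual.exists_trace_aux f (hf := hf) adj d (fun M hM => hbound M hM) O (Dual.inD A A)
    inferInstance eK (by simpa using H4RepDual.isGE_of_bound f hf adj d (fun M hM => hbound M hM) O 0 hO0)
  let s : Dual.HD A (Dual.inD A A) 0 ≃ₗ[A] A :=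
    ((DerivedCategory.singleFunctorCompHomologyFunctorIso (ModuleCat.{u} A) 0).app (ModuleCat.of A A)).toLinearEquiv
  let t' : Coh.HH Y (DCoh.HD (a.obj O).obj (-(d : ℤ))) d →ₗ[A] A :=
    { toFun := fun x => s (t x)
      map_add' := fun x y => by rw [map_add, map_add]
      map_smul' := fun r x => (congrArg s (ht r x)).trans (s.map_smul r (t x)) }
  refine ⟨t', (a.obj O).property _, fun F hF => ?_⟩
  refine ⟨fun φ φ' h => ?_, fun ψ => ?_⟩
  · obtain ⟨φ₀, -, huniq⟩ := hu F hF (s.symm.toAddMonoidHom.comp (Canon.dualityMap A Y d _ t' F φ).toAddMonoidHom)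
      fun r x => (congrArg s.symm ((Canon.dualityMap A Y d _ t' F φ).map_smul r x)).trans (s.symm.map_smul r _)
    rw [huniq φ fun x => s.symm_apply_apply _,
      huniq φ' fun x => by
        show s.symm (Canon.dualityMap A Y d _ t' F φ x) = _
        rw [h]
        exact s.symm_apply_apply _]
  · obtain ⟨φ, hφ, -⟩ := hu F hF (s.symm.toAddMonoidHom.comp ψ.toAddMonoidHom)
      fun r x => (congrArg s.symm (ψ.map_smul r x)).trans (s.symm.map_smul r _)
    exact ⟨φ, LinearMap.ext fun x => ((congrArg s (hφ x)).symm.trans (s.apply_symm_apply (ψ x)) : _)⟩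

end Groth.Agent.H4Rel
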