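import Groth.Agent.H4RSH.RelDualS2
import Groth.Agent.H4Rel.Trace

/-!
# The depth of the lowest cohomology of `φ^! R`
-/

set_option autoImplicit false
set_option linter.style.haveILetI false
set_option linter.unusedSectionVars false
set_option backward.isDefEq.respectTransparency false
set_option maxHeartbeats 2000000
set_option synthInstance.maxHeartbeats 400000

universe u

open CategoryTheory CategoryTheory.Limits AlgebraicGeometry TensorProduct
open Groth.Agent.H4DR.Ext (Ex)

attribute [local instance] HasDerivedCategory.standard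

namespace Groth.Agent.H4Rel

/-- `Ext` into a local ring in the degree of a grade, when the ring is two deeper. -/
theorem two_le_depth_ext {L : Type u} [CommRing L] [IsNoetherianRing L] [IsLocalRing L] (M : Type u)
    [AddCommGroup M] [Module L M] [Module.Finite L M] {J : Ideal L} (hJ : J ≤ IsLocalRing.maximalIdeal L)
    (hM : J ≤ Module.annihilator L M) (c : ℕ) (hc : (c : ℕ∞) ≤ LocCoh.idealDepth J L)
    (hd : ((c + 2 : ℕ) : ℕ∞) ≤ LocCoh.depth L L) :
    2 ≤ LocCoh.depth L (Abelian.Ext (ModuleCat.of L M) (ModuleCat.of L L) c) := by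
  have hne : ∀ I : Ideal L, I ≤ IsLocalRing.maximalIdeal L → I • (⊤ : Submodule L L) ≠ ⊤ := fun I hI => by
    rw [smul_eq_mul, Ideal.mul_top]
    exact ne_top_of_le_ne_top (IsLocalRing.maximalIdeal.isMaximal L).ne_top hI
  obtain ⟨rs, rfl, hmem, hreg⟩ := H4Depth.exists_isWeaklyRegular_of_le_idealDepth (hne J hJ) hc
  obtain ⟨-, ⟨e⟩⟩ := H4LC.ext_rees M rs L hreg fun r hr => hM (hmem r hr)
  rw [H4Depth.depth_congr e]
  refine H1CAlg.two_le_idealDepth_hom _ M ?_
  refine (ENat.add_le_add_iff_right (ENat.coe_ne_top rs.length)).1 ?_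
  rw [H4Depth.idealDepth_quotient_ofList_add_length (hne _ le_rfl) rs hreg fun r hr => hJ (hmem r hr)]
  refine le_trans (le_of_eq ?_) hd
  push_cast
  exact add_comm _ _

section Affine

variable {R A : Type u} [CommRing R] [CommRing A] [IsNoetherianRing R] [IsNoetherianRing A] [Algebra R A]
  {n : ℕ} (ψ : MvPolynomial (Fin n) R →ₐ[R] A) (hψ : Function.Surjective ψ)

include hψ in
/-- The polynomial ring at a prime of `A` with small transcendence degree. -/
theorem le_depth_atPrime (r : ℕ) (q : PrimeSpectrum A)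
    (h : Dual3.resTrdeg (Spec.map (CommRingCat.ofHom (algebraMap R A))) q ≤ (r : Cardinal.{u})) :
    ((n - r : ℕ) : ℕ∞) ≤ LocCoh.depth (Localization.AtPrime (q.asIdeal.comap ψ.toRingHom))
      (Localization.AtPrime (q.asIdeal.comap ψ.toRingHom)) := by
  let P := MvPolynomial (Fin n) R
  let i := Spec.map (CommRingCat.ofHom ψ.toRingHom)
  let g := Spec.map (CommRingCat.ofHom (algebraMap R P))
  haveI : IsClosedImmersion i := IsClosedImmersion.spec_of_surjective _ hψ
  haveI := LeadBrown.Aff.smoothOfRelativeDimension_mvPolynomial R n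
  have hw : i ≫ g = Spec.map (CommRingCat.ofHom (algebraMap R A)) := by
    rw [← Spec.map_comp, ← CommRingCat.ofHom_comp]
    congr 2
    exact ψ.comp_algebraMap
  have h1 := H4RSH.RelDualS2.le_depth_stalk i g n r q (by rw [hw]; exact h)
  obtain ⟨e₀⟩ := H4DualSch.exists_stalk_ringEquiv (A := P) (𝟙 (Spec (CommRingCat.of P)))
    (PrimeSpectrum.comap ψ.toRingHom q)
  exact h1.trans_eq (LeadBrown.Rel.depth_eq_of_ringEquiv e₀)

include hψ in
/-- The grade of the kernel at a prime of `A`. -/
theorem le_idealDepth_kernel (d : ℕ)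
    (hd : ∀ q : PrimeSpectrum A, Dual3.resTrdeg (Spec.map (CommRingCat.ofHom (algebraMap R A))) q ≤ (d : Cardinal.{u}))
    (q : PrimeSpectrum A) :
    ((n - d : ℕ) : ℕ∞) ≤ LocCoh.idealDepth
      ((RingHom.ker ψ.toRingHom).map (algebraMap _ (Localization.AtPrime (q.asIdeal.comap ψ.toRingHom))))
      (Localization.AtPrime (q.asIdeal.comap ψ.toRingHom)) := by
  let P := MvPolynomial (Fin n) R
  let 𝔮 := q.asIdeal.comap ψ.toRingHom
  let L := Localization.AtPrime 𝔮
  let I' := (RingHom.ker ψ.toRingHom).map (algebraMap P L)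
  haveI : IsNoetherianRing L := IsLocalization.isNoetherianRing 𝔮.primeCompl L inferInstance
  by_cases hI : I' • (⊤ : Submodule L L) = ⊤
  · rw [H4Depth.idealDepth_eq_top hI]; exact le_top
  obtain ⟨Q, hQ, hIQ, hQd⟩ := H4Depth.exists_prime_depth_localization_eq I' L hI
  rw [← hQd]
  let 𝔔 : Ideal P := Q.comap (algebraMap P L)
  have hk : RingHom.ker ψ.toRingHom ≤ 𝔔 := Ideal.map_le_iff_le_comap.1 hIQ
  obtain ⟨q', hq'0⟩ : (⟨𝔔, inferInstance⟩ : PrimeSpectrum P) ∈ Set.range (PrimeSpectrum.comap ψ.toRingHom) := by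
    rw [range_comap_of_surjective _ _ hψ]
    exact hk
  have hq' : q'.asIdeal.comap ψ.toRingHom = 𝔔 := congrArg PrimeSpectrum.asIdeal hq'0
  have h1 := le_depth_atPrime ψ hψ d q' (hd q')
  let e : Localization.AtPrime (q'.asIdeal.comap ψ.toRingHom) ≃+* Localization.AtPrime Q :=
    (IsLocalization.ringEquivOfRingEquiv (M := (q'.asIdeal.comap ψ.toRingHom).primeCompl)
      (T := 𝔔.primeCompl) (Localization.AtPrime (q'.asIdeal.comap ψ.toRingHom)) (Localization.AtPrime 𝔔)
      (RingEquiv.refl P) (Submonoid.ext fun x => ⟨fun ⟨y, hy, hyx⟩ => hyx ▸ (hq' ▸ hy : y ∉ 𝔔), fun hx => ⟨x, (hq'.symm ▸ hx : x ∉ q'.asIdeal.comap ψ.toRingHom), rfl⟩⟩)).trans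
      (IsLocalization.localizationLocalizationAtPrimeIsoLocalization 𝔮.primeCompl Q).toRingEquiv
  refine (h1.trans_eq (LeadBrown.Rel.depth_eq_of_ringEquiv (R := Localization.AtPrime (q'.asIdeal.comap ψ.toRingHom)) (S := Localization.AtPrime Q) e).symm).trans_eq ?_
  exact H4Depth.depth_congr ((IsLocalizedModule.linearEquiv Q.primeCompl (Algebra.linearMap L (Localization.AtPrime Q))
    (LocalizedModule.mkLinearMap Q.primeCompl L)).extendScalarsOfIsLocalization Q.primeCompl (Localization.AtPrime Q))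

variable [DRing.HasLBaseChange (algebraMap R (MvPolynomial (Fin n) R))]
  {Rψ : Dual.D (MvPolynomial (Fin n) R) ⥤ Dual.D A} (adj : DRing.restrictD ψ.toRingHom ⊣ Rψ)

include hψ adj in
/-- `H^{-d}(φ^! R)` has depth two at points of transcendence degree at most `d - 2`. -/
theorem two_le_depth_lowest (d : ℕ)
    (hd : ∀ q : PrimeSpectrum A, Dual3.resTrdeg (Spec.map (CommRingCat.ofHom (algebraMap R A))) q ≤ (d : Cardinal.{u}))
    (q : PrimeSpectrum A) (r : ℕ) (hr : r + 2 ≤ d)
    (h : Dual3.resTrdeg (Spec.map (CommRingCat.ofHom (algebraMap R A))) q ≤ (r : Cardinal.{u})) :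
    2 ≤ LocCoh.depth (Localization.AtPrime q.asIdeal)
      (LocalizedModule q.asIdeal.primeCompl (Dual.HD A (Dual2.shriekVia n Rψ (Dual.inD R R)) (-(d : ℤ)))) := by
  obtain ⟨e, he⟩ := H4RSH.RelDualS2.exists_addEquiv_ext ψ adj (-(d : ℤ))
  letI : Algebra (MvPolynomial (Fin n) R) A := ψ.toRingHom.toAlgebra
  haveI : Module.Finite (MvPolynomial (Fin n) R) A := Module.Finite.of_surjective (Algebra.linearMap _ A) hψ
  rcases lt_or_ge n d with hneg | hpos
  · haveI := H4DR.Dualizing.subsingleton_ex_neg (A := MvPolynomial (Fin n) R) A (MvPolynomial (Fin n) R)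
      (show (n : ℤ) + -(d : ℤ) < 0 by omega)
    haveI := e.toEquiv.subsingleton
    exact le_of_le_of_eq le_top (H4Depth.idealDepth_eq_top (Subsingleton.elim _ _)).symm
  rw [(H4RSH.RelDualS2.localized_ext_invariants hψ q.asIdeal
    (Dual.HD A (Dual2.shriekVia n Rψ (Dual.inD R R)) (-(d : ℤ))) _ (n - d) (by omega) e he).1]
  haveI : IsNoetherianRing (Localization.AtPrime (q.asIdeal.comap (algebraMap (MvPolynomial (Fin n) R) A))) :=
    IsLocalization.isNoetherianRing (q.asIdeal.comap (algebraMap (MvPolynomial (Fin n) R) A)).primeCompl _ inferInstance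
  refine two_le_depth_ext _ (J := (RingHom.ker ψ.toRingHom).map (algebraMap _ _)) ?_ ?_ (n - d)
    (le_idealDepth_kernel ψ hψ d hd q) ((le_depth_atPrime ψ hψ r q h).trans' (by exact_mod_cast (by omega : n - d + 2 ≤ n - r)))
  · refine Ideal.map_le_iff_le_comap.2 fun z hz => ?_
    rw [show (IsLocalRing.maximalIdeal (Localization.AtPrime (q.asIdeal.comap (algebraMap (MvPolynomial (Fin n) R) A)))).comap (algebraMap _ _) = q.asIdeal.comap (algebraMap (MvPolynomial (Fin n) R) A)
      from IsLocalization.AtPrime.under_maximalIdeal _ (q.asIdeal.comap (algebraMap (MvPolynomial (Fin n) R) A))]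
    rw [Ideal.mem_comap, show algebraMap (MvPolynomial (Fin n) R) A z = 0 from hz]
    exact zero_mem _
  · refine Ideal.map_le_iff_le_comap.2 fun a ha => Module.mem_annihilator.2 fun t => ?_
    rw [algebraMap_smul]
    induction t using TensorProduct.induction_on with
    | zero => simp
    | add u v hu hv => rw [smul_add, hu, hv, add_zero]
    | tmul l m =>
      rw [← TensorProduct.tmul_smul, Algebra.smul_def, show algebraMap (MvPolynomial (Fin n) R) A a = 0 from ha,
        zero_mul, TensorProduct.tmul_zero]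

end Affine

end Groth.Agent.H4Rel
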