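import Groth.Agent.H4Rel.Depth
import Groth.Agent.H4RSH.ProperLocal
import Groth.Agent.H26Dual2.RightAdj
import Groth.Agent.H4DR.TorAmp.Exists
import Groth.Agent.S3606
import Groth.Agent.LeadBrown.Aff.Apply
import Groth.Agent.LeadBrown.Aff.Bridge
import Groth.Agent.LeadBrown.Rel.Main
import Groth.Agent.H4PushUniv.Basic

/-!
# The depth of the relative dualizing sheaf
-/

set_option autoImplicit false
set_option linter.style.haveILetI false
set_option linter.unusedSectionVars false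
set_option backward.isDefEq.respectTransparency false
set_option maxHeartbeats 2000000
set_option synthInstance.maxHeartbeats 400000

universe u

open CategoryTheory CategoryTheory.Limits AlgebraicGeometry
open Groth.Agent.H16Derived
open Groth.Agent.H16Derived.KFlat.Stalk (rd hasLpull)

attribute [local instance] HasDerivedCategory.standard

namespace Groth.Agent.H4Rel

/-- An open immersion does not change the residual transcendence degree. -/
theorem resTrdeg_comp {X Y S : Scheme.{u}} (j : X ⟶ Y) [IsOpenImmersion j] (g : Y ⟶ S) (x : X) :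
    Dual3.resTrdeg (j ≫ g) x = Dual3.resTrdeg g (j x) := by
  letI := (g.residueFieldMap (j x)).hom.toAlgebra
  letI : Algebra (S.residueField (g (j x))) (X.residueField x) := ((j ≫ g).residueFieldMap x).hom.toAlgebra
  have hb : Function.Bijective (j.residueFieldMap x).hom := by
    refine ⟨RingHom.injective _, fun y => ?_⟩
    obtain ⟨s, rfl⟩ := X.residue_surjective x y
    obtain ⟨r, rfl⟩ := (ConcreteCategory.bijective_of_isIso (j.stalkMap x)).2 s
    exact ⟨Y.residue (j x) r, congr($(Scheme.residue_residueFieldMap j x).hom r)⟩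
  have hc : ∀ c : S.residueField (g (j x)), (j.residueFieldMap x).hom ((g.residueFieldMap (j x)).hom c) =
      ((j ≫ g).residueFieldMap x).hom c := fun c => by
    rw [Scheme.residueFieldMap_comp]; rfl
  let e : Y.residueField (j x) ≃ₐ[S.residueField (g (j x))] X.residueField x :=
    AlgEquiv.ofRingEquiv (f := RingEquiv.ofBijective _ hb) hc
  exact e.trdeg_eq.symm

/-- The residual transcendence degree in a fibre of pure dimension. -/
theorem resTrdeg_bounds {Y S : Scheme.{u}} (f : Y ⟶ S) [LocallyOfFiniteType f] (d : ℕ) (hd : Cyc.HasRelDim f d) (y : Y) :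
    ∃ t : ℕ, Dual3.resTrdeg f y = t ∧
      ringKrullDim ((f.fiber (f y)).presheaf.stalk (f.asFiber y)) + t = (d : WithBot ℕ∞) := by
  haveI := H8Props.FieldDim.locallyOfFiniteType_fiberToSpec f (f y)
  obtain ⟨t, ht, htr⟩ := H8Props.FieldDim.fibreDimAt_eq f y
  refine ⟨t, htr, ?_⟩
  rw [← ringKrullDim_eq_of_ringEquiv (H8Props.FibreStalk.asFiberStalkEquiv f y), ← ht]
  exact H8Props.FieldDim.localDim_eq_of_pure (k := S.residueField (f y)) (f.fiberToSpecResidueField (f y)) _ _ (hd (f y))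

variable (A : Type u) [CommRing A] [IsNoetherianRing A] (Y : Scheme.{u}) [Y.Over (Spec (CommRingCat.of A))]
  [IsProper (Y ↘ Spec (CommRingCat.of A))]
  [DCoh.HasRpush (Y ↘ Spec (CommRingCat.of A))]
  {hf : DCoh.RpushPreservesQCoh (Y ↘ Spec (CommRingCat.of A))}
  {a : DCoh.DQCoh (Spec (CommRingCat.of A)) ⥤ DCoh.DQCoh Y}
  (adj : DCoh.RpushQ (Y ↘ Spec (CommRingCat.of A)) hf ⊣ a) (O : DCoh.DQCoh (Spec (CommRingCat.of A)))
  (hO : Nonempty (O.obj ≅ DCoh.inD (Spec (CommRingCat.of A)) (Coh.structureModule (Spec (CommRingCat.of A)))))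

include adj hO in
/-- `a(O)` on an affine chart is `φ^! A`. -/
theorem exists_shriek_chart {B : Type u} [CommRing B] [Algebra A B]
    (j : Spec (CommRingCat.of B) ⟶ Y) [IsOpenImmersion j]
    (hj : j ≫ (Y ↘ Spec (CommRingCat.of A)) = Spec.map (CommRingCat.ofHom (algebraMap A B))) {n : ℕ}
    (ψ : MvPolynomial (Fin n) A →ₐ[A] B) (hψ : Function.Surjective ψ)
    [DRing.HasLBaseChange (algebraMap A (MvPolynomial (Fin n) A))]
    {Rψ : Dual.D (MvPolynomial (Fin n) A) ⥤ Dual.D B} (adjψ : DRing.restrictD ψ.toRingHom ⊣ Rψ) :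
    Nonempty ((rd j).obj (a.obj O).obj ≅
      (DCoh.tildeD (CommRingCat.of B)).obj (Dual2.shriekVia n Rψ (Dual.inD A A))) := by
  haveI : ∀ (U V : Scheme.{u}) (j : U ⟶ V) [IsOpenImmersion j],
      PreservesFiniteLimits (Scheme.Modules.restrictFunctor j) := fun U V j _ => inferInstance
  haveI : ∀ (S : CommRingCat.{u}), PreservesFiniteLimits (tilde.functor S) := inferInstance
  haveI : Algebra.FiniteType A B := Algebra.FiniteType.of_surjective ψ hψ
  haveI : IsNoetherianRing B := Algebra.FiniteType.isNoetherianRing A B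
  obtain ⟨c, hpush, hc, a₁, adj₁, O₁, ⟨eO₁⟩, ⟨e⟩⟩ := LeadBrown.Aff.exists_shriek_model ψ hψ adjψ
  let c' : DEt.Compactification (LeadBrown.Aff.specMor A B) :=
    { Xbar := Y, j := j, fbar := Y ↘ Spec (CommRingCat.of A), isOpenImmersion := inferInstance,
      isProper := inferInstance, fac := hj }
  haveI : DCoh.HasRpush c'.fbar := ‹DCoh.HasRpush (Y ↘ Spec (CommRingCat.of A))›
  haveI := c.isOpenImmersion
  haveI : IsOpenImmersion c'.j := ‹IsOpenImmersion j›
  haveI := LeadBrown.Aff.isSepFT_specMor (R := A) (A := B)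
  haveI := LeadBrown.Aff.isSepFT_id (Spec (CommRingCat.of A))
  obtain ⟨N⟩ := S3606.result (Spec (CommRingCat.of A)) (Spec (CommRingCat.of B)) (Spec (CommRingCat.of A))
    (LeadBrown.Aff.specMor A B) (𝟙 _) (LeadBrown.Aff.specMor A B) (Category.comp_id _) c c' hc hf a₁ a adj₁ adj
  obtain ⟨eO⟩ := hO
  haveI : (DCoh.inD (Spec (CommRingCat.of A)) (Coh.structureModule (Spec (CommRingCat.of A)))).IsGE 0 := inferInstance
  let O' : (Dual3.IsBddBelowQ (Spec (CommRingCat.of A))).FullSubcategory :=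
    ⟨O, 0, DerivedCategory.TStructure.t.isGE_of_iso eO.symm 0⟩
  let i : O₁ ≅ O := (ObjectProperty.ι DCoh.IsQCohD).preimageIso (eO₁ ≪≫ eO.symm)
  exact ⟨(N.app O').symm ≪≫ (Dual3.shriekC c a₁).mapIso i.symm ≪≫ e.symm⟩

include adj hO in
/-- `H^{-d}(a(O))` has depth two at points whose fibre has local dimension at least two. -/
theorem two_le_depth_HD (d : ℕ) (hd : Cyc.HasRelDim (Y ↘ Spec (CommRingCat.of A)) d) (y : Y)
    (hy : (2 : WithBot ℕ∞) ≤ ringKrullDim (((Y ↘ Spec (CommRingCat.of A)).fiber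
      ((Y ↘ Spec (CommRingCat.of A)) y)).presheaf.stalk ((Y ↘ Spec (CommRingCat.of A)).asFiber y))) :
    (2 : ℕ∞) ≤ LocCoh.depth (Y.presheaf.stalk y) ((DCoh.HD (a.obj O).obj (-(d : ℤ))).presheaf.stalk y) := by
  let f := Y ↘ Spec (CommRingCat.of A)
  obtain ⟨B, iB, j, hjo, q, rfl⟩ : ∃ (B : Type u) (_ : CommRing B) (j : Spec (CommRingCat.of B) ⟶ Y)
      (_ : IsOpenImmersion j) (q : PrimeSpectrum B), j.base q = y := by
    obtain ⟨q, hq⟩ := Y.affineCover.covers y
    exact ⟨_, inferInstance, Y.affineCover.f (Y.affineCover.idx y),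
      inferInstanceAs (IsOpenImmersion (Y.affineCover.f (Y.affineCover.idx y))), q, hq⟩
  obtain ⟨φ, hφ⟩ : ∃ φ : A →+* B, Spec.map (CommRingCat.ofHom φ) = j ≫ f :=
    ⟨(Spec.preimage (j ≫ f)).hom, Spec.map_preimage _⟩
  letI := φ.toAlgebra
  haveI : Algebra.FiniteType A B := by
    have h : LocallyOfFiniteType (j ≫ f) := inferInstance
    rw [← hφ, HasRingHomProperty.Spec_iff (P := @LocallyOfFiniteType)] at h
    exact h
  haveI : IsNoetherianRing B := Algebra.FiniteType.isNoetherianRing A B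
  obtain ⟨n, ψ, hψ⟩ := (Algebra.FiniteType.iff_quotient_mvPolynomial'' (R := A) (S := B)).1 inferInstance
  haveI := H4DR.TorAmp.hasLBaseChange (algebraMap A (MvPolynomial (Fin n) A))
  haveI := H26Dual2.isLeftAdjoint_TD ψ.toRingHom
  let adjψ : DRing.restrictD ψ.toRingHom ⊣ _ :=
    Adjunction.ofIsLeftAdjoint (H26Dual2.TD ψ.toRingHom)
  obtain ⟨e⟩ := exists_shriek_chart A Y adj O hO j hφ.symm ψ hψ adjψ
  obtain ⟨φ', hφ', T, hT⟩ := H4RSH.ProperLocal.exists_semilinear_HD_stalk j (a.obj O).obj _ e q (-(d : ℤ))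
  obtain ⟨g1, -, -⟩ := H06EGA12.invariants_of_semilinear φ' hφ' T hT
  refine le_of_le_of_eq ?_ g1.symm
  have htr : ∀ q' : PrimeSpectrum B, Dual3.resTrdeg (Spec.map (CommRingCat.ofHom (algebraMap A B))) q' =
      Dual3.resTrdeg f (j q') := fun q' => by
    rw [← resTrdeg_comp j f q', ← hφ]
    rfl
  obtain ⟨t, ht, hdim⟩ := resTrdeg_bounds f d hd (j q)
  have ht2 : t + 2 ≤ d := by
    have h : ((2 : ℕ) : WithBot ℕ∞) + t ≤ (d : WithBot ℕ∞) := (add_le_add hy le_rfl).trans hdim.le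
    norm_cast at h
    omega
  refine two_le_depth_lowest ψ hψ adjψ d (fun q' => ?_) q t ht2 (by rw [htr]; exact ht.le)
  obtain ⟨s, hs, hsdim⟩ := resTrdeg_bounds f d hd (j q')
  rw [htr, hs, Nat.cast_le]
  have h : (s : WithBot ℕ∞) ≤ (d : WithBot ℕ∞) := le_of_le_of_eq (le_add_of_nonneg_left ringKrullDim_nonneg_of_nontrivial) hsdim
  exact_mod_cast h

end Groth.Agent.H4Rel
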