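import Groth.Agent.H4Rel.LocalBC
import Groth.Agent.H22Alg.DegAmple

/-!
# Gorenstein indices
-/

set_option autoImplicit false
set_option linter.style.haveILetI false
set_option linter.unusedSectionVars false
set_option backward.isDefEq.respectTransparency false
set_option maxHeartbeats 1000000
set_option synthInstance.maxHeartbeats 400000

universe u

open CategoryTheory CategoryTheory.Limits AlgebraicGeometry
open Groth.Agent.H16Derived

attribute [local instance] HasDerivedCategory.standard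

namespace Groth.Agent.H4Rel

/-- A module invertible over an open is invertible at its points. -/
theorem invertibleAt_of_isInvertible_restrict {X : Scheme.{u}} {F : X.Modules} {W : X.Opens}
    (h : PicF.IsInvertible (F.restrict W.ι)) {x : X} (hx : x ∈ W) : RelCanon.InvertibleAt F x :=
  H29Ref.exists_iso_of_isFreeOfRankNear_one F x (H29Ref.isFreeOfRankNear_of_restrict F W h (Iso.refl _) x hx)

/-- Restricting an isomorphism to a smaller open. -/
theorem nonempty_restrict_mono {X : Scheme.{u}} {F G : X.Modules} {W V : X.Opens} (h : W ≤ V)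
    (e : F.restrict V.ι ≅ G.restrict V.ι) : Nonempty (F.restrict W.ι ≅ G.restrict W.ι) :=
  ⟨(Scheme.Modules.restrictFunctorCongr (f := W.ι) (g := X.homOfLE h ≫ V.ι) (by simp)).app F ≪≫
    (Scheme.Modules.restrictFunctorComp (X.homOfLE h) V.ι).app F ≪≫
    (Scheme.Modules.restrictFunctor (X.homOfLE h)).mapIso e ≪≫
    ((Scheme.Modules.restrictFunctorComp (X.homOfLE h) V.ι).app G).symm ≪≫
    ((Scheme.Modules.restrictFunctorCongr (f := W.ι) (g := X.homOfLE h ≫ V.ι) (by simp)).app G).symm⟩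

/-- Invertibility at a point only depends on a neighbourhood. -/
theorem invertibleAt_of_restrict_iso {X : Scheme.{u}} {F G : X.Modules} {V : X.Opens}
    (e : Nonempty (F.restrict V.ι ≅ G.restrict V.ι)) {x : X} (hx : x ∈ V) (h : RelCanon.InvertibleAt G x) :
    RelCanon.InvertibleAt F x := by
  obtain ⟨e⟩ := e
  obtain ⟨W, hW, ⟨eW⟩⟩ := h
  obtain ⟨a⟩ := nonempty_restrict_mono (inf_le_right : W ⊓ V ≤ V) e
  refine ⟨W ⊓ V, ⟨hW, hx⟩, ⟨a ≪≫ ?_⟩⟩
  exact (Scheme.Modules.restrictFunctorCongr (f := (W ⊓ V).ι) (g := X.homOfLE inf_le_left ≫ W.ι) (by simp)).app G ≪≫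
      (Scheme.Modules.restrictFunctorComp (X.homOfLE inf_le_left) W.ι).app G ≪≫
      (Scheme.Modules.restrictFunctor (X.homOfLE inf_le_left)).mapIso eW ≪≫
      Scheme.Modules.restrictUnitIso (X.homOfLE inf_le_left)

/-- Restriction commutes with tensor products. -/
theorem nonempty_restrict_tensorMod {X : Scheme.{u}} (U : X.Opens) (M N : X.Modules) :
    Nonempty ((CohB1.tensorMod M N).restrict U.ι ≅ CohB1.tensorMod (M.restrict U.ι) (N.restrict U.ι)) :=
  ⟨(Scheme.Modules.restrictFunctorIsoPullback U.ι).app _ ≪≫ H25Theta.pT U.ι M N ≪≫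
    H25Theta.tI ((Scheme.Modules.restrictFunctorIsoPullback U.ι).app M).symm
      ((Scheme.Modules.restrictFunctorIsoPullback U.ι).app N).symm⟩

variable (A : Type u) [CommRing A] [IsNoetherianRing A] (Y : Scheme.{u}) [Y.Over (Spec (CommRingCat.of A))]
  [IsProper (Y ↘ Spec (CommRingCat.of A))] (d : ℕ)
  (hd : Cyc.HasRelDim (Y ↘ Spec (CommRingCat.of A)) d) {ω : Y.Modules}
  (hω : RelCanon.IsDualizingSheaf A Y d ω)
  (hS : RelCanon.IsSkMor (Y ↘ Spec (CommRingCat.of A)) 2)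
  (V : Y.Opens) (hV : ∀ x ∈ V, x ∉ RelCanon.gorLocus (Y ↘ Spec (CommRingCat.of A)) → 2 ≤ fibDim A Y x)

include hd hω hS hV in
/-- The exponents of invertible reflexive powers are closed under differences. -/
theorem invertibleAt_sub (a b : ℕ) (hab : a ≤ b) (y : Y) (hy : y ∈ V)
    (ha : RelCanon.InvertibleAt (RelCanon.refPowZ ω a) y) (hb : RelCanon.InvertibleAt (RelCanon.refPowZ ω b) y) :
    RelCanon.InvertibleAt (RelCanon.refPowZ ω (b - a : ℕ)) y := by
  let f := Y ↘ Spec (CommRingCat.of A)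
  haveI : Flat f := hS.1
  haveI := isNoetherian_of_proper A Y
  haveI : LocallyOfFinitePresentation f := inferInstance
  obtain ⟨W₁, h₁, ⟨e₁⟩⟩ := ha
  obtain ⟨W₂, h₂, ⟨e₂⟩⟩ := hb
  let W := W₁ ⊓ W₂ ⊓ V
  have hinvA : ∀ x ∈ W, RelCanon.InvertibleAt (RelCanon.refPowZ ω a) x := fun x hx => ⟨W₁, hx.1.1, ⟨e₁⟩⟩
  have hinvB : ∀ x ∈ W, RelCanon.InvertibleAt (RelCanon.refPowZ ω b) x := fun x hx => ⟨W₂, hx.1.2, ⟨e₂⟩⟩
  have hWinv : ∀ {F : Y.Modules}, (∀ x ∈ W, RelCanon.InvertibleAt F x) → PicF.IsInvertible (F.restrict W.ι) := by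
    intro F hF w
    obtain ⟨T, hT, ⟨e⟩⟩ := hF w.1 w.2
    refine ⟨W.ι ⁻¹ᵁ T, hT, ⟨?_⟩⟩
    exact ((Scheme.Modules.restrictFunctorComp (W.ι ⁻¹ᵁ T).ι W.ι).app F).symm ≪≫
      (Scheme.Modules.restrictFunctorCongr (f := (W.ι ⁻¹ᵁ T).ι ≫ W.ι) (g := (W.ι ∣_ T) ≫ T.ι)
        (morphismRestrict_ι W.ι T).symm).app F ≪≫
      (Scheme.Modules.restrictFunctorComp (W.ι ∣_ T) T.ι).app F ≪≫
      (Scheme.Modules.restrictFunctor (W.ι ∣_ T)).mapIso e ≪≫ Scheme.Modules.restrictUnitIso (W.ι ∣_ T)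
  obtain ⟨hcoh, -⟩ := isCoh_and_two_le_depth A Y d hd hω
  obtain ⟨G₁, hG₁, eG₁⟩ := exists_refPowZ_eq hcoh (a : ℤ)
  obtain ⟨G₂, hG₂, eG₂⟩ := exists_refPowZ_eq hcoh (b : ℤ)
  obtain ⟨G₃, hG₃, eG₃⟩ := exists_refPowZ_eq hcoh ((b - a : ℕ) : ℤ)
  have hRa : Coh.IsCoh (RelCanon.refPowZ ω a) := eG₁.symm ▸ H29Ref.isCoh_ddual G₁ hG₁
  have hRb : Coh.IsCoh (RelCanon.refPowZ ω b) := eG₂.symm ▸ H29Ref.isCoh_ddual G₂ hG₂
  let G := CohB1.tensorMod (RelCanon.refPowZ ω b) (RefHull.dual (RelCanon.refPowZ ω a))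
  have hG : Coh.IsCoh G := H10Coh.TT.isCoh_tensorMod hRb (H29Ref.isCoh_dual _ hRa)
  have hGW : PicF.IsInvertible (G.restrict W.ι) := by
    obtain ⟨t⟩ := nonempty_restrict_tensorMod W (RelCanon.refPowZ ω b) (RefHull.dual (RelCanon.refPowZ ω a))
    obtain ⟨t'⟩ := nonempty_restrict_dual W (RelCanon.refPowZ ω a)
    exact H11Tilde.isInvertible_of_iso (t ≪≫ H25Theta.tI (Iso.refl _) t').symm
      (H11Ample.isInvertible_tensor (hWinv hinvB) (H8Props.DivisorSection.isInvertible_dual (hWinv hinvA)))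
  let U : Y.Opens := ⟨_, S3617.result Y _ f⟩
  have hdO : ∀ x, x ∈ W → x ∉ U → (2 : ℕ∞) ≤ LocCoh.depth (Y.presheaf.stalk x) (Y.presheaf.stalk x) :=
    fun x hx hxU => two_le_depth_stalk A Y hS x (hV x hx.2 hxU)
  obtain ⟨eiso⟩ : Nonempty ((RelCanon.refPowZ ω (b - a : ℕ)).restrict W.ι ≅ G.restrict W.ι) := by
    refine nonempty_restrict_iso_of_restrict U W (eG₃.symm ▸ H29Ref.isCoh_ddual G₃ hG₃) hG
      (fun x hx hxU => by rw [eG₃]; exact two_le_depth_ddual' G₃ hG₃ x (hdO x hx hxU))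
      (fun x hx hxU => ?_) ?_
    · obtain ⟨es⟩ := nonempty_stalk_equiv_of_invertibleAt hG.1 (invertibleAt_of_isInvertible_restrict hGW hx)
      rw [H4Depth.depth_congr es]
      exact hdO x hx hxU
    · let L := ω.restrict U.ι
      have hL : PicF.IsInvertible L := isInvertible_restrict_gor A Y d hd hω hS.1
      have hk : ∀ k : ℕ, Nonempty ((RelCanon.refPowZ ω k).restrict U.ι ≅ CohB1.tensorPow L k) := fun k => by
        obtain ⟨r⟩ := nonempty_restrict_refPowZ U ω (k : ℤ)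
        obtain ⟨s⟩ := nonempty_ddual_of_isInvertible (H11Ample.isInvertible_tensorPow hL k)
        exact ⟨r ≪≫ s⟩
      obtain ⟨ka⟩ := hk a
      obtain ⟨kb⟩ := hk b
      obtain ⟨kc⟩ := hk (b - a)
      obtain ⟨t⟩ := nonempty_restrict_tensorMod U (RelCanon.refPowZ ω b) (RefHull.dual (RelCanon.refPowZ ω a))
      obtain ⟨t'⟩ := nonempty_restrict_dual U (RelCanon.refPowZ ω a)
      obtain ⟨t''⟩ := nonempty_dual_congr ka
      obtain ⟨add⟩ := H22Alg.DegAmple.nonempty_tensorPow_add L (b - a) a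
      obtain ⟨c⟩ := H25AbCube.isInverseOf_dual (H11Ample.isInvertible_tensorPow hL a)
      exact ⟨kc ≪≫ (t ≪≫ H25Theta.tI kb (t' ≪≫ t'') ≪≫
        H25Theta.tI (eqToIso (by rw [Nat.sub_add_cancel hab]) ≪≫ add.symm) (Iso.refl _) ≪≫
        H10Coh.Tw.assoc _ _ _ ≪≫
        PicGrp.tensorModIso (Iso.refl _) (H10Coh.Tw.commIso (CohB1.tensorPow L a) (RefHull.dual (CohB1.tensorPow L a)) ≪≫ c) ≪≫
        H10Coh.Tw.rightUnitIso _).symm⟩
  exact invertibleAt_of_restrict_iso ⟨eiso⟩ (show y ∈ W from ⟨⟨h₁, h₂⟩, hy⟩)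
    (invertibleAt_of_isInvertible_restrict hGW ⟨⟨h₁, h₂⟩, hy⟩)

include hd hω hS hV in
/-- The index divides every exponent of an invertible reflexive power. -/
theorem gorIndexWithAt_dvd (r : ℕ) (hr : 0 < r) (y : Y) (hy : y ∈ V)
    (h : RelCanon.InvertibleAt (RelCanon.refPowZ ω r) y) : RelCanon.gorIndexWithAt ω y ∣ r := by
  have hne : {s : ℕ | 0 < s ∧ RelCanon.InvertibleAt (RelCanon.refPowZ ω s) y}.Nonempty := ⟨r, hr, h⟩
  obtain ⟨hs0, hs⟩ : 0 < RelCanon.gorIndexWithAt ω y ∧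
      RelCanon.InvertibleAt (RelCanon.refPowZ ω (RelCanon.gorIndexWithAt ω y)) y := Nat.sInf_mem hne
  have hle : ∀ n : ℕ, 0 < n → RelCanon.InvertibleAt (RelCanon.refPowZ ω n) y → RelCanon.gorIndexWithAt ω y ≤ n :=
    fun n hn hn' => Nat.sInf_le ⟨hn, hn'⟩
  induction r using Nat.strong_induction_on with
  | _ n ih =>
    rcases eq_or_lt_of_le (hle n hr h) with heq | hlt
    · rw [heq]
    · have hsub := invertibleAt_sub A Y d hd hω hS V hV _ n hlt.le y hy hs h
      have := ih (n - RelCanon.gorIndexWithAt ω y) (by omega) (by omega) hsub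
      have h2 := Nat.dvd_add this dvd_rfl
      rwa [Nat.sub_add_cancel hlt.le] at h2

include hd hω hS hV in
/-- The direct image from the Gorenstein locus is the reflexive power over an open of good codimension. -/
theorem nonempty_pushforward_gor_iso (Yo : Y.Opens)
    (hYo : (Yo : Set Y) = RelCanon.gorLocus (Y ↘ Spec (CommRingCat.of A))) (r : ℕ) :
    Nonempty (((Scheme.Modules.pushforward Yo.ι).obj (CohB1.tensorPow (ω.restrict Yo.ι) r)).restrict V.ι ≅
      (RelCanon.refPowZ ω r).restrict V.ι) := by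
  let f := Y ↘ Spec (CommRingCat.of A)
  haveI : Flat f := hS.1
  haveI := isNoetherian_of_proper A Y
  haveI : LocallyOfFinitePresentation f := inferInstance
  obtain rfl : Yo = ⟨_, S3617.result Y _ f⟩ := TopologicalSpace.Opens.ext hYo
  let U : Y.Opens := ⟨_, S3617.result Y _ f⟩
  have hL : PicF.IsInvertible (ω.restrict U.ι) := isInvertible_restrict_gor A Y d hd hω hS.1
  obtain ⟨e⟩ := nonempty_restrict_refPowZ U ω (r : ℤ)
  obtain ⟨s⟩ := nonempty_ddual_of_isInvertible (H11Ample.isInvertible_tensorPow hL r)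
  obtain ⟨G, hG, eG⟩ := exists_refPowZ_eq (isCoh_and_two_le_depth A Y d hd hω).1 (r : ℤ)
  haveI := isIso_restrict_unit U V (RelCanon.refPowZ ω r) (eG.symm ▸ H29Ref.isCoh_ddual G hG)
    (fun x hx hxU => by rw [eG]; exact two_le_depth_ddual A Y hS G hG x (hV x hx hxU))
  exact ⟨(Scheme.Modules.restrictFunctor V.ι).mapIso ((Scheme.Modules.pushforward U.ι).mapIso (e ≪≫ s)).symm ≪≫
    (asIso ((Scheme.Modules.restrictFunctor V.ι).map
      ((Scheme.Modules.restrictAdjunction U.ι).unit.app (RelCanon.refPowZ ω r)))).symm⟩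

include hd hω hS hV in
/-- An invertible reflexive power gives one on the fibre, of index dividing the exponent. -/
theorem qGor_fibre_of_invertibleAt (r : ℕ) (hr : 0 < r) (z : Y) (hz : z ∈ V)
    (h : RelCanon.InvertibleAt (RelCanon.refPowZ ω r) z)
    (ωz : ((Y ↘ Spec (CommRingCat.of A)).fiber ((Y ↘ Spec (CommRingCat.of A)) z)).Modules)
    (hωz : @RelCanon.IsDualizingSheaf ((Spec (CommRingCat.of A)).residueField ((Y ↘ Spec (CommRingCat.of A)) z)) _
      ((Y ↘ Spec (CommRingCat.of A)).fiber ((Y ↘ Spec (CommRingCat.of A)) z))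
      ⟨(Y ↘ Spec (CommRingCat.of A)).fiberToSpecResidueField ((Y ↘ Spec (CommRingCat.of A)) z)⟩ d ωz) :
    RelCanon.InvertibleAt (RelCanon.refPowZ ωz r) ((Y ↘ Spec (CommRingCat.of A)).asFiber z) ∧
      RelCanon.gorIndexWithAt ωz ((Y ↘ Spec (CommRingCat.of A)).asFiber z) ∣ r := by
  let f := Y ↘ Spec (CommRingCat.of A)
  let t := f z
  let K := (Spec (CommRingCat.of A)).residueField t
  letI : (f.fiber t).Over (Spec (CommRingCat.of K)) := ⟨f.fiberToSpecResidueField t⟩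
  haveI : IsProper (f.fiber t ↘ Spec (CommRingCat.of K)) :=
    MorphismProperty.pullback_snd (P := @IsProper) _ _ inferInstance
  have hsq : IsPullback (f.fiberι t) (f.fiber t ↘ Spec (CommRingCat.of K)) f
      ((Spec (CommRingCat.of A)).fromSpecResidueField t) := IsPullback.of_hasPullback _ _
  have hzι : f.fiberι t (f.asFiber z) = z := f.fiberι_asFiber z
  have h1 := invertibleAt_bc_local A Y d hd hS V hV hω hsq hωz r (f.asFiber z) (by rw [hzι]; exact hz)
    (by rw [hzι]; exact h)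
  refine ⟨h1, gorIndexWithAt_dvd K (f.fiber t) d (hasRelDim_of_isPullback hsq hd) hωz (isSkMor_fiber A Y hS t)
    ((f.fiberι t) ⁻¹ᵁ V) (fun w hw hwg => ?_) r hr _ (show f.fiberι t (f.asFiber z) ∈ V by rw [hzι]; exact hz) h1⟩
  exact le_of_le_of_eq (hV _ hw fun hc => hwg (isGorensteinAt_fiber A Y t w hc)) (fibDim_fiber A Y t w).symm

end Groth.Agent.H4Rel
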