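import Groth.Agent.H4Rel.FacStalk
import Groth.Agent.H4Rel.Index

/-!
# Relative `(S₂)` from depth three on the fibre
-/

set_option autoImplicit false
set_option linter.style.haveILetI false
set_option linter.unusedSectionVars false
set_option backward.isDefEq.respectTransparency false
set_option maxHeartbeats 1000000
set_option synthInstance.maxHeartbeats 400000

universe u

open CategoryTheory CategoryTheory.Limits AlgebraicGeometry IsLocalRing TensorProduct
open Groth.Agent.H16Derived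

attribute [local instance] HasDerivedCategory.standard

namespace Groth.Agent.H4Rel

attribute [local instance] H06Mod.stalkAlgebra

/-- Stalks of modules with isomorphic restrictions. -/
theorem nonempty_stalk_equiv_of_restrict {X : Scheme.{u}} [IsNoetherian X] {F G : X.Modules} (hF : Coh.IsCoh F)
    (hG : Coh.IsCoh G) {W : X.Opens} (e : F.restrict W.ι ≅ G.restrict W.ι) {x : X} (hx : x ∈ W) :
    Nonempty (F.presheaf.stalk x ≃ₗ[X.presheaf.stalk x] G.presheaf.stalk x) :=
  ⟨(LinearEquiv.ofBijective _ (bijective_stalk_unit_comp W hF e x hx)).trans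
    (LinearEquiv.ofBijective _ (bijective_stalk_unit_comp W hG (Iso.refl _) x hx)).symm⟩

/-- A reflexive power is the reflexive hull of a module invertible where the sheaf is. -/
theorem exists_refPowZ_eq' {X : Scheme.{u}} [IsLocallyNoetherian X] {F : X.Modules} (hF : Coh.IsCoh F)
    (U : X.Opens) (hU : PicF.IsInvertible (F.restrict U.ι)) (m : ℤ) :
    ∃ G : X.Modules, Coh.IsCoh G ∧ RelCanon.refPowZ F m = RefHull.ddual G ∧ PicF.IsInvertible (G.restrict U.ι) := by
  cases m with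
  | ofNat n =>
    refine ⟨_, isCoh_tensorPow hF n, rfl, ?_⟩
    obtain ⟨e⟩ := nonempty_restrict_tensorPow U F n
    exact H11Tilde.isInvertible_of_iso e.symm (H11Ample.isInvertible_tensorPow hU n)
  | negSucc n =>
    refine ⟨_, isCoh_tensorPow (H29Ref.isCoh_dual F hF) (n + 1), rfl, ?_⟩
    obtain ⟨e⟩ := nonempty_restrict_tensorPow U (RefHull.dual F) (n + 1)
    obtain ⟨e'⟩ := nonempty_restrict_dual U F
    exact H11Tilde.isInvertible_of_iso e.symm (H11Ample.isInvertible_tensorPow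
      (H11Tilde.isInvertible_of_iso e'.symm (H8Props.DivisorSection.isInvertible_dual hU)) (n + 1))

variable (A : Type u) [CommRing A] [IsNoetherianRing A] (Y : Scheme.{u}) [Y.Over (Spec (CommRingCat.of A))]
  [IsProper (Y ↘ Spec (CommRingCat.of A))] (d : ℕ)
  (hd : Cyc.HasRelDim (Y ↘ Spec (CommRingCat.of A)) d) {ω : Y.Modules}
  (hω : RelCanon.IsDualizingSheaf A Y d ω)
  (hS : RelCanon.IsSkMor (Y ↘ Spec (CommRingCat.of A)) 2)
  (V : Y.Opens) (hV : ∀ x ∈ V, x ∉ RelCanon.gorLocus (Y ↘ Spec (CommRingCat.of A)) → 2 ≤ fibDim A Y x)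

include hd hω hS hV in
set_option maxHeartbeats 4000000 in
/-- A reflexive power is flat with the expected fibre where the reflexive power of the fibre has depth three. -/
theorem stalk_of_depth_three (m : ℤ) (t : Spec (CommRingCat.of A)) (z : (Y ↘ Spec (CommRingCat.of A)).fiber t)
    (hzV : ((Y ↘ Spec (CommRingCat.of A)).fiberι t) z ∈ V)
    (hzU : ((Y ↘ Spec (CommRingCat.of A)).fiberι t) z ∉ RelCanon.gorLocus (Y ↘ Spec (CommRingCat.of A)))
    (ωt : ((Y ↘ Spec (CommRingCat.of A)).fiber t).Modules)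
    (hωt : @RelCanon.IsDualizingSheaf ((Spec (CommRingCat.of A)).residueField t) _
      ((Y ↘ Spec (CommRingCat.of A)).fiber t) ⟨(Y ↘ Spec (CommRingCat.of A)).fiberToSpecResidueField t⟩ d ωt)
    (hdep : ∀ w : (Y ↘ Spec (CommRingCat.of A)).fiber t, w ⤳ z →
      ((Y ↘ Spec (CommRingCat.of A)).fiberι t) w ∉ RelCanon.gorLocus (Y ↘ Spec (CommRingCat.of A)) →
      (3 : ℕ∞) ≤ LocCoh.depth (((Y ↘ Spec (CommRingCat.of A)).fiber t).presheaf.stalk w)
        ((RelCanon.refPowZ ωt m).presheaf.stalk w)) :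
    FlatMod.IsFlatOverAt (Y ↘ Spec (CommRingCat.of A)) (RelCanon.refPowZ ω m)
        (((Y ↘ Spec (CommRingCat.of A)).fiberι t) z) ∧
      Nonempty (((Y ↘ Spec (CommRingCat.of A)).fiber t).presheaf.stalk z
          ⊗[Y.presheaf.stalk (((Y ↘ Spec (CommRingCat.of A)).fiberι t) z)]
            (RelCanon.refPowZ ω m).presheaf.stalk (((Y ↘ Spec (CommRingCat.of A)).fiberι t) z)
          ≃ₗ[((Y ↘ Spec (CommRingCat.of A)).fiber t).presheaf.stalk z] (RelCanon.refPowZ ωt m).presheaf.stalk z) := by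
  let f := Y ↘ Spec (CommRingCat.of A)
  haveI : Flat f := hS.1
  haveI := isNoetherian_of_proper A Y
  haveI : LocallyOfFinitePresentation f := inferInstance
  let K := (Spec (CommRingCat.of A)).residueField t
  letI : (f.fiber t).Over (Spec (CommRingCat.of K)) := ⟨f.fiberToSpecResidueField t⟩
  haveI : IsProper (f.fiber t ↘ Spec (CommRingCat.of K)) :=
    MorphismProperty.pullback_snd (P := @IsProper) _ _ inferInstance
  haveI := isNoetherian_of_proper K (f.fiber t)
  have hsq : IsPullback (f.fiberι t) (f.fiber t ↘ Spec (CommRingCat.of K)) f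
      ((Spec (CommRingCat.of A)).fromSpecResidueField t) := IsPullback.of_hasPullback _ _
  let U : Y.Opens := ⟨_, S3617.result Y _ f⟩
  have hL : PicF.IsInvertible (ω.restrict U.ι) := isInvertible_restrict_gor A Y d hd hω hS.1
  obtain ⟨hcoh, -⟩ := isCoh_and_two_le_depth A Y d hd hω
  obtain ⟨G, hG, eG, hGU⟩ := exists_refPowZ_eq' hcoh U hL m
  obtain ⟨Gt, hGt, eGt⟩ := exists_refPowZ_eq
    (isCoh_and_two_le_depth K (f.fiber t) d (hasRelDim_of_isPullback hsq hd) hωt).1 m
  let Ds := RefHull.dual G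
  have hDs : Coh.IsCoh Ds := H29Ref.isCoh_dual G hG
  let P := (Scheme.Modules.pullback (f.fiberι t)).obj Ds
  have hP : Coh.IsCoh P := isCohPull _ hDs
  let E := RefHull.dual P
  have hE : Coh.IsCoh E := H29Ref.isCoh_dual P hP
  let U' := f.fiberι t ⁻¹ᵁ U
  let V' := f.fiberι t ⁻¹ᵁ V
  have hO2 : ∀ w ∈ V', w ∉ U' →
      (2 : ℕ∞) ≤ LocCoh.depth ((f.fiber t).presheaf.stalk w) ((f.fiber t).presheaf.stalk w) :=
    fun w hw hw' => two_le_depth_fiber_stalk A Y hS t w (hV _ hw hw')
  -- the dual on the fibre is the reflexive power of the fibre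
  obtain ⟨eV⟩ : Nonempty (E.restrict V'.ι ≅ (RelCanon.refPowZ ωt m).restrict V'.ι) := by
    refine nonempty_restrict_iso_of_restrict U' V' hE (eGt.symm ▸ H29Ref.isCoh_ddual Gt hGt) (fun w hw hw' => ?_)
      (fun w hw hw' => by rw [eGt]; exact two_le_depth_ddual' Gt hGt w (hO2 w hw hw')) ?_
    · refine two_le_depth_homSh _ _ hP (H10Coh.isCoh_structureModule' _) w ?_
      rw [← H4Depth.depth_congr (H29Ref.unitEquiv (X := f.fiber t) w)]
      exact hO2 w hw hw'
    · have hCMU : ∀ y ∈ U, MoreMor.IsCMAt f y := fun y hy => by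
        haveI := (show Dual3.IsGorensteinAt f y from hy).2
        exact ⟨(show Dual3.IsGorensteinAt f y from hy).1, H4Goren.isCohenMacaulayLocalRing _⟩
      obtain ⟨e₁⟩ := nonempty_restrict_bc A Y d hS.1 hd hω hsq U hCMU hωt
      obtain ⟨e₂⟩ := nonempty_restrict_pullback (f.fiberι t) U ω
      obtain ⟨e₃⟩ := nonempty_pullback_refPowZ (f.fiberι t ∣_ U) hL m
      obtain ⟨e₄⟩ := nonempty_refPowZ_congr (e₂.symm ≪≫ e₁) m
      obtain ⟨e₅⟩ := nonempty_restrict_refPowZ U' ωt m
      obtain ⟨e₆⟩ := nonempty_restrict_refPowZ U ω m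
      obtain ⟨a⟩ := nonempty_restrict_dual U' P
      obtain ⟨b⟩ := nonempty_restrict_pullback (f.fiberι t) U Ds
      obtain ⟨c⟩ := nonempty_restrict_dual U G
      obtain ⟨r⟩ := nonempty_restrict_ddual U G
      obtain ⟨a'⟩ := nonempty_dual_congr (b ≪≫ (Scheme.Modules.pullback (f.fiberι t ∣_ U)).mapIso c)
      have hD := H8Props.DivisorSection.isInvertible_dual hGU
      obtain ⟨q⟩ := H11Div.nonempty_pullback_dual (f.fiberι t ∣_ U) hD
      exact ⟨a ≪≫ a' ≪≫ q.symm ≪≫
        (Scheme.Modules.pullback (f.fiberι t ∣_ U)).mapIso (r.symm ≪≫ eqToIso (by rw [eG]) ≪≫ e₆) ≪≫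
          e₃ ≪≫ e₄ ≪≫ e₅.symm⟩
  have hEdep : ∀ w, w ⤳ z → f.fiberι t w ∉ U →
      (3 : ℕ∞) ≤ LocCoh.depth ((f.fiber t).presheaf.stalk w) (E.presheaf.stalk w) := fun w hwz hw => by
    obtain ⟨e⟩ := nonempty_stalk_equiv_of_restrict hE (eGt.symm ▸ H29Ref.isCoh_ddual Gt hGt) eV
      (show w ∈ V' from hwz.mem_open V'.2 hzV)
    rw [H4Depth.depth_congr e]
    exact hdep w hwz hw
  -- the local rings
  let y := f.fiberι t z
  let B := Y.presheaf.stalk y
  let A₀ := (Spec (CommRingCat.of A)).presheaf.stalk (f y)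
  letI : Algebra A₀ B := (f.stalkMap y).hom.toAlgebra
  haveI : IsLocalHom (algebraMap A₀ B) := inferInstanceAs (IsLocalHom (f.stalkMap y).hom)
  haveI : Module.Flat A₀ B := Flat.stalkMap f y
  let C := (f.fiber t).presheaf.stalk z
  have hs : Function.Surjective (algebraMap B C) := (f.fiberι t).stalkMap_surjective z
  have hk : RingHom.ker (algebraMap B C) = (maximalIdeal A₀).map (algebraMap A₀ B) := ker_fiberι_stalkMap f t z
  haveI : IsLocalHom (algebraMap B C) := inferInstanceAs (IsLocalHom ((f.fiberι t).stalkMap z).hom)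
  let D := Ds.presheaf.stalk y
  haveI : Module.Finite B D := H06Mod.finite_stalk _ hDs.2 y
  -- the ideal of the non-Gorenstein generisations
  let J := PrimeSpectrum.vanishingIdeal (Y.fromSpecStalk y ⁻¹' (U : Set Y)ᶜ)
  have hJ1 : ∀ q : PrimeSpectrum B, ¬ J ≤ q.asIdeal → Y.fromSpecStalk y q ∈ U := fun q hq => by
    by_contra hc
    exact hq fun a ha => (PrimeSpectrum.mem_vanishingIdeal _ _).1 ha q hc
  have hJ2 : ∀ q : PrimeSpectrum B, J ≤ q.asIdeal → Y.fromSpecStalk y q ∉ U := fun q hq => by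
    have h : q ∈ PrimeSpectrum.zeroLocus (J : Set B) := hq
    have hc : IsClosed (Y.fromSpecStalk y ⁻¹' (U : Set Y)ᶜ : Set (PrimeSpectrum B)) :=
      U.2.isClosed_compl.preimage (Y.fromSpecStalk y).continuous
    rw [PrimeSpectrum.zeroLocus_vanishingIdeal_eq_closure] at h
    exact hc.closure_subset h
  have hJC : J.map (algebraMap B C) ≠ ⊤ := by
    refine ne_top_of_le_ne_top (maximalIdeal.isMaximal C).ne_top (Ideal.map_le_iff_le_comap.2 fun a ha => ?_)
    have hc : Y.fromSpecStalk y (closedPoint B) ∉ U := by rw [Scheme.fromSpecStalk_closedPoint]; exact hzU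
    have hmem := (PrimeSpectrum.mem_vanishingIdeal _ _).1 ha (closedPoint B) hc
    show algebraMap B C a ∈ maximalIdeal C
    exact map_nonunit _ a hmem
  have hgen : ∀ p : PrimeSpectrum C, J.map (algebraMap B C) ≤ p.asIdeal →
      (f.fiber t).fromSpecStalk z p ⤳ z ∧ f.fiberι t ((f.fiber t).fromSpecStalk z p) ∉ U := by
    intro p hp
    refine ⟨H7CDiv.fromSpecStalk_specializes p, ?_⟩
    rw [← Scheme.Hom.comp_apply, ← Scheme.SpecMap_stalkMap_fromSpecStalk, Scheme.Hom.comp_apply]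
    exact hJ2 _ (Ideal.map_le_iff_le_comap.1 hp)
  have hfac : Lift.Fac J D := fac_of_rank_one J fun q hq => by
    let η := Y.fromSpecStalk y q
    have hηy : η ⤳ y := H7CDiv.fromSpecStalk_specializes q
    obtain ⟨c⟩ := nonempty_restrict_dual U G
    have hinv : RelCanon.InvertibleAt Ds η := invertibleAt_of_isInvertible_restrict
      (H11Tilde.isInvertible_of_iso c.symm (H8Props.DivisorSection.isInvertible_dual hGU)) (hJ1 q hq)
    obtain ⟨e⟩ := nonempty_stalk_equiv_of_invertibleAt hDs.1 hinv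
    letI := (Y.presheaf.stalkSpecializes hηy).hom.toAlgebra
    letI := Module.compHom (Ds.presheaf.stalk η) (Y.presheaf.stalkSpecializes hηy).hom
    haveI : IsScalarTower B (Y.presheaf.stalk η) (Ds.presheaf.stalk η) := .of_algebraMap_smul fun _ _ => rfl
    haveI := H7CDiv.isLocalization_stalkSpecializes hηy
    haveI := isLocalizedModule_specLin Ds hDs.1 hηy
    obtain ⟨φ, d, s, hs', hsv⟩ := exists_rank_one (H7CDiv.primeOf hηy).asIdeal (Bq := Y.presheaf.stalk η)
      (specLin Ds hηy) (e.restrictScalars B)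
    refine ⟨φ, d, s, ?_, hsv⟩
    exact fun hq' => hs' ((congrArg (fun p : PrimeSpectrum B => s ∈ p.asIdeal)
      (H7CDiv.primeOf_fromSpecStalk q hηy)).mpr hq')
  -- regular sequences on the fibre
  haveI : Module.Finite C (E.presheaf.stalk z) := H06Mod.finite_stalk _ hE.2 z
  obtain ⟨x, x', w, hx, hx', hw, hC2, hN3⟩ : ∃ x x' w : B, x ∈ J ∧ x' ∈ J ∧ w ∈ J ∧
      Lift.Reg2 (algebraMap B C x) (algebraMap B C x') C ∧
      Lift.Reg3 (algebraMap B C x) (algebraMap B C x') (algebraMap B C w) (E.presheaf.stalk z) := by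
    have hdC : (2 : ℕ∞) ≤ LocCoh.idealDepth (J.map (algebraMap B C)) C := by
      haveI : Module.Finite C ((Coh.structureModule (f.fiber t)).presheaf.stalk z) :=
        H06Mod.finite_stalk _ (H10Coh.isCoh_structureModule' (f.fiber t)).2 z
      rw [H4Depth.idealDepth_congr _ (H29Ref.unitEquiv (X := f.fiber t) z),
        H4Depth.idealDepth_eq_iInf_depth_localization]
      refine le_iInf₂ fun p hp => ?_
      have hspec := H7CDiv.fromSpecStalk_specializes p
      have h := two_le_depth_fiber_stalk A Y hS t _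
        (hV _ (((hgen p hp).1.map (f.fiberι t).continuous).mem_open V.2 hzV) (hgen p hp).2)
      rw [H4Depth.depth_congr (H29Ref.unitEquiv (X := f.fiber t) _),
        ← depth_localizedModule_stalk _ (H10Coh.isCoh_structureModule' (f.fiber t)).1 hspec] at h
      rw [← H7CDiv.primeOf_fromSpecStalk p hspec]
      exact h
    have hdN : (3 : ℕ∞) ≤ LocCoh.idealDepth (J.map (algebraMap B C)) (E.presheaf.stalk z) := by
      rw [H4Depth.idealDepth_eq_iInf_depth_localization]
      refine le_iInf₂ fun p hp => ?_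
      have hspec := H7CDiv.fromSpecStalk_specializes p
      have h := hEdep _ (hgen p hp).1 (hgen p hp).2
      rw [← depth_localizedModule_stalk E hE.1 hspec] at h
      rw [← H7CDiv.primeOf_fromSpecStalk p hspec]
      exact h
    rcases subsingleton_or_nontrivial (E.presheaf.stalk z) with hN0 | hN0
    · obtain ⟨a, b, ha, hb, hab⟩ := exists_reg2_stalk (H10Coh.isCoh_structureModule' (f.fiber t)) z _ hJC
        fun p hp => by
          rw [H4Depth.depth_congr (H29Ref.unitEquiv (X := f.fiber t) _).symm]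
          exact two_le_depth_fiber_stalk A Y hS t _
            (hV _ (((hgen p hp).1.map (f.fiberι t).continuous).mem_open V.2 hzV) (hgen p hp).2)
      obtain ⟨x, hx, rfl⟩ := (Ideal.mem_map_iff_of_surjective _ hs).1 ha
      obtain ⟨x', hx', rfl⟩ := (Ideal.mem_map_iff_of_surjective _ hs).1 hb
      exact ⟨x, x', x, hx, hx', hx, hab.congr (H29Ref.unitEquiv (X := f.fiber t) z).symm,
        ⟨⟨fun _ _ _ => Subsingleton.elim _ _, fun _ _ _ => ⟨0, Subsingleton.elim _ _⟩⟩,
          fun _ _ _ _ => ⟨0, 0, Subsingleton.elim _ _⟩⟩⟩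
    · obtain ⟨a, b, c, ha, hb, hc, h2, h3⟩ := exists_reg3 (J.map (algebraMap B C)) hJC hdC hdN
      obtain ⟨x, hx, rfl⟩ := (Ideal.mem_map_iff_of_surjective _ hs).1 ha
      obtain ⟨x', hx', rfl⟩ := (Ideal.mem_map_iff_of_surjective _ hs).1 hb
      obtain ⟨w, hw, rfl⟩ := (Ideal.mem_map_iff_of_surjective _ hs).1 hc
      exact ⟨x, x', w, hx, hx', hw, h2, h3⟩
  -- transport to `B`
  have hP1 : Lift.powR (A := A₀) (B := B) B 1 = RingHom.ker (algebraMap B C) := by
    rw [hk, Lift.powR, pow_one, smul_eq_mul, Ideal.mul_top]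
  let eC : Lift.QB B A₀ 1 ≃ₗ[B] C := (Submodule.quotEquivOfEq _ _ hP1).trans
    (Ideal.quotientKerAlgEquivOfSurjective (f := Algebra.ofId B C) hs).toLinearEquiv
  let uC := H29Ref.unitEquiv (X := f.fiber t) z
  let EP := LinearEquiv.ofBijective _ (H06Mod.pullStalkLin_bijective (f.fiberι t) Ds z)
  let evC := LinearEquiv.ofBijective (RefHull.evalStalk P (Coh.structureModule (f.fiber t)) z)
    (H29Ref.evalStalk_bijective P (Coh.structureModule (f.fiber t)) (H10Coh.isFP_of_isCoh P hP) z)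
  let ΨC : E.presheaf.stalk z ≃ₗ[C] (D →ₗ[B] C) :=
    evC.trans ((LinearEquiv.congrLeft _ C EP.symm).trans
      ((LinearEquiv.congrRight uC.symm).trans (LinearMap.liftBaseChangeEquiv C).symm))
  let Ψ : (D →ₗ[B] Lift.QB B A₀ 1) ≃+ E.presheaf.stalk z :=
    (LinearEquiv.congrRight eC).toAddEquiv.trans ΨC.symm.toAddEquiv
  have hΨ : ∀ (b : B) φ, Ψ (b • φ) = algebraMap B C b • Ψ φ := fun b φ => by
    show ΨC.symm (LinearEquiv.congrRight eC (b • φ)) = algebraMap B C b • ΨC.symm (LinearEquiv.congrRight eC φ)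
    rw [← map_smul ΨC.symm, map_smul (LinearEquiv.congrRight eC), algebraMap_smul]
  have hreg : Lift.Reg2 x x' (Lift.QB B A₀ 1) := by
    refine Lift.Reg2.congr ⟨fun v v' hv => hC2.reg ?_, fun v v' hv => ?_⟩ eC.symm
    · show algebraMap B C x • v = algebraMap B C x • v'
      rwa [algebraMap_smul, algebraMap_smul]
    · obtain ⟨c, hc⟩ := hC2.reg2 v v' (by rw [algebraMap_smul, algebraMap_smul, hv])
      exact ⟨c, by rw [hc, algebraMap_smul]⟩
  have hregN : Lift.Reg3 x x' w (D →ₗ[B] Lift.QB B A₀ 1) := by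
    refine ⟨⟨fun v v' hv => Ψ.injective (hN3.reg ?_), fun v v' hv => ?_⟩, fun v v' v'' hv => ?_⟩
    · show algebraMap B C x • Ψ v = algebraMap B C x • Ψ v'
      rw [← hΨ, ← hΨ]; exact congrArg Ψ hv
    · obtain ⟨c, hc⟩ := hN3.reg2 (Ψ v) (Ψ v') (by rw [← hΨ, ← hΨ, hv])
      exact ⟨Ψ.symm c, Ψ.injective (by rw [hΨ, Ψ.apply_symm_apply, hc])⟩
    · obtain ⟨a, b, hab⟩ := hN3.reg3 (Ψ v) (Ψ v') (Ψ v'') (by rw [← hΨ, ← hΨ, ← hΨ, ← map_add, hv])
      exact ⟨Ψ.symm a, Ψ.symm b, Ψ.injective (by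
        rw [map_add, hΨ, hΨ, Ψ.apply_symm_apply, Ψ.apply_symm_apply, hab])⟩
  obtain ⟨hflat, hsur, hker⟩ := Lift.flat_of_depth_three hfac hx hx' hw hreg hregN
  -- identification of the stalk
  let R := RelCanon.refPowZ ω m
  let uB := H29Ref.unitEquiv (X := Y) y
  obtain ⟨eR⟩ : Nonempty (R.presheaf.stalk y ≃ₗ[B] (D →ₗ[B] B)) := by
    show Nonempty ((RelCanon.refPowZ ω m).presheaf.stalk y ≃ₗ[B] (D →ₗ[B] B))
    rw [eG]
    exact ⟨(LinearEquiv.ofBijective (RefHull.evalStalk Ds (Coh.structureModule Y) y)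
      (H29Ref.evalStalk_bijective Ds (Coh.structureModule Y) (H10Coh.isFP_of_isCoh Ds hDs) y)).trans
      (LinearEquiv.congrRight uB.symm)⟩
  refine ⟨?_, ?_⟩
  · letI := FlatMod.moduleStalkOver f R y
    haveI : IsScalarTower A₀ B (R.presheaf.stalk y) := .of_algebraMap_smul fun _ _ => rfl
    haveI := hflat
    exact Module.Flat.of_linearEquiv (eR.restrictScalars A₀)
  · let φ := (LinearEquiv.congrRight eC).toLinearMap ∘ₗ Lift.red (B := B) A₀ D 1
    have hφs : Function.Surjective φ := (LinearEquiv.congrRight eC).surjective.comp hsur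
    have hφk : ∀ v, φ v = 0 ↔ v ∈ Lift.powR (A := A₀) (B := B) (D →ₗ[B] B) 1 := fun v => by
      rw [← hker v]
      exact (LinearEquiv.congrRight eC).map_eq_zero_iff
    let Φ : C ⊗[B] (D →ₗ[B] B) ≃ₗ[B] (D →ₗ[B] C) :=
      (Lift.fibreQuot (A := A₀) hs hk).trans
        ((Submodule.quotEquivOfEq _ _ (Submodule.ext fun v => (hφk v).symm)).trans
          (LinearMap.quotKerEquivOfSurjective φ hφs))
    let Φ' : C ⊗[B] (D →ₗ[B] B) ≃ₗ[C] (D →ₗ[B] C) := LinearEquiv.extendScalarsOfSurjective hs Φ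
    obtain ⟨eEt⟩ := nonempty_stalk_equiv_of_restrict hE (eGt.symm ▸ H29Ref.isCoh_ddual Gt hGt) eV
      (show z ∈ V' from hzV)
    exact ⟨(TensorProduct.AlgebraTensorModule.congr (LinearEquiv.refl C C) eR).trans (Φ'.trans (ΨC.symm.trans eEt))⟩

end Groth.Agent.H4Rel
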