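import Groth.Agent.H4Rel.DepthThree

/-!
# Applications of depth three on the fibre
-/

set_option autoImplicit false
set_option linter.style.haveILetI false
set_option linter.unusedSectionVars false
set_option backward.isDefEq.respectTransparency false
set_option maxHeartbeats 1000000
set_option synthInstance.maxHeartbeats 400000

universe u

open CategoryTheory CategoryTheory.Limits AlgebraicGeometry IsLocalRing TensorProduct
open Groth.Agent.H16Derived

attribute [local instance] HasDerivedCategory.standard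

namespace Groth.Agent.H4Rel

attribute [local instance] H06Mod.stalkAlgebra

/-- Depth of the structure module at generisations of a point of Serre's condition. -/
theorem le_depth_stalk_of_skAt {X : Scheme.{u}} [IsLocallyNoetherian X] (k : ℕ) {z : X}
    (h : RelCanon.SkAt k (Coh.structureModule X) z) {w : X} (hwz : w ⤳ z)
    (hk : (k : WithBot ℕ∞) ≤ ringKrullDim (X.presheaf.stalk w)) :
    (k : ℕ∞) ≤ LocCoh.depth (X.presheaf.stalk w) (X.presheaf.stalk w) := by
  let p := (H7CDiv.primeOf hwz).asIdeal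
  letI := (X.presheaf.stalkSpecializes hwz).hom.toAlgebra
  haveI := H7CDiv.isLocalization_stalkSpecializes hwz
  let L := Localization.AtPrime p
  let σ := IsLocalization.algEquiv p.primeCompl L (X.presheaf.stalk w)
  have hp := h p
  let u := (H29Ref.unitEquiv (X := X) z).symm
  let eM : LocalizedModule p.primeCompl ((Coh.structureModule X).presheaf.stalk z) ≃ₗ[L] L :=
    (IsLocalizedModule.linearEquiv p.primeCompl (LocalizedModule.mkLinearMap p.primeCompl _)
      ((Algebra.linearMap (X.presheaf.stalk z) L) ∘ₗ u.toLinearMap)).extendScalarsOfIsLocalization p.primeCompl L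
  rw [Module.supportDim_eq_of_equiv eM, Module.supportDim_self_eq_ringKrullDim,
    ringKrullDim_eq_of_ringEquiv σ.toRingEquiv,
    depth_localizedModule_stalk _ (H10Coh.isCoh_structureModule' X).1 hwz,
    H4Depth.depth_congr (H29Ref.unitEquiv (X := X) w).symm, min_eq_left hk] at hp
  exact WithBot.coe_le_coe.1 hp

variable (A : Type u) [CommRing A] [IsNoetherianRing A] (Y : Scheme.{u}) [Y.Over (Spec (CommRingCat.of A))]
  [IsProper (Y ↘ Spec (CommRingCat.of A))] (d : ℕ)
  (hd : Cyc.HasRelDim (Y ↘ Spec (CommRingCat.of A)) d) {ω : Y.Modules}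
  (hω : RelCanon.IsDualizingSheaf A Y d ω)
  (hS : RelCanon.IsSkMor (Y ↘ Spec (CommRingCat.of A)) 2)
  (V : Y.Opens) (hV : ∀ x ∈ V, x ∉ RelCanon.gorLocus (Y ↘ Spec (CommRingCat.of A)) → 2 ≤ fibDim A Y x)
  (t : Spec (CommRingCat.of A)) (z : (Y ↘ Spec (CommRingCat.of A)).fiber t)
  (hzV : ((Y ↘ Spec (CommRingCat.of A)).fiberι t) z ∈ V)
  {ωt : ((Y ↘ Spec (CommRingCat.of A)).fiber t).Modules}
  (hωt : @RelCanon.IsDualizingSheaf ((Spec (CommRingCat.of A)).residueField t) _
    ((Y ↘ Spec (CommRingCat.of A)).fiber t) ⟨(Y ↘ Spec (CommRingCat.of A)).fiberToSpecResidueField t⟩ d ωt)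

include hd hωt hS hV hzV in
/-- Depth three of a reflexive power of a fibre satisfying `(S₃)`. -/
theorem three_le_depth_refPowZ (m : ℤ) (hG2 : ∀ w : (Y ↘ Spec (CommRingCat.of A)).fiber t, w ⤳ z →
      ((Y ↘ Spec (CommRingCat.of A)).fiberι t) w ∉ RelCanon.gorLocus (Y ↘ Spec (CommRingCat.of A)) →
      (3 : WithBot ℕ∞) ≤ fibDim A Y (((Y ↘ Spec (CommRingCat.of A)).fiberι t) w))
    (h3 : RelCanon.HasSk 3 (RelCanon.refPowZ ωt m))
    (w : (Y ↘ Spec (CommRingCat.of A)).fiber t) (hwz : w ⤳ z)
    (hw : ((Y ↘ Spec (CommRingCat.of A)).fiberι t) w ∉ RelCanon.gorLocus (Y ↘ Spec (CommRingCat.of A))) :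
    (3 : ℕ∞) ≤ LocCoh.depth (((Y ↘ Spec (CommRingCat.of A)).fiber t).presheaf.stalk w)
      ((RelCanon.refPowZ ωt m).presheaf.stalk w) := by
  let f := Y ↘ Spec (CommRingCat.of A)
  haveI := isNoetherian_of_proper A Y
  let K := (Spec (CommRingCat.of A)).residueField t
  letI : (f.fiber t).Over (Spec (CommRingCat.of K)) := ⟨f.fiberToSpecResidueField t⟩
  haveI : IsProper (f.fiber t ↘ Spec (CommRingCat.of K)) :=
    MorphismProperty.pullback_snd (P := @IsProper) _ _ inferInstance
  haveI := isNoetherian_of_proper K (f.fiber t)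
  have hsq : IsPullback (f.fiberι t) (f.fiber t ↘ Spec (CommRingCat.of K)) f
      ((Spec (CommRingCat.of A)).fromSpecResidueField t) := IsPullback.of_hasPullback _ _
  have hdt := hasRelDim_of_isPullback hsq hd
  have hSt : RelCanon.IsSkMor (f.fiber t ↘ Spec (CommRingCat.of K)) 2 := isSkMor_fiber A Y hS t
  obtain ⟨G, hG, eG⟩ := exists_refPowZ_eq (isCoh_and_two_le_depth K (f.fiber t) d hdt hωt).1 m
  have hM : Coh.IsCoh (RelCanon.refPowZ ωt m) := eG.symm ▸ H29Ref.isCoh_ddual G hG
  have hfull : ∀ v : f.fiber t, v ⤳ w → Nontrivial ((RelCanon.refPowZ ωt m).presheaf.stalk v) := by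
    intro v hvw
    obtain ⟨η, hη, hT⟩ := H8Props.FieldDim.exists_component_generization v
    have hηV : f.fiberι t η ∈ V := (((hη.trans hvw).trans hwz).map (f.fiberι t).continuous).mem_open V.2 hzV
    have h0 : fibDim A Y (f.fiberι t η) = 0 := by
      have h := fibDim_add_cdim A Y d hd t η
      rw [show H8Props.FieldDim.cdim η = (d : WithBot ℕ∞) from hd t _ hT] at h
      revert h
      generalize fibDim A Y (f.fiberι t η) = a
      intro h
      induction a using WithBot.recBotCoe with
      | bot => simp at h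
      | coe a =>
        have h' : a + (d : ℕ∞) = 0 + d := by rw [zero_add]; exact_mod_cast h
        exact_mod_cast WithTop.add_right_cancel (ENat.natCast_ne_top d) h'
    have hηU : f.fiberι t η ∈ RelCanon.gorLocus f := by
      by_contra hc
      have := hV _ hηV hc
      rw [h0] at this
      exact absurd this (by decide)
    have hηnt : Nontrivial ((RelCanon.refPowZ ωt m).presheaf.stalk η) :=
      nontrivial_refPowZ K (f.fiber t) d hdt hSt hωt m η (isGorensteinAt_fiber A Y t η hηU)
    exact not_subsingleton_iff_nontrivial.1 (hη.mem_closed (H10Coh.isClosed_support _ hM.2)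
      (show η ∈ CohB1.support (RelCanon.refPowZ ωt m) from not_subsingleton_iff_nontrivial.2 hηnt))
  have h := depth_at_closed_point' 3 _ (h3 w)
  rw [supportDim_stalk_eq_of_generization _ hM.1 w hfull, ringKrullDim_fiber_stalk A Y t w,
    min_eq_left (show ((3 : ℕ) : WithBot ℕ∞) ≤ _ from hG2 w hwz hw)] at h
  exact WithBot.coe_le_coe.1 h

include hd hω hS hV hzV hωt in
/-- Relative `(S₂)` of a reflexive power whose fibre version has depth three. -/
theorem relSkAt_of_depth_three (m : ℤ)
    (hdep : ∀ w : (Y ↘ Spec (CommRingCat.of A)).fiber t, w ⤳ z →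
      ((Y ↘ Spec (CommRingCat.of A)).fiberι t) w ∉ RelCanon.gorLocus (Y ↘ Spec (CommRingCat.of A)) →
      (3 : ℕ∞) ≤ LocCoh.depth (((Y ↘ Spec (CommRingCat.of A)).fiber t).presheaf.stalk w)
        ((RelCanon.refPowZ ωt m).presheaf.stalk w)) :
    RelCanon.RelSkAt (Y ↘ Spec (CommRingCat.of A)) 2 (RelCanon.refPowZ ω m)
        (((Y ↘ Spec (CommRingCat.of A)).fiberι t) z) ∧
      (RelCanon.InvertibleAt (RelCanon.refPowZ ωt m) z →
        RelCanon.InvertibleAt (RelCanon.refPowZ ω m) (((Y ↘ Spec (CommRingCat.of A)).fiberι t) z)) := by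
  let f := Y ↘ Spec (CommRingCat.of A)
  haveI : Flat f := hS.1
  haveI := isNoetherian_of_proper A Y
  haveI : LocallyOfFinitePresentation f := inferInstance
  let U : Y.Opens := ⟨_, S3617.result Y _ f⟩
  obtain ⟨G, hG, eG⟩ := exists_refPowZ_eq (isCoh_and_two_le_depth A Y d hd hω).1 m
  have hR : Coh.IsCoh (RelCanon.refPowZ ω m) := eG.symm ▸ H29Ref.isCoh_ddual G hG
  by_cases hzU : f.fiberι t z ∈ RelCanon.gorLocus f
  · obtain ⟨eU⟩ := nonempty_restrict_refPowZ U ω m
    have hinv : RelCanon.InvertibleAt (RelCanon.refPowZ ω m) (f.fiberι t z) :=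
      H29Ref.exists_iso_of_isFreeOfRankNear_one _ _ (H29Ref.isFreeOfRankNear_of_restrict _ U
        (isInvertible_refPowZ (isInvertible_restrict_gor A Y d hd hω hS.1) m) eU _ hzU)
    exact ⟨relSkAt_of_invertibleAt A Y hS hR.1 _ hinv, fun _ => hinv⟩
  let y := f.fiberι t z
  obtain ⟨hflat, ⟨L⟩⟩ := stalk_of_depth_three A Y d hd hω hS V hV m t z hzV hzU ωt hωt hdep
  let K := (Spec (CommRingCat.of A)).residueField t
  letI : (f.fiber t).Over (Spec (CommRingCat.of K)) := ⟨f.fiberToSpecResidueField t⟩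
  haveI : IsProper (f.fiber t ↘ Spec (CommRingCat.of K)) :=
    MorphismProperty.pullback_snd (P := @IsProper) _ _ inferInstance
  haveI := isNoetherian_of_proper K (f.fiber t)
  have hsq : IsPullback (f.fiberι t) (f.fiber t ↘ Spec (CommRingCat.of K)) f
      ((Spec (CommRingCat.of A)).fromSpecResidueField t) := IsPullback.of_hasPullback _ _
  obtain ⟨Gt, hGt, eGt⟩ := exists_refPowZ_eq
    (isCoh_and_two_le_depth K (f.fiber t) d (hasRelDim_of_isPullback hsq hd) hωt).1 m
  refine ⟨⟨hflat, ?_⟩, fun hinv => ?_⟩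
  · have hsk : RelCanon.SkAt 2 (RelCanon.refPowZ ωt m) z := by
      rw [eGt]
      exact hasSk_two_homSh (RefHull.dual Gt) (Coh.structureModule (f.fiber t)) (H29Ref.isCoh_dual Gt hGt)
        (H10Coh.isCoh_structureModule' (f.fiber t)) z (skAt_fiber A Y hS t z)
    let L' := (LinearEquiv.ofBijective _ (H06Mod.pullStalkLin_bijective (f.fiberι t)
      (RelCanon.refPowZ ω m) z)).symm.trans L
    have hskR : RelCanon.SkAt 2 ((Scheme.Modules.pullback (f.fiberι t)).obj (RelCanon.refPowZ ω m)) z :=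
      (H06EGA12.hasSk_iff_of_semilinear (RingHom.id _) Function.surjective_id L'.symm.toAddEquiv
        (fun r v => map_smul L'.symm r v) 2).2 hsk
    exact LeadBrown.Rel.forall_fiber f
      (P := fun t z => RelCanon.SkAt 2 ((Scheme.Modules.pullback (f.fiberι t)).obj (RelCanon.refPowZ ω m)) z →
        RelCanon.SkAt 2 ((Scheme.Modules.pullback (f.fiberι (f (f.fiberι t z)))).obj (RelCanon.refPowZ ω m))
          (f.asFiber (f.fiberι t z)))
      (fun y hy => by rwa [f.fiberι_asFiber y]) t z hskR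
  · letI := (f.stalkMap y).hom.toAlgebra
    letI := FlatMod.moduleStalkOver f (RelCanon.refPowZ ω m) y
    haveI : IsScalarTower ((Spec (CommRingCat.of A)).presheaf.stalk (f y)) (Y.presheaf.stalk y)
        ((RelCanon.refPowZ ω m).presheaf.stalk y) := .of_algebraMap_smul fun _ _ => rfl
    haveI : IsLocalHom (algebraMap ((Spec (CommRingCat.of A)).presheaf.stalk (f y)) (Y.presheaf.stalk y)) :=
      inferInstanceAs (IsLocalHom (f.stalkMap y).hom)
    haveI : Module.Flat ((Spec (CommRingCat.of A)).presheaf.stalk (f y))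
      ((RelCanon.refPowZ ω m).presheaf.stalk y) := hflat
    haveI : Module.Finite (Y.presheaf.stalk y) ((RelCanon.refPowZ ω m).presheaf.stalk y) :=
      H06Mod.finite_stalk _ hR.2 _
    obtain ⟨e⟩ := nonempty_stalk_equiv_of_invertibleAt (eGt.symm ▸ H29Ref.isCoh_ddual Gt hGt).1 hinv
    obtain ⟨b⟩ := basis_of_fibre_equiv ((Spec (CommRingCat.of A)).presheaf.stalk (f y)) (Y.presheaf.stalk y)
      ((RelCanon.refPowZ ω m).presheaf.stalk y) ((f.fiber t).presheaf.stalk z) ((f.fiberι t).stalkMap_surjective z)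
      (ker_fiberι_stalkMap f t z) (L.trans e)
    exact H29Ref.exists_iso_of_isFreeOfRankNear_one _ _
      (H8Props.FunDescent.isFreeOfRankNear_of_stalkFree_of_isFP _ (H10Coh.isFP_of_isCoh _ hR) ⟨b⟩)

end Groth.Agent.H4Rel
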