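import Groth.Agent.H4Rel.QGorBC
import Groth.Agent.S1392
import Groth.Agent.H05EGA4.FlatSk
import Groth.Agent.H8Props.FunDescent.GenericLimit
import Mathlib.RingTheory.Flat.FaithfullyFlat.Algebra
import Mathlib.RingTheory.LocalRing.Module

/-!
# Faithfully flat descent for ℚ-Gorenstein families
-/

set_option autoImplicit false
set_option linter.style.haveILetI false
set_option linter.unusedSectionVars false
set_option backward.isDefEq.respectTransparency false
set_option maxHeartbeats 1000000
set_option synthInstance.maxHeartbeats 400000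

universe u

open CategoryTheory CategoryTheory.Limits AlgebraicGeometry IsLocalRing
open Groth.Agent.H16Derived
open scoped TensorProduct

attribute [local instance] HasDerivedCategory.standard

namespace Groth.Agent.H4Rel

/-- Flatness of a module descends along a faithfully flat ring map. -/
theorem flat_of_flat_tensor (R S M : Type u) [CommRing R] [CommRing S] [Algebra R S] [AddCommGroup M] [Module R M]
    [Module.FaithfullyFlat R S] [Module.Flat S (S ⊗[R] M)] : Module.Flat R M := by
  haveI : Module.Flat R (S ⊗[R] M) := Module.Flat.trans R S (S ⊗[R] M)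
  refine Module.Flat.iff_lTensor_preserves_injective_linearMap.2 fun N N' _ _ _ _ f hf => ?_
  refine (Module.FaithfullyFlat.lTensor_injective_iff_injective R S (f.lTensor M)).1 ?_
  have h := Module.Flat.lTensor_preserves_injective_linearMap (M := S ⊗[R] M) f hf
  have e : (f.lTensor M).lTensor S =
      (TensorProduct.assoc R S M N').toLinearMap ∘ₗ f.lTensor (S ⊗[R] M) ∘ₗ
        (TensorProduct.assoc R S M N).symm.toLinearMap := by
    ext; simp
  rw [e]
  exact (TensorProduct.assoc R S M N').injective.comp (h.comp (TensorProduct.assoc R S M N).symm.injective)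

/-- Freeness of rank one descends along a flat local ring map. -/
theorem basis_of_tensor_equiv (R S M : Type u) [CommRing R] [IsLocalRing R] [CommRing S] [IsLocalRing S]
    [Algebra R S] [IsLocalHom (algebraMap R S)] [Module.Flat R S] [AddCommGroup M] [Module R M]
    [Module.Finite R M] (e : S ⊗[R] M ≃ₗ[S] S) : Nonempty (Module.Basis (Fin 1) R M) := by
  haveI : Module.FaithfullyFlat R S := Module.FaithfullyFlat.of_flat_of_isLocalHom
  haveI : Module.Flat S (S ⊗[R] M) := Module.Flat.of_linearEquiv e
  haveI := flat_of_flat_tensor R S M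
  haveI : Module.Free R M := Module.free_of_flat_of_isLocalRing
  have h : Module.finrank R M = 1 := by
    rw [← Module.finrank_baseChange (R := S) (S := R) (M' := M), e.finrank_eq, Module.finrank_self]
  exact ⟨Module.finBasisOfFinrankEq R M h⟩

/-- Serre's conditions of a module descend along a flat local ring map. -/
theorem hasSk_of_tensor (k : ℕ) (R S M : Type u) [CommRing R] [IsLocalRing R] [IsNoetherianRing R] [CommRing S]
    [IsLocalRing S] [IsNoetherianRing S] [Algebra R S] [IsLocalHom (algebraMap R S)] [Module.Flat R S]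
    [AddCommGroup M] [Module R M] [Module.Finite R M] (h : LocCoh.HasSk k S (S ⊗[R] M)) :
    LocCoh.HasSk k R M := by
  haveI : Module.Finite S (S ⊗[R] M) := inferInstance
  have h1 : EGA4.HasSkAt k S (S ⊗[R] M) (maximalIdeal S) :=
    (H05EGA4.hasSkAt_iff_forall_le (S ⊗[R] M) k (maximalIdeal S)).2 fun q _ => h q.asIdeal
  have h2 := H05EGA4.FlatSk.hasSkAt_base (A := R) (B := S) (F := S) (E := M) k ⟨maximalIdeal S, inferInstance⟩
    (by rw [Module.mem_support_iff]; infer_instance) h1
  intro q _
  exact (H05EGA4.hasSkAt_iff_forall_le M k _).1 h2 ⟨q, inferInstance⟩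
    ((le_maximalIdeal (Ideal.IsPrime.ne_top inferInstance)).trans (maximalIdeal_comap (algebraMap R S)).ge)

section Scheme

variable {X X' : Scheme.{u}} [IsLocallyNoetherian X] (p : X' ⟶ X) [Flat p]

attribute [local instance] H06Mod.stalkAlgebra

/-- Invertibility descends along flat maps, pointwise. -/
theorem invertibleAt_of_pullback (F : X.Modules) (hF : Coh.IsCoh F) (x' : X')
    (h : RelCanon.InvertibleAt ((Scheme.Modules.pullback p).obj F) x') : RelCanon.InvertibleAt F (p x') := by
  haveI : IsLocalHom (algebraMap (X.presheaf.stalk (p x')) (X'.presheaf.stalk x')) :=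
    inferInstanceAs (IsLocalHom (p.stalkMap x').hom)
  haveI : Module.Flat (X.presheaf.stalk (p x')) (X'.presheaf.stalk x') := Flat.stalkMap p x'
  haveI : Module.Finite (X.presheaf.stalk (p x')) (F.presheaf.stalk (p x')) := H06Mod.finite_stalk _ hF.2 _
  have hq : Coh.IsQCoh ((Scheme.Modules.pullback p).obj F) := H29Fitt.isQCoh_pullback p F hF.1
  obtain ⟨e⟩ := nonempty_stalk_equiv_of_invertibleAt hq h
  obtain ⟨b⟩ := basis_of_tensor_equiv (X.presheaf.stalk (p x')) (X'.presheaf.stalk x') (F.presheaf.stalk (p x'))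
    ((LinearEquiv.ofBijective _ (H06Mod.pullStalkLin_bijective p F x')).trans e)
  exact H29Ref.exists_iso_of_isFreeOfRankNear_one F (p x')
    (H8Props.FunDescent.isFreeOfRankNear_of_stalkFree_of_isFP F (H10Coh.isFP_of_isCoh F hF) ⟨b⟩)

/-- Serre's conditions descend along flat maps. -/
theorem skAt_of_pullback [IsLocallyNoetherian X'] (k : ℕ) (F : X.Modules) (hF : Coh.IsCoh F) (x' : X')
    (h : RelCanon.SkAt k ((Scheme.Modules.pullback p).obj F) x') : RelCanon.SkAt k F (p x') := by
  haveI : IsLocalHom (algebraMap (X.presheaf.stalk (p x')) (X'.presheaf.stalk x')) :=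
    inferInstanceAs (IsLocalHom (p.stalkMap x').hom)
  haveI : Module.Flat (X.presheaf.stalk (p x')) (X'.presheaf.stalk x') := Flat.stalkMap p x'
  haveI : Module.Finite (X.presheaf.stalk (p x')) (F.presheaf.stalk (p x')) := H06Mod.finite_stalk _ hF.2 _
  let L := LinearEquiv.ofBijective _ (H06Mod.pullStalkLin_bijective p F x')
  exact hasSk_of_tensor k (X.presheaf.stalk (p x')) (X'.presheaf.stalk x') (F.presheaf.stalk (p x'))
    ((H06EGA12.hasSk_iff_of_semilinear (RingHom.id _) Function.surjective_id L.toAddEquiv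
      (fun r v => map_smul L r v) k).1 h)

end Scheme

section Family

variable (A : Type u) [CommRing A] [IsNoetherianRing A] (Y : Scheme.{u}) [Y.Over (Spec (CommRingCat.of A))]
  [IsProper (Y ↘ Spec (CommRingCat.of A))] (d : ℕ)
  (hd : Cyc.HasRelDim (Y ↘ Spec (CommRingCat.of A)) d) {ω : Y.Modules}
  (hω : RelCanon.IsDualizingSheaf A Y d ω)
  (hS : RelCanon.IsSkMor (Y ↘ Spec (CommRingCat.of A)) 2)
  (hG : ∀ y : Y, y ∉ RelCanon.gorLocus (Y ↘ Spec (CommRingCat.of A)) → 2 ≤ fibDim A Y y)
  {B : Type u} [CommRing B] [IsNoetherianRing B] {g : Spec (CommRingCat.of B) ⟶ Spec (CommRingCat.of A)} [Flat g]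
  {Y' : Scheme.{u}} [Y'.Over (Spec (CommRingCat.of B))] {p : Y' ⟶ Y}
  (hp : IsPullback p (Y' ↘ Spec (CommRingCat.of B)) (Y ↘ Spec (CommRingCat.of A)) g)
  {ω' : Y'.Modules} (hω' : RelCanon.IsDualizingSheaf B Y' d ω')

include hd hω hS hG hp hω' in
/-- Reflexive powers commute with flat base change. -/
theorem nonempty_pullback_refPowZ_of_flat (m : ℤ) :
    Nonempty ((Scheme.Modules.pullback p).obj (RelCanon.refPowZ ω m) ≅ RelCanon.refPowZ ω' m) := by
  let f' := Y' ↘ Spec (CommRingCat.of B)
  haveI : IsProper f' := MorphismProperty.of_isPullback (P := @IsProper) hp inferInstance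
  haveI : Flat p := MorphismProperty.of_isPullback (P := @Flat) hp.flip inferInstance
  haveI : IsLocallyNoetherian Y := (isNoetherian_of_proper A Y).toIsLocallyNoetherian
  haveI : IsLocallyNoetherian Y' := (isNoetherian_of_proper B Y').toIsLocallyNoetherian
  obtain ⟨G, hG', eG⟩ := exists_refPowZ_eq (isCoh_and_two_le_depth A Y d hd hω).1 m
  refine (nonempty_refPowZ_bc_of_depth A Y d hd hω hS hG hp hω' m).2 fun y' hy' => ?_
  refine le_trans ?_ (depth_le_pullback p _ (eG.symm ▸ H29Ref.isCoh_ddual G hG') y')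
  rw [eG]
  exact two_le_depth_ddual A Y hS G hG' _ (hG _ hy')

include hd hω hS hG hp hω' in
/-- Invertible reflexive powers descend. -/
theorem invertibleAt_descend (r : ℤ) (y' : Y') (h : RelCanon.InvertibleAt (RelCanon.refPowZ ω' r) y') :
    RelCanon.InvertibleAt (RelCanon.refPowZ ω r) (p y') := by
  haveI : Flat p := MorphismProperty.of_isPullback (P := @Flat) hp.flip inferInstance
  haveI : IsLocallyNoetherian Y := (isNoetherian_of_proper A Y).toIsLocallyNoetherian
  obtain ⟨G, hG', eG⟩ := exists_refPowZ_eq (isCoh_and_two_le_depth A Y d hd hω).1 r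
  obtain ⟨E⟩ := nonempty_pullback_refPowZ_of_flat A Y d hd hω hS hG hp hω' r
  obtain ⟨V, hV, ⟨e⟩⟩ := h
  exact invertibleAt_of_pullback p _ (eG.symm ▸ H29Ref.isCoh_ddual G hG') y'
    ⟨V, hV, ⟨(Scheme.Modules.restrictFunctor V.ι).mapIso E ≪≫ e⟩⟩

include hd hω hS hG hp hω' in
/-- Relative `(S₂)` of the reflexive powers descends. -/
theorem relSkAt_descend (m : ℤ) (y' : Y')
    (h : RelCanon.RelSkAt (Y' ↘ Spec (CommRingCat.of B)) 2 (RelCanon.refPowZ ω' m) y') :
    RelCanon.RelSkAt (Y ↘ Spec (CommRingCat.of A)) 2 (RelCanon.refPowZ ω m) (p y') := by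
  let f := Y ↘ Spec (CommRingCat.of A)
  let f' := Y' ↘ Spec (CommRingCat.of B)
  haveI : IsProper f' := MorphismProperty.of_isPullback (P := @IsProper) hp inferInstance
  haveI := isNoetherian_of_proper A Y
  obtain ⟨E⟩ := nonempty_pullback_refPowZ_of_flat A Y d hd hω hS hG hp hω' m
  obtain ⟨G, hG', eG⟩ := exists_refPowZ_eq (isCoh_and_two_le_depth A Y d hd hω).1 m
  have hR : Coh.IsCoh (RelCanon.refPowZ ω m) := eG.symm ▸ H29Ref.isCoh_ddual G hG'
  refine ⟨S1392.result f f' p g hp _ hR.1 y' (Flat.stalkMap g _)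
    (H16Derived.BaseChange.isFlatOverAt_of_iso E.symm h.1), ?_⟩
  let t' := f' y'
  let q : f'.fiber t' ⟶ f.fiber (g t') := (isPullback_fiberToSpecResidueField_of_isPullback hp t').cone.fst
  have hsq := isPullback_fiberToSpecResidueField_of_isPullback hp t'
  haveI : Flat (Spec.map (g.residueFieldMap t')) := (HasRingHomProperty.Spec_iff (P := @Flat)).2 (by
    letI := (g.residueFieldMap t').hom.toAlgebra
    show Module.Flat ((Spec (CommRingCat.of A)).residueField (g t')) ((Spec (CommRingCat.of B)).residueField t')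
    infer_instance)
  haveI : Flat q := MorphismProperty.of_isPullback (P := @Flat) hsq.flip inferInstance
  haveI := H8Props.FieldDim.locallyOfFiniteType_fiberToSpec f (g t')
  haveI := H8Props.FieldDim.locallyOfFiniteType_fiberToSpec f' t'
  haveI : IsLocallyNoetherian (f.fiber (g t')) := LocallyOfFiniteType.isLocallyNoetherian (f.fiberToSpecResidueField (g t'))
  haveI : IsLocallyNoetherian (f'.fiber t') := LocallyOfFiniteType.isLocallyNoetherian (f'.fiberToSpecResidueField t')
  have hq : q ≫ f.fiberι (g t') = f'.fiberι t' ≫ p := pullback.lift_fst _ _ _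
  let z' := f'.asFiber y'
  have hqz : f.fiberι (g t') (q z') = p y' := by
    rw [← Scheme.Hom.comp_apply, hq, Scheme.Hom.comp_apply]
    exact congrArg p (f'.fiberι_asFiber y')
  let i := (Scheme.Modules.pullbackComp q (f.fiberι (g t'))).app (RelCanon.refPowZ ω m) ≪≫
    (Scheme.Modules.pullbackCongr hq).app _ ≪≫
      ((Scheme.Modules.pullbackComp (f'.fiberι t') p).app _).symm ≪≫
        (Scheme.Modules.pullback (f'.fiberι t')).mapIso E
  let L := H06EGA9.stalkIso i z'
  have h1 : RelCanon.SkAt 2 ((Scheme.Modules.pullback (f.fiberι (g t'))).obj (RelCanon.refPowZ ω m)) (q z') :=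
    skAt_of_pullback q 2 _ (isCohPull _ hR) z'
      ((H06EGA12.hasSk_iff_of_semilinear (RingHom.id _) Function.surjective_id L.toAddEquiv
        (fun r v => map_smul L r v) 2).1 h.2)
  have key : ∀ (t : Spec (CommRingCat.of A)) (z : f.fiber t),
      RelCanon.SkAt 2 ((Scheme.Modules.pullback (f.fiberι t)).obj (RelCanon.refPowZ ω m)) z →
      RelCanon.SkAt 2 ((Scheme.Modules.pullback (f.fiberι (f (f.fiberι t z)))).obj (RelCanon.refPowZ ω m))
        (f.asFiber (f.fiberι t z)) :=
    LeadBrown.Rel.forall_fiber f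
      (P := fun t z => RelCanon.SkAt 2 ((Scheme.Modules.pullback (f.fiberι t)).obj (RelCanon.refPowZ ω m)) z →
        RelCanon.SkAt 2 ((Scheme.Modules.pullback (f.fiberι (f (f.fiberι t z)))).obj (RelCanon.refPowZ ω m))
          (f.asFiber (f.fiberι t z)))
      fun y hy => by rwa [f.fiberι_asFiber y]
  have h2 := key _ (q z') h1
  rwa [hqz] at h2

end Family

end Groth.Agent.H4Rel
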