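import Groth.Agent.H4Rel.Levels
import Mathlib.RingTheory.Flat.TorsionFree
import Mathlib.RingTheory.Flat.EquationalCriterion
import Mathlib.RingTheory.DiscreteValuationRing.Basic
import Mathlib.RingTheory.TensorProduct.Pi

/-!
# Flat cokernels, duals and test rings
-/

set_option autoImplicit false
set_option linter.style.haveILetI false
set_option linter.unusedSectionVars false
set_option maxHeartbeats 1000000

universe u

open TensorProduct IsLocalRing

namespace Groth.Agent.H4Rel.Lift

/-- The transpose of a matrix presentation over an algebra. -/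
noncomputable def coev {B : Type u} [CommRing B] {a b : ℕ} (q : (Fin b → B) →ₗ[B] (Fin a → B)) (S : Type u)
    [CommRing S] [Algebra B S] : (Fin a → S) →ₗ[S] (Fin b → S) :=
  LinearMap.pi fun j => ∑ i, algebraMap B S (q (Pi.single j 1) i) • LinearMap.proj i

theorem coev_apply {B : Type u} [CommRing B] {a b : ℕ} (q : (Fin b → B) →ₗ[B] (Fin a → B)) (S : Type u)
    [CommRing S] [Algebra B S] (w : Fin a → S) (j : Fin b) :
    coev q S w j = Fintype.linearCombination B w (q (Pi.single j 1)) := by
  simp [coev, Fintype.linearCombination_apply, Algebra.smul_def]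

section Descend

variable {B : Type u} [CommRing B] {D Q : Type u} [AddCommGroup D] [Module B D] [AddCommGroup Q] [Module B Q]
  {a b : ℕ} {q : (Fin b → B) →ₗ[B] (Fin a → B)} {p : (Fin a → B) →ₗ[B] D}

/-- A map killing the relations descends. -/
theorem exists_descend (hp : Function.Surjective p) (hqp : Function.Exact q p) (ψ : (Fin a → B) →ₗ[B] Q)
    (h : ∀ j, ψ (q (Pi.single j 1)) = 0) : ∃ φ : D →ₗ[B] Q, φ ∘ₗ p = ψ := by
  have hker : LinearMap.ker p ≤ LinearMap.ker ψ := fun v hv => by
    obtain ⟨r, rfl⟩ := (hqp v).1 hv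
    have : ψ ∘ₗ q = 0 := LinearMap.pi_ext' fun j => LinearMap.ext_ring (by simpa using h j)
    exact LinearMap.congr_fun this r
  refine ⟨(LinearMap.ker p).liftQ ψ hker ∘ₗ (p.quotKerEquivOfSurjective hp).symm.toLinearMap, LinearMap.ext fun v => ?_⟩
  rw [LinearMap.comp_apply, LinearMap.comp_apply, LinearEquiv.coe_coe,
    show (p.quotKerEquivOfSurjective hp).symm (p v) = Submodule.Quotient.mk v from
      (p.quotKerEquivOfSurjective hp).symm_apply_apply (Submodule.Quotient.mk v)]
  rfl

end Descend

section Flat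

variable {A B : Type u} [CommRing A] [CommRing B] [Algebra A B] {X Y : Type u} [AddCommGroup X] [Module B X]
  [Module A X] [IsScalarTower A B X] [AddCommGroup Y] [Module B Y] [Module A Y] [IsScalarTower A B Y]

/-- Preimages of multiples along a map with flat cokernel. -/
theorem exists_sub_mem_ker_of_flat_coker (u : X →ₗ[B] Y) [Module.Flat A (Y ⧸ LinearMap.range u)] (I : Ideal A) (w : X)
    (hw : u w ∈ I • (⊤ : Submodule A Y)) : ∃ w' ∈ I • (⊤ : Submodule A X), u (w - w') = 0 := by
  classical
  rw [← Submodule.span_univ (R := A) (M := Y), ← Set.range_id] at hw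
  obtain ⟨c, hc, hsum⟩ := (Submodule.mem_ideal_smul_span_iff_exists_sum I (id : Y → Y) (u w)).1 hw
  let ι := {v // v ∈ c.support}
  have hsum' : ∑ v : ι, c v.1 • v.1 = u w := by
    rw [Finset.univ_eq_attach, c.support.sum_attach fun v => c v • v]; exact hsum
  have h0 : ∑ v : ι, c v.1 • (Submodule.Quotient.mk v.1 : Y ⧸ LinearMap.range u) = 0 := by
    show ∑ v : ι, c v.1 • ((LinearMap.range u).mkQ.restrictScalars A) v.1 = 0
    simp only [← map_smul]
    rw [← map_sum, hsum']
    exact (Submodule.Quotient.mk_eq_zero _).2 ⟨w, rfl⟩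
  obtain ⟨k, r, y, hy, hr⟩ := Module.Flat.isTrivialRelation_of_sum_smul_eq_zero h0
  choose y' hy' using fun j => Submodule.Quotient.mk_surjective (LinearMap.range u) (y j)
  have hv : ∀ v : ι, ∃ x : X, u x = v.1 - ∑ j, r v j • y' j := fun v => by
    refine (Submodule.Quotient.eq (LinearMap.range u)).1 ?_
    rw [← Submodule.mkQ_apply, ← Submodule.mkQ_apply, map_sum]
    simp only [Submodule.mkQ_apply, Submodule.Quotient.mk_smul, hy']
    exact hy v
  choose x hx using hv
  refine ⟨∑ v : ι, c v.1 • x v, Submodule.sum_mem _ fun v _ => Submodule.smul_mem_smul (hc _) trivial, ?_⟩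
  rw [map_sub, map_sum, sub_eq_zero, ← hsum']
  simp only [LinearMap.map_smul_of_tower, hx, smul_sub, Finset.smul_sum, smul_smul]
  rw [Finset.sum_sub_distrib, Finset.sum_comm (f := fun v j => (c v.1 * r v j) • y' j)]
  simp only [← Finset.sum_smul, hr, zero_smul, Finset.sum_const_zero, sub_zero]

variable [IsLocalRing A] {D : Type u} [AddCommGroup D] [Module B D]

/-- The transition maps are surjective if the transpose of a presentation has flat cokernel. -/
theorem trans_surjective_of_flat_coker {a b : ℕ} {q : (Fin b → B) →ₗ[B] (Fin a → B)} {p : (Fin a → B) →ₗ[B] D}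
    (hp : Function.Surjective p) (hqp : Function.Exact q p)
    [Module.Flat A ((Fin b → B) ⧸ LinearMap.range (coev q B))] (n : ℕ) :
    Function.Surjective (trans (B := B) A D n) := by
  intro φ
  suffices h : ∃ k : D →ₗ[B] B, red A D n k = φ by
    obtain ⟨k, rfl⟩ := h
    exact ⟨red A D (n + 1) k, trans_red n k⟩
  let I := maximalIdeal A ^ n
  have hI : ∀ x : B, x ∈ powR (A := A) (B := B) B n ↔ x ∈ I • (⊤ : Submodule A B) := fun x => by
    rw [powR, smul_eq_mul, Ideal.mul_top, Ideal.smul_top_eq_map]
    rfl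
  choose w hw using fun i => Submodule.Quotient.mk_surjective (powR (A := A) (B := B) B n) (φ (p (Pi.single i 1)))
  have hψ : ∀ v, Submodule.Quotient.mk (Fintype.linearCombination B w v) = φ (p v) := fun v => by
    have h : (Submodule.mkQ _) ∘ₗ Fintype.linearCombination B w = φ ∘ₗ p :=
      LinearMap.pi_ext' fun i => LinearMap.ext_ring (by
        show Submodule.Quotient.mk (Fintype.linearCombination B w (Pi.single i 1)) = φ (p (Pi.single i 1))
        rw [Fintype.linearCombination_apply_single, one_smul, hw])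
    exact LinearMap.congr_fun h v
  have hu : coev q B w ∈ I • (⊤ : Submodule A (Fin b → B)) := by
    classical
    have e : coev q B w = ∑ j, Pi.single j (coev q B w j) := (Finset.univ_sum_single _).symm
    rw [e]
    refine Submodule.sum_mem _ fun j _ => ?_
    have hj : coev q B w j ∈ I • (⊤ : Submodule A B) := by
      rw [← hI, ← Submodule.Quotient.mk_eq_zero, coev_apply, hψ, hqp.apply_apply_eq_zero, map_zero]
    have h := Submodule.mem_map_of_mem (f := LinearMap.single A (fun _ : Fin b => B) j) hj
    rw [Submodule.map_smul''] at h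
    exact Submodule.smul_mono le_rfl le_top h
  obtain ⟨w', hw', h0⟩ := exists_sub_mem_ker_of_flat_coker (coev q B) I w hu
  obtain ⟨k, hk⟩ := exists_descend hp hqp (Fintype.linearCombination B (w - w')) fun j => by
    rw [← coev_apply, h0]; rfl
  refine ⟨k, ?_⟩
  have h : red A D n k ∘ₗ p = φ ∘ₗ p := LinearMap.pi_ext' fun i => LinearMap.ext_ring ?_
  · exact LinearMap.ext fun v => by
      obtain ⟨v, rfl⟩ := hp v
      exact LinearMap.congr_fun h v
  · have hi : w' i ∈ powR (A := A) (B := B) B n := by
      rw [hI]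
      have h := Submodule.mem_map_of_mem (f := LinearMap.proj (R := A) (φ := fun _ : Fin a => B) i) hw'
      rw [Submodule.map_smul''] at h
      exact Submodule.smul_mono le_rfl le_top h
    show Submodule.Quotient.mk (k (p (Pi.single i 1))) = φ (p (Pi.single i 1))
    rw [show k (p (Pi.single i 1)) = Fintype.linearCombination B (w - w') (Pi.single i 1) from
      LinearMap.congr_fun hk _, Fintype.linearCombination_apply_single, one_smul, ← hw i, Pi.sub_apply,
      Submodule.Quotient.eq, sub_sub_cancel_left]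
    exact neg_mem hi

end Flat

section TestRing

variable {B S : Type u} [CommRing B] [CommRing S] [Algebra B S] {D : Type u} [AddCommGroup D] [Module B D]

/-- Homomorphisms lift modulo a regular element when the source has depth two. -/
theorem exists_lift_mod {J : Ideal B} (hfac : Fac J D) (π : S) {c : S} (hc : c ∈ J.map (algebraMap B S))
    (hcW : IsSMulRegular (S ⧸ Ideal.span {π}) c) {x y : S} (hx : x ∈ J.map (algebraMap B S))
    (hy : y ∈ J.map (algebraMap B S))
    (h : Reg2 x y ((D →ₗ[B] S) ⧸ Ideal.span {π} • (⊤ : Submodule S (D →ₗ[B] S))))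
    (φ : D →ₗ[B] S ⧸ Ideal.span {π}) : ∃ k : D →ₗ[B] S, ((Submodule.mkQ _).restrictScalars B) ∘ₗ k = φ := by
  let I : Ideal S := Ideal.span {π}
  let ρ : (D →ₗ[B] S) →ₗ[S] (D →ₗ[B] S ⧸ I) :=
    { toFun := fun k => ((Submodule.mkQ I).restrictScalars B) ∘ₗ k
      map_add' := fun k k' => LinearMap.comp_add _ _ _
      map_smul' := fun r k => LinearMap.ext fun v => by
        show (Submodule.Quotient.mk (r * k v) : S ⧸ I) = r • Submodule.Quotient.mk (k v)
        rfl }
  have hker : I • (⊤ : Submodule S (D →ₗ[B] S)) ≤ LinearMap.ker ρ := Submodule.smul_le.2 fun r hr k _ => by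
    refine LinearMap.mem_ker.2 (LinearMap.ext fun v => ?_)
    show (Submodule.Quotient.mk (r * k v) : S ⧸ I) = 0
    rw [Submodule.Quotient.mk_eq_zero]
    exact I.mul_mem_right _ hr
  let ψ := (I • (⊤ : Submodule S (D →ₗ[B] S))).liftQ ρ hker
  have hq : ∀ q : PrimeSpectrum S, ¬ J.map (algebraMap B S) ≤ q.asIdeal → ∃ g ∈ J, algebraMap B S g ∉ q.asIdeal :=
    fun q hq => SetLike.not_le_iff_exists.1 fun hle => hq (Ideal.map_le_iff_le_comap.2 hle)
  have hinj : ∀ q : PrimeSpectrum S, ¬ J.map (algebraMap B S) ≤ q.asIdeal → ∀ v, ψ v = 0 →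
      ∃ s, s ∉ q.asIdeal ∧ s • v = 0 := fun q hqJ v hv => by
    obtain ⟨g, hgJ, hgq⟩ := hq q hqJ
    obtain ⟨k, rfl⟩ := Submodule.Quotient.mk_surjective _ v
    obtain ⟨K, s, α, β, hαβ⟩ := hfac g hgJ
    have hval : ∀ i, ∃ r, π * r = k (β (Pi.single i 1)) := fun i => by
      have := LinearMap.congr_fun hv (β (Pi.single i 1))
      rw [LinearMap.zero_apply] at this
      obtain ⟨r, hr⟩ := Ideal.mem_span_singleton'.1 ((Submodule.Quotient.mk_eq_zero _).1 this)
      exact ⟨r, by rw [mul_comm, hr]⟩
    choose r hr using hval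
    refine ⟨algebraMap B S g ^ K, fun hh => hgq (q.2.mem_of_pow_mem K hh), ?_⟩
    rw [← Submodule.Quotient.mk_smul, Submodule.Quotient.mk_eq_zero]
    have e : k ∘ₗ β = π • Fintype.linearCombination B r :=
      LinearMap.pi_ext' fun i => LinearMap.ext_ring (by simp [hr])
    have e' : algebraMap B S g ^ K • k = π • (Fintype.linearCombination B r ∘ₗ α) := LinearMap.ext fun v => by
      have := LinearMap.congr_fun e (α v)
      rw [LinearMap.comp_apply, hαβ, map_smul, LinearMap.smul_apply] at this
      rw [LinearMap.smul_apply, ← map_pow, algebraMap_smul, this]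
      rfl
    rw [e']
    exact Submodule.smul_mem_smul (Ideal.mem_span_singleton_self π) trivial
  have hsur : ∀ q : PrimeSpectrum S, ¬ J.map (algebraMap B S) ≤ q.asIdeal → ∀ w,
      ∃ s, s ∉ q.asIdeal ∧ s • w ∈ LinearMap.range ψ := fun q hqJ w => by
    obtain ⟨g, hgJ, hgq⟩ := hq q hqJ
    obtain ⟨K, s, α, β, hαβ⟩ := hfac g hgJ
    obtain ⟨θ, hθ⟩ := Module.projective_lifting_property ((Submodule.mkQ I).restrictScalars B) (w ∘ₗ β)
      (Submodule.mkQ_surjective I)
    refine ⟨algebraMap B S g ^ K, fun hh => hgq (q.2.mem_of_pow_mem K hh), Submodule.Quotient.mk (θ ∘ₗ α),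
      LinearMap.ext fun v => ?_⟩
    rw [LinearMap.smul_apply, ← map_pow, algebraMap_smul, ← map_smul, ← hαβ]
    exact LinearMap.congr_fun hθ (α v)
  have hcW' : IsSMulRegular (D →ₗ[B] S ⧸ I) c := fun k k' e => LinearMap.ext fun v => hcW (LinearMap.congr_fun e v)
  have hxW : IsSMulRegular (D →ₗ[B] S ⧸ I) x := by
    refine isSMulRegular_iff_right_eq_zero_of_smul.2 fun w hw =>
      eq_zero_of_isTors hc (fun k k' e => hcW' e) (isTors_of_forall _ w fun q hqJ => ?_)
    obtain ⟨s, hs, v, hv⟩ := hsur q hqJ w
    obtain ⟨r, hr, hrv⟩ := hinj q hqJ _ (show ψ (x • v) = 0 by rw [map_smul, hv, smul_comm, hw, smul_zero])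
    have h0 : r • v = 0 := h.reg (show x • r • v = x • 0 by rw [smul_zero, smul_comm, hrv])
    exact ⟨r * s, fun hm => (q.2.mem_or_mem hm).elim hr hs, by rw [mul_smul, ← hv, ← map_smul, h0, map_zero]⟩
  obtain ⟨v, hv⟩ := (bijective_of_locally ψ _ hx hy h hxW hinj hsur).2 φ
  obtain ⟨k, rfl⟩ := Submodule.Quotient.mk_surjective _ v
  exact ⟨k, hv⟩

/-- Torsion of the transposed cokernel over a test ring. -/
theorem mem_range_coev_of_lift {a b : ℕ} {q : (Fin b → B) →ₗ[B] (Fin a → B)} {p : (Fin a → B) →ₗ[B] D}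
    (hp : Function.Surjective p) (hqp : Function.Exact q p) (π : S) (hπ : IsSMulRegular S π)
    (hlift : ∀ φ : D →ₗ[B] S ⧸ Ideal.span {π}, ∃ k : D →ₗ[B] S, ((Submodule.mkQ _).restrictScalars B) ∘ₗ k = φ)
    (w : Fin a → S) (v : Fin b → S) (h : coev q S w = π • v) : v ∈ LinearMap.range (coev q S) := by
  obtain ⟨φ, hφ⟩ := exists_descend hp hqp (((Submodule.mkQ (Ideal.span {π})).restrictScalars B) ∘ₗ
    Fintype.linearCombination B w) fun j => by
      show Submodule.Quotient.mk (Fintype.linearCombination B w (q (Pi.single j 1))) = 0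
      rw [← coev_apply, h, Submodule.Quotient.mk_eq_zero, Pi.smul_apply, smul_eq_mul]
      exact Ideal.mul_mem_right _ _ (Ideal.mem_span_singleton_self π)
  obtain ⟨k, hk⟩ := hlift φ
  have hmem : ∀ i, ∃ r, π * r = w i - k (p (Pi.single i 1)) := fun i => by
    have h1 := LinearMap.congr_fun hk (p (Pi.single i 1))
    have h2 := LinearMap.congr_fun hφ (Pi.single i 1)
    rw [LinearMap.comp_apply, LinearMap.comp_apply, Fintype.linearCombination_apply_single, one_smul] at h2
    rw [LinearMap.comp_apply, h2] at h1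
    obtain ⟨r, hr⟩ := Ideal.mem_span_singleton'.1 ((Submodule.Quotient.eq _).1 h1.symm)
    exact ⟨r, by rw [mul_comm, hr]⟩
  choose r hr using hmem
  refine ⟨r, funext fun j => hπ ?_⟩
  show π • coev q S r j = π • v j
  have e : π • r = w - fun i => k (p (Pi.single i 1)) := funext fun i => hr i
  rw [← Pi.smul_apply, ← map_smul, e, map_sub, Pi.sub_apply, h, Pi.smul_apply, sub_eq_self, coev_apply]
  have : Fintype.linearCombination B (fun i => k (p (Pi.single i 1))) = k ∘ₗ p :=
    LinearMap.pi_ext' fun i => LinearMap.ext_ring (by simp)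
  rw [this, LinearMap.comp_apply, hqp.apply_apply_eq_zero, map_zero]

/-- The transposed cokernel over a test ring as a base change. -/
theorem eq_zero_of_smul_eq_zero {a b : ℕ} (q : (Fin b → B) →ₗ[B] (Fin a → B)) (π : S)
    (h : ∀ w v, coev q S w = π • v → v ∈ LinearMap.range (coev q S))
    (x : S ⊗[B] ((Fin b → B) ⧸ LinearMap.range (coev q B))) (hx : π • x = 0) : x = 0 := by
  classical
  let u := coev q B
  let ea := TensorProduct.piScalarRight B S S (Fin a)
  let eb := TensorProduct.piScalarRight B S S (Fin b)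
  have hnat : ∀ z, eb (LinearMap.baseChange S u z) = coev q S (ea z) := by
    intro z
    induction z using TensorProduct.induction_on with
    | zero => rw [map_zero, map_zero, map_zero, map_zero]
    | add z z' hz hz' => rw [map_add, map_add, map_add, map_add, hz, hz']
    | tmul s w =>
      funext j
      rw [LinearMap.baseChange_tmul, TensorProduct.piScalarRight_apply, TensorProduct.piScalarRightHom_tmul,
        TensorProduct.piScalarRight_apply, TensorProduct.piScalarRightHom_tmul]
      simp only [u, coev_apply, Fintype.linearCombination_apply, Finset.sum_smul, smul_eq_mul, mul_smul]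
  have hex : Function.Exact (LinearMap.baseChange S u) (LinearMap.baseChange S (LinearMap.range u).mkQ) :=
    lTensor_exact S (LinearMap.exact_map_mkQ_range u) (Submodule.mkQ_surjective _)
  obtain ⟨z, rfl⟩ := LinearMap.lTensor_surjective S (Submodule.mkQ_surjective (LinearMap.range u)) x
  obtain ⟨w, hw⟩ := (hex (π • z)).1 (by rw [map_smul]; exact hx)
  obtain ⟨r, hr⟩ := h (ea w) (eb z) (by rw [← hnat, hw, map_smul])
  refine (hex z).2 ⟨ea.symm r, eb.injective ?_⟩
  rw [hnat, LinearEquiv.apply_symm_apply, hr]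

end TestRing

/-- A module over a discrete valuation ring is flat at a prime if a faithful test base change is torsion free. -/
theorem flat_localized_of_witness {D E S : Type u} [CommRing D] [IsDomain D] [IsDiscreteValuationRing D] [CommRing E]
    [Algebra D E] [CommRing S] [Algebra E S] [Module.Flat E S]
    {N : Type u} [AddCommGroup N] [Module E N] [Module D N] [IsScalarTower D E N] (q : Ideal E) [q.IsPrime]
    (hq : q.map (algebraMap E S) ≠ ⊤) {ϖ : D} (hϖ : Irreducible ϖ)
    (h : ∀ x : S ⊗[E] N, algebraMap D E ϖ • x = 0 → x = 0) :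
    Module.Flat D (LocalizedModule q.primeCompl N) := by
  have h1 : ∀ v : N, algebraMap D E ϖ • v = 0 → ∃ r : q.primeCompl, r • v = 0 := fun v hv => by
    have h0 : (1 : S) ⊗ₜ[E] v = 0 := h _ (by rw [← TensorProduct.tmul_smul, hv, TensorProduct.tmul_zero])
    by_contra hne
    push Not at hne
    let an : Ideal E := LinearMap.ker (LinearMap.toSpanSingleton E N v)
    have han : an ≤ q := fun r hr => by
      by_contra hrq
      exact hne ⟨r, hrq⟩ (show r • v = 0 from hr)
    let ι : E →ₗ[E] N := LinearMap.toSpanSingleton E N v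
    have hex : Function.Exact (an.subtype.lTensor S) (ι.lTensor S) :=
      Module.Flat.lTensor_exact S (LinearMap.exact_subtype_ker_map ι)
    obtain ⟨w, hw⟩ := (hex ((1 : S) ⊗ₜ[E] (1 : E))).mp (by simp [ι, h0])
    apply hq
    rw [Ideal.eq_top_iff_one]
    have key : ∀ w : S ⊗[E] an, TensorProduct.AlgebraTensorModule.rid E S S (an.subtype.lTensor S w) ∈
        q.map (algebraMap E S) := by
      intro w
      induction w using TensorProduct.induction_on with
      | zero => simp
      | add u v hu hv => rw [map_add, map_add]; exact add_mem hu hv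
      | tmul s c =>
        rw [LinearMap.lTensor_tmul, TensorProduct.AlgebraTensorModule.rid_tmul, Submodule.subtype_apply, Algebra.smul_def]
        exact Ideal.mul_mem_right _ _ (Ideal.mem_map_of_mem _ (han c.2))
    have h2 := key w
    rwa [hw, TensorProduct.AlgebraTensorModule.rid_tmul, one_smul] at h2
  have hreg : IsSMulRegular (LocalizedModule q.primeCompl N) ϖ := by
    refine isSMulRegular_iff_right_eq_zero_of_smul.2 fun z hz => ?_
    induction z using LocalizedModule.induction_on with | _ v s => ?_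
    rw [← algebraMap_smul E ϖ, LocalizedModule.smul'_mk] at hz
    obtain ⟨t, ht⟩ := LocalizedModule.mk_eq.1 (hz.trans (LocalizedModule.zero_mk 1).symm)
    rw [smul_zero, smul_zero, one_smul, Submonoid.smul_def, smul_comm] at ht
    obtain ⟨r, hr⟩ := h1 ((t : E) • v) ht
    rw [← LocalizedModule.zero_mk s]
    refine LocalizedModule.mk_eq.2 ⟨r * t, ?_⟩
    rw [Submonoid.smul_def, Submonoid.smul_def, Submonoid.smul_def, smul_zero, smul_zero, Submonoid.coe_mul, mul_smul,
      smul_comm (t : E), smul_comm (r : E)]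
    rw [show (r : E) • (t : E) • v = 0 from hr, smul_zero]
  rw [Module.Flat.flat_iff_torsion_eq_bot_of_isBezout, eq_bot_iff]
  rintro z ⟨⟨d, hd⟩, hdz⟩
  obtain ⟨j, u, rfl⟩ := IsDiscreteValuationRing.eq_unit_mul_pow_irreducible (nonZeroDivisors.ne_zero hd) hϖ
  rw [Submonoid.mk_smul, mul_smul] at hdz
  exact (hreg.pow _) ((u.isUnit.smul_eq_zero.1 hdz).trans (smul_zero _).symm)

end Groth.Agent.H4Rel.Lift
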