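import Groth.Agent.H4Rel.LevelCriterion
import Groth.Agent.H4Rel.DvrLevels
import Groth.Agent.H06FlatVal.Scheme
import Groth.Agent.H3CAlg.QGorS2.DvrTorsion

/-!
# The valuative criterion for relative `(S₂)` of reflexive powers
-/

set_option autoImplicit false
set_option linter.style.haveILetI false
set_option linter.unusedSectionVars false
set_option backward.isDefEq.respectTransparency false
set_option maxHeartbeats 2000000
set_option synthInstance.maxHeartbeats 400000

universe u

open CategoryTheory CategoryTheory.Limits AlgebraicGeometry IsLocalRing TensorProduct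
open Groth.Agent.H16Derived

attribute [local instance] HasDerivedCategory.standard

namespace Groth.Agent.H4Rel

attribute [local instance] H06Mod.stalkAlgebra

variable (A : Type u) [CommRing A] [IsNoetherianRing A] (Y : Scheme.{u}) [Y.Over (Spec (CommRingCat.of A))]
  [IsProper (Y ↘ Spec (CommRingCat.of A))] (d : ℕ)
  (hd : Cyc.HasRelDim (Y ↘ Spec (CommRingCat.of A)) d) {ω : Y.Modules}
  (hω : RelCanon.IsDualizingSheaf A Y d ω)
  (hS : RelCanon.IsSkMor (Y ↘ Spec (CommRingCat.of A)) 2)
  (hG : ∀ y : Y, y ∉ RelCanon.gorLocus (Y ↘ Spec (CommRingCat.of A)) → 2 ≤ fibDim A Y y)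

include hd hω hS hG in
/-- Lifting of maps on the dual modulo the uniformizer of a test ring. -/
theorem exists_lift_point (m : ℤ) (U : Y.Opens) (hU : (U : Set Y) = RelCanon.gorLocus (Y ↘ Spec (CommRingCat.of A)))
    {V : Type u} [CommRing V] [IsDomain V] [IsDiscreteValuationRing V] {ϖ : V} (hϖ : Irreducible ϖ)
    {g : Spec (CommRingCat.of V) ⟶ Spec (CommRingCat.of A)} {Y' : Scheme.{u}} [Y'.Over (Spec (CommRingCat.of V))]
    {p : Y' ⟶ Y} (hp : IsPullback p (Y' ↘ Spec (CommRingCat.of V)) (Y ↘ Spec (CommRingCat.of A)) g)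
    {ω' : Y'.Modules} (hω' : RelCanon.IsDualizingSheaf V Y' d ω') (y : Y) (hyU : y ∉ U) (y' : Y') (hy' : p y' = y)
    (hclosed : (Y' ↘ Spec (CommRingCat.of V)) y' = closedPoint V)
    (h : RelCanon.RelSkAt (Y' ↘ Spec (CommRingCat.of V)) 2 (RelCanon.refPowZ ω' m) y')
    (hO : RelCanon.RelSkAt (Y' ↘ Spec (CommRingCat.of V)) 2 (Coh.structureModule Y') y') :
    letI := (Y.presheaf.stalkSpecializes (specializes_of_eq hy') ≫ p.stalkMap y').hom.toAlgebra
    ∀ φ : (RefHull.dual (RelCanon.refPowZ ω m)).presheaf.stalk y →ₗ[Y.presheaf.stalk y]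
        Y'.presheaf.stalk y' ⧸ Ideal.span {((Y' ↘ Spec (CommRingCat.of V)).stalkMap y').hom
          ((StructureSheaf.toStalk V ((Y' ↘ Spec (CommRingCat.of V)) y')).hom ϖ)},
      ∃ k : (RefHull.dual (RelCanon.refPowZ ω m)).presheaf.stalk y →ₗ[Y.presheaf.stalk y] Y'.presheaf.stalk y',
        ((Submodule.mkQ _).restrictScalars (Y.presheaf.stalk y)) ∘ₗ k = φ := by
  subst hy'
  have halg : (Y.presheaf.stalkSpecializes (specializes_of_eq (rfl : p y' = p y')) ≫ p.stalkMap y').hom.toAlgebra =
      H06Mod.stalkAlgebra p y' := by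
    rw [TopCat.Presheaf.stalkSpecializes_refl, Category.id_comp]
  rw [halg]
  intro φ
  let f := Y ↘ Spec (CommRingCat.of A)
  let f' := Y' ↘ Spec (CommRingCat.of V)
  haveI : Flat f := hS.1
  haveI : IsProper f' := MorphismProperty.of_isPullback (P := @IsProper) hp inferInstance
  haveI := isNoetherian_of_proper A Y
  haveI := isNoetherian_of_proper V Y'
  let B := Y.presheaf.stalk (p y')
  let S := Y'.presheaf.stalk y'
  let A₁ := (Spec (CommRingCat.of V)).presheaf.stalk (f' y')
  letI : Algebra A₁ S := (f'.stalkMap y').hom.toAlgebra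
  let π : S := (f'.stalkMap y').hom ((StructureSheaf.toStalk V (f' y')).hom ϖ)
  -- the maximal ideal of the test ring
  have hpow : (maximalIdeal A₁ ^ 1).map (algebraMap A₁ S) = Ideal.span {π} := by
    letI : Algebra V A₁ := (StructureSheaf.toStalk V (f' y')).hom.toAlgebra
    haveI : IsLocalization.AtPrime A₁ (f' y').asIdeal := StructureSheaf.IsLocalization.to_stalk V (f' y')
    rw [pow_one, ← IsLocalization.AtPrime.map_eq_maximalIdeal (f' y').asIdeal A₁,
      show (f' y').asIdeal = maximalIdeal V from congrArg PrimeSpectrum.asIdeal hclosed, hϖ.maximalIdeal_eq,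
      Ideal.map_span, Set.image_singleton, Ideal.map_span, Set.image_singleton]
    rfl
  obtain ⟨G, hG', eG⟩ := exists_refPowZ_eq
    (isCoh_and_two_le_depth V Y' d (hasRelDim_of_isPullback hp hd) hω').1 m
  have hR' : Coh.IsCoh (RelCanon.refPowZ ω' m) := eG.symm ▸ H29Ref.isCoh_ddual G hG'
  let R' := RelCanon.refPowZ ω' m
  let M := R'.presheaf.stalk y'
  let J := offIdeal U (p y')
  have hJm : J.map (algebraMap B S) ≤ maximalIdeal S := by
    haveI : IsLocalHom (algebraMap B S) := inferInstanceAs (IsLocalHom (p.stalkMap y').hom)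
    exact Ideal.map_le_iff_le_comap.2 fun a ha => map_nonunit (algebraMap B S) a (offIdeal_le_maximalIdeal U hyU ha)
  have hJ : ∀ q, J.map (algebraMap B S) ≤ PrimeSpectrum.asIdeal q → Y'.fromSpecStalk y' q ∉ p ⁻¹ᵁ U := fun q hq => by
    show p (Y'.fromSpecStalk y' q) ∉ U
    rw [← Scheme.Hom.comp_apply, ← Scheme.SpecMap_stalkMap_fromSpecStalk, Scheme.Hom.comp_apply]
    exact notMem_of_offIdeal_le U (p y') (Ideal.map_le_iff_le_comap.1 hq)
  have hU' : ∀ x : Y', x ∉ p ⁻¹ᵁ U → 2 ≤ fibDim V Y' x := fun x hx =>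
    (hG _ fun hh => hx (show p x ∈ (U : Set Y) by rw [hU]; exact hh)).trans (fibDim_le A Y d hd hp x)
  obtain ⟨a, b, ha, hb, hab⟩ := exists_reg2_powR V Y' d (hasRelDim_of_isPullback hp hd) hR' (p ⁻¹ᵁ U) hU'
    (fun x hx => invertibleAt_bc A Y d hd hω hS hG hp hω' m x
      (invertibleAt_refPowZ_of_gor A Y d hd hω hS m (p x) (hU ▸ (show p x ∈ (U : Set Y) from hx)))) y' _ hJm hJ h
  obtain ⟨c, c', hc, -, hcc⟩ := exists_reg2_powR V Y' d (hasRelDim_of_isPullback hp hd)
    (H10Coh.isCoh_structureModule' Y') (p ⁻¹ᵁ U) hU'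
    (fun x _ => (RelCanon.isInvertible_iff_invertibleAt _).1 (H11Ample.isInvertible_structureModule (X := Y')) x)
    y' _ hJm hJ hO
  have hcW : IsSMulRegular (S ⧸ Ideal.span {π}) c := by
    refine isSMulRegular_iff_right_eq_zero_of_smul.2 fun v hv => ?_
    obtain ⟨v, rfl⟩ := Submodule.Quotient.mk_surjective _ v
    rw [← Submodule.Quotient.mk_smul, Submodule.Quotient.mk_eq_zero] at hv
    let u := H29Ref.unitEquiv (X := Y') y'
    have e : (Lift.powR (A := A₁) (B := S) ((Coh.structureModule Y').presheaf.stalk y') 1) =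
        Submodule.map u.toLinearMap (Ideal.span {π} : Submodule S S) := by
      show (maximalIdeal A₁ ^ 1).map (algebraMap A₁ S) • (⊤ : Submodule S ((Coh.structureModule Y').presheaf.stalk y')) = _
      rw [hpow]
      conv_rhs =>
        rw [← Ideal.mul_top (Ideal.span {π}), ← smul_eq_mul, Submodule.map_smul'', Submodule.map_top, LinearEquiv.range]
    have h0 := (hcc 1).reg (show c • (Submodule.Quotient.mk (u v) :
        _ ⧸ Lift.powR (A := A₁) (B := S) ((Coh.structureModule Y').presheaf.stalk y') 1) = c • 0 by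
      rw [smul_zero, ← Submodule.Quotient.mk_smul, Submodule.Quotient.mk_eq_zero, e, ← map_smul]
      exact Submodule.mem_map_of_mem hv)
    rw [Submodule.Quotient.mk_eq_zero, e] at h0
    obtain ⟨w, hw, hw'⟩ := h0
    rw [Submodule.Quotient.mk_eq_zero]
    exact u.injective hw' ▸ hw
  obtain ⟨L⟩ := nonempty_hom_dual_bc A Y d hd hω hS hG hp hω' m y'
  have h1 : Lift.Reg2 a b (((RefHull.dual (RelCanon.refPowZ ω m)).presheaf.stalk (p y') →ₗ[B] S) ⧸
      Ideal.span {π} • (⊤ : Submodule S ((RefHull.dual (RelCanon.refPowZ ω m)).presheaf.stalk (p y') →ₗ[B] S))) := by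
    refine Lift.Reg2.congr (hab 1) (Submodule.Quotient.equiv _ _ L ?_).symm
    show Submodule.map L.toLinearMap _ = (maximalIdeal A₁ ^ 1).map (algebraMap A₁ S) • (⊤ : Submodule S M)
    rw [Submodule.map_smul'', Submodule.map_top, LinearEquiv.range, hpow]
  exact Lift.exists_lift_mod (fac_dual_refPowZ A Y d hd hω hS m U hU (p y')) π hc hcW ha hb h1 φ

attribute [local instance] Algebra.TensorProduct.rightAlgebra in
include hd hω hS hG in
set_option maxHeartbeats 4000000 in
/-- Surjectivity of the transition maps from the discrete valuation test rings over a reduced base. -/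
theorem trans_surjective_of_dvr [_root_.IsReduced A] (m : ℤ) (U : Y.Opens)
    (hU : (U : Set Y) = RelCanon.gorLocus (Y ↘ Spec (CommRingCat.of A))) (y : Y) (hyU : y ∉ U)
    (hdvr : ∀ (V : Type u) [CommRing V] [IsDomain V] [IsDiscreteValuationRing V] (φ : A →+* V)
      (Y' : Scheme.{u}) [Y'.Over (Spec (CommRingCat.of V))] (p : Y' ⟶ Y),
      IsPullback p (Y' ↘ Spec (CommRingCat.of V)) (Y ↘ Spec (CommRingCat.of A)) (Spec.map (CommRingCat.ofHom φ)) →
      ∀ (ω' : Y'.Modules), RelCanon.IsDualizingSheaf V Y' d ω' →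
        ∀ y' : Y', RelCanon.RelSkAt (Y' ↘ Spec (CommRingCat.of V)) 2 (RelCanon.refPowZ ω' m) y') :
    letI := ((Y ↘ Spec (CommRingCat.of A)).stalkMap y).hom.toAlgebra
    ∀ n, Function.Surjective (Lift.trans (B := Y.presheaf.stalk y)
      ((Spec (CommRingCat.of A)).presheaf.stalk ((Y ↘ Spec (CommRingCat.of A)) y))
      ((RefHull.dual (RelCanon.refPowZ ω m)).presheaf.stalk y) n) := by
  let f := Y ↘ Spec (CommRingCat.of A)
  haveI : Flat f := hS.1
  haveI := isNoetherian_of_proper A Y
  haveI : _root_.IsReduced (CommRingCat.of A) := inferInstanceAs (_root_.IsReduced A)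
  let A₀ := (Spec (CommRingCat.of A)).presheaf.stalk (f y)
  let B := Y.presheaf.stalk y
  letI : Algebra A₀ B := (f.stalkMap y).hom.toAlgebra
  haveI : IsLocalHom (algebraMap A₀ B) := inferInstanceAs (IsLocalHom (f.stalkMap y).hom)
  haveI : Algebra.EssFiniteType A₀ B := LocallyOfFiniteType.stalkMap f y
  intro n
  obtain ⟨G₀, hG₀, eG₀⟩ := exists_refPowZ_eq (isCoh_and_two_le_depth A Y d hd hω).1 m
  have hN : Coh.IsCoh (RelCanon.refPowZ ω m) := eG₀.symm ▸ H29Ref.isCoh_ddual G₀ hG₀
  let D := (RefHull.dual (RelCanon.refPowZ ω m)).presheaf.stalk y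
  haveI : Module.Finite B D := H06Mod.finite_stalk _ (H29Ref.isCoh_dual _ hN).2 y
  obtain ⟨a, pr, hpr⟩ := Module.Finite.exists_fin' B D
  obtain ⟨b, q₀, hq₀⟩ := Module.Finite.exists_fin' B (LinearMap.ker pr)
  let rel : (Fin b → B) →ₗ[B] (Fin a → B) := (LinearMap.ker pr).subtype ∘ₗ q₀
  have hqp : Function.Exact rel pr := LinearMap.exact_iff.2 (by
    rw [LinearMap.range_comp, LinearMap.range_eq_top.2 hq₀, Submodule.map_top, Submodule.range_subtype])
  let G := (Fin b → B) ⧸ LinearMap.range (Lift.coev rel B)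
  haveI : Module.Flat A₀ G := by
    refine H06FlatVal.flat_of_forall_dvr (C := B) fun V _ _ _ _ _ halg k _ => ?_
    let E := B ⊗[A₀] V
    haveI : SMulCommClass B V E := ⟨fun c v x => by
      rw [Algebra.smul_def (A := E) c, Algebra.smul_def (A := E) c, Algebra.smul_def (A := E) v,
        Algebra.smul_def (A := E) v]
      exact mul_left_comm (algebraMap B E c) (algebraMap V E v) x⟩
    haveI hid : IsLocalizedModule (maximalIdeal B).primeCompl (LinearMap.id : G →ₗ[B] G) :=
      { map_units := fun s => by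
          obtain ⟨w, hw⟩ : IsUnit (s : B) := not_not.1 s.2
          exact (w.isUnit.map (algebraMap B (Module.End B G))).map (RingHom.id _) |> fun h => by
            rwa [hw] at h
        surj := fun v => ⟨(v, 1), by simp⟩
        exists_of_eq := fun h => ⟨1, by simpa using h⟩ }
    let eloc : LocalizedModule (maximalIdeal B).primeCompl G ≃ₗ[B] G := IsLocalizedModule.iso _ LinearMap.id
    have key := H3CAlg.QGorS2.flat_quotient_localized halg (maximalIdeal B) G (fun q hq hqn hqm => ?_) k
    · exact Module.Flat.of_linearEquiv (TensorProduct.AlgebraTensorModule.congr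
        (LinearEquiv.refl (V ⧸ maximalIdeal V ^ k) (V ⧸ maximalIdeal V ^ k)) (eloc.restrictScalars A₀)).symm
    haveI := hq
    let φ₀ : A₀ →+* V := algebraMap A₀ V
    let g := Spec.map (CommRingCat.ofHom φ₀) ≫ (Spec (CommRingCat.of A)).fromSpecStalk (f y)
    let φA : A →+* V := φ₀.comp (StructureSheaf.toStalk A (f y)).hom
    have hg : Spec.map (CommRingCat.ofHom φA) = g := by
      show _ = Spec.map (CommRingCat.ofHom φ₀) ≫ (Spec (CommRingCat.of A)).fromSpecStalk (f y)
      rw [Spec.fromSpecStalk_eq', ← Spec.map_comp]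
      rfl
    letI : (pullback f g).Over (Spec (CommRingCat.of V)) := ⟨pullback.snd f g⟩
    have hp : IsPullback (pullback.fst f g) (pullback f g ↘ Spec (CommRingCat.of V)) f g := IsPullback.of_hasPullback f g
    haveI : IsProper (pullback f g ↘ Spec (CommRingCat.of V)) :=
      MorphismProperty.pullback_snd (P := @IsProper) _ _ inferInstance
    -- the point
    have ha : Spec.map (CommRingCat.ofHom (algebraMap A₀ B)) ≫ (Spec (CommRingCat.of A)).fromSpecStalk (f y) =
        Y.fromSpecStalk y ≫ f := Scheme.SpecMap_stalkMap_fromSpecStalk f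
    have hb : Spec.map (CommRingCat.ofHom (algebraMap A₀ V)) ≫ (Spec (CommRingCat.of A)).fromSpecStalk (f y) =
        𝟙 _ ≫ g := (Category.id_comp _).symm
    let Φ : Spec (.of E) ⟶ pullback f g := (pullbackSpecIso A₀ B V).inv ≫
      pullback.map _ _ _ _ (Y.fromSpecStalk y) (𝟙 _) ((Spec (CommRingCat.of A)).fromSpecStalk (f y)) ha hb
    haveI : Mono (pullback.map (Spec.map (CommRingCat.ofHom (algebraMap A₀ B)))
        (Spec.map (CommRingCat.ofHom (algebraMap A₀ V))) f g (Y.fromSpecStalk y) (𝟙 _)
        ((Spec (CommRingCat.of A)).fromSpecStalk (f y)) ha hb) := by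
      refine ⟨fun u v huv => pullback.hom_ext ?_ ?_⟩
      · rw [← cancel_mono (Y.fromSpecStalk y), Category.assoc, Category.assoc]
        have h' := congrArg (fun w => w ≫ pullback.fst f g) huv
        simp only [Category.assoc] at h'
        erw [pullback.lift_fst] at h'
        exact h'
      · have h' := congrArg (fun w => w ≫ pullback.snd f g) huv
        simp only [Category.assoc] at h'
        erw [pullback.lift_snd, Category.comp_id] at h'
        exact h'
    haveI : Mono Φ := mono_comp _ _
    let qp : ↥(Spec (.of E)) := (⟨q, hq⟩ : PrimeSpectrum E)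
    let x' := Φ qp
    have hfst : pullback.fst f g x' = y := by
      have e1 : Φ ≫ pullback.fst f g =
          Spec.map (CommRingCat.ofHom (Algebra.TensorProduct.includeLeftRingHom : B →+* E)) ≫ Y.fromSpecStalk y := by
        simp only [Φ, Category.assoc, pullback.lift_fst, pullbackSpecIso_inv_fst_assoc]
      show pullback.fst f g (Φ qp) = y
      rw [← Scheme.Hom.comp_apply, e1, Scheme.Hom.comp_apply]
      exact Eq.trans (congrArg (Y.fromSpecStalk y) (PrimeSpectrum.ext hqn : _ = closedPoint B))
        Scheme.fromSpecStalk_closedPoint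
    have hsnd : pullback.snd f g x' = closedPoint V := by
      have e1 : Φ ≫ pullback.snd f g = Spec.map (CommRingCat.ofHom (R := V) (S := E)
          (RingHomClass.toRingHom (Algebra.TensorProduct.includeRight : V →ₐ[A₀] E))) := by
        simp only [Φ, Category.assoc, pullback.lift_snd, Category.comp_id, pullbackSpecIso_inv_snd]
      show pullback.snd f g (Φ qp) = _
      rw [← Scheme.Hom.comp_apply, e1]
      exact PrimeSpectrum.ext (le_antisymm (IsLocalRing.le_maximalIdeal (Ideal.IsPrime.ne_top inferInstance))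
        fun v hv => hqm (Ideal.mem_map_of_mem _ hv))
    let f' := pullback f g ↘ Spec (CommRingCat.of V)
    let S := (pullback f g).presheaf.stalk x'
    letI : Algebra B S :=
      (Y.presheaf.stalkSpecializes (specializes_of_eq hfst) ≫ (pullback.fst f g).stalkMap x').hom.toAlgebra
    letI : Algebra V S := ((f'.stalkMap x').hom.comp (StructureSheaf.toStalk V (f' x')).hom).toAlgebra
    letI : Algebra A₀ S := ((algebraMap B S).comp (algebraMap A₀ B)).toAlgebra
    haveI : IsScalarTower A₀ B S := IsScalarTower.of_algebraMap_eq fun _ => rfl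
    let c : Spec S ⟶ pullback f g := (pullback f g).fromSpecStalk x'
    have hC : Spec.map (CommRingCat.ofHom (algebraMap B S)) ≫ Y.fromSpecStalk y = c ≫ pullback.fst f g := by
      show Spec.map (Y.presheaf.stalkSpecializes (specializes_of_eq hfst) ≫ (pullback.fst f g).stalkMap x') ≫ _ = _
      rw [Spec.map_comp, Category.assoc, Scheme.SpecMap_stalkSpecializes_fromSpecStalk]
      exact Scheme.SpecMap_stalkMap_fromSpecStalk _
    have hV : Spec.map (CommRingCat.ofHom (algebraMap V S)) = c ≫ pullback.snd f g := by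
      show Spec.map (StructureSheaf.toStalk V (f' x') ≫ f'.stalkMap x') = _
      rw [Spec.map_comp]
      exact (congrArg (Spec.map (f'.stalkMap x') ≫ ·) (Spec.fromSpecStalk_eq' (CommRingCat.of V) (f' x')).symm).trans
        (Scheme.SpecMap_stalkMap_fromSpecStalk f')
    have hD : Spec.map (CommRingCat.ofHom (algebraMap V S)) ≫ 𝟙 _ = c ≫ pullback.snd f g := by
      rw [Category.comp_id, hV]
    haveI : IsScalarTower A₀ V S := by
      refine IsScalarTower.of_algebraMap_eq' ?_
      have e : Spec.map (CommRingCat.ofHom (algebraMap A₀ S)) =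
          Spec.map (CommRingCat.ofHom ((algebraMap V S).comp (algebraMap A₀ V))) := by
        rw [← cancel_mono ((Spec (CommRingCat.of A)).fromSpecStalk (f y))]
        show Spec.map (CommRingCat.ofHom (algebraMap A₀ B) ≫ CommRingCat.ofHom (algebraMap B S)) ≫ _ =
          Spec.map (CommRingCat.ofHom (algebraMap A₀ V) ≫ CommRingCat.ofHom (algebraMap V S)) ≫ _
        rw [Spec.map_comp, Spec.map_comp, Category.assoc, Category.assoc, ha, hb, ← Category.assoc, hC, Category.assoc,
          pullback.condition, ← Category.assoc _ (𝟙 _), hD, Category.assoc]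
      exact congrArg CommRingCat.Hom.hom (Spec.map_injective e)
    let T := H06Mod.tensorLift A₀ B V S
    have hT : T.toRingHom.Flat := H06Mod.flat_tensorLift A₀ B V S f g (Y.fromSpecStalk y)
      ((Spec (CommRingCat.of A)).fromSpecStalk (f y)) (𝟙 _) ha hb c hC hD
    letI : Algebra E S := T.toRingHom.toAlgebra
    haveI : Module.Flat E S := hT
    haveI : IsScalarTower B E S := IsScalarTower.of_algebraMap_eq fun r => by
      show _ = T (r ⊗ₜ 1)
      simp [T, H06Mod.tensorLift]
    haveI : IsScalarTower V E (E ⊗[B] G) := .of_algebraMap_smul fun v x => by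
      induction x using TensorProduct.induction_on with
      | zero => rw [smul_zero, smul_zero]
      | add u w hu hw => rw [smul_add, smul_add, hu, hw]
      | tmul e w => rw [TensorProduct.smul_tmul', TensorProduct.smul_tmul', algebraMap_smul]
    obtain ⟨ϖ, hϖ⟩ := IsDiscreteValuationRing.exists_irreducible V
    refine Lift.flat_localized_of_witness (S := S) q ?_ hϖ fun x hx => ?_
    · refine ne_top_of_le_ne_top (maximalIdeal.isMaximal S).ne_top (Ideal.map_le_iff_le_comap.2 ?_)
      have e1 : Spec.map (CommRingCat.ofHom T.toRingHom) ≫ Φ = c := by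
        apply pullback.hom_ext
        · simp only [Φ, Category.assoc, pullback.lift_fst, pullbackSpecIso_inv_fst_assoc]
          rw [← Category.assoc, ← Spec.map_comp, ← hC]
          congr 2
          ext r
          simp [T, H06Mod.tensorLift]
        · simp only [Φ, Category.assoc, pullback.lift_snd, Category.comp_id, pullbackSpecIso_inv_snd]
          rw [← Spec.map_comp, ← hV]
          congr 1
          ext r
          simp [T, H06Mod.tensorLift]
      have e2 : Spec.map (CommRingCat.ofHom T.toRingHom) (closedPoint S) = qp :=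
        Φ.injective ((congrArg (fun ψ : Spec S ⟶ pullback f g => ψ (closedPoint S)) e1).trans
          Scheme.fromSpecStalk_closedPoint)
      exact (congrArg PrimeSpectrum.asIdeal e2).ge
    -- torsion
    have hd' := hasRelDim_of_isPullback hp hd
    obtain ⟨ω', hω'⟩ := exists_isDualizingSheaf V (pullback f g) d hd'
    have hp' : IsPullback (pullback.fst f g) (pullback f g ↘ Spec (CommRingCat.of V)) f
        (Spec.map (CommRingCat.ofHom φA)) := by rw [hg]; exact hp
    have hlift := exists_lift_point A Y d hd hω hS hG m U hU hϖ hp hω' y hyU x' hfst hsnd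
      (hdvr V φA (pullback f g) (pullback.fst f g) hp' ω' hω' x')
      (relSkAt_of_invertibleAt V (pullback f g) (isSkMor_bc A Y hp hS) (H10Coh.isCoh_structureModule' _).1 x'
        ((RelCanon.isInvertible_iff_invertibleAt _).1 (H11Ample.isInvertible_structureModule (X := pullback f g)) x'))
    haveI : Flat f' := (isSkMor_bc A Y hp hS).1
    have hπ : IsSMulRegular S (algebraMap V S ϖ) := by
      have hflat : (algebraMap V S).Flat :=
        (HasRingHomProperty.Spec_iff (P := @Flat) (φ := CommRingCat.ofHom (algebraMap V S))).mp (by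
          rw [hV]
          haveI : IsLocallyNoetherian (pullback f g) := (isNoetherian_of_proper V (pullback f g)).toIsLocallyNoetherian
          show Flat (c ≫ f')
          infer_instance)
      haveI : Module.Flat V S := hflat
      have hreg : IsSMulRegular S ϖ := Module.Flat.isSMulRegular_of_isRegular (R := V) (M := S)
        (isRegular_of_ne_zero hϖ.ne_zero)
      intro u w huw
      exact hreg (show ϖ • u = ϖ • w by rwa [Algebra.smul_def, Algebra.smul_def])
    let e := TensorProduct.AlgebraTensorModule.cancelBaseChange B E S S G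
    refine e.injective ?_
    rw [map_zero]
    refine Lift.eq_zero_of_smul_eq_zero rel (algebraMap V S ϖ)
      (fun w v hwv => Lift.mem_range_coev_of_lift hpr hqp _ hπ hlift w v hwv) (e x) ?_
    have hT1 : algebraMap V S ϖ = algebraMap E S (algebraMap V E ϖ) := by
      show _ = T ((1 : B) ⊗ₜ[A₀] ϖ)
      simp [T, H06Mod.tensorLift]
    rw [hT1, ← map_smul, algebraMap_smul, hx, map_zero]
  exact Lift.trans_surjective_of_flat_coker hpr hqp n

include hd hω hS hG in
/-- Relative `(S₂)` at a point from the discrete valuation test rings over a reduced base. -/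
theorem relSkAt_of_dvr [_root_.IsReduced A] (m : ℤ) (y : Y)
    (hdvr : ∀ (V : Type u) [CommRing V] [IsDomain V] [IsDiscreteValuationRing V] (φ : A →+* V)
      (Y' : Scheme.{u}) [Y'.Over (Spec (CommRingCat.of V))] (p : Y' ⟶ Y),
      IsPullback p (Y' ↘ Spec (CommRingCat.of V)) (Y ↘ Spec (CommRingCat.of A)) (Spec.map (CommRingCat.ofHom φ)) →
      ∀ (ω' : Y'.Modules), RelCanon.IsDualizingSheaf V Y' d ω' →
        ∀ y' : Y', RelCanon.RelSkAt (Y' ↘ Spec (CommRingCat.of V)) 2 (RelCanon.refPowZ ω' m) y') :
    RelCanon.RelSkAt (Y ↘ Spec (CommRingCat.of A)) 2 (RelCanon.refPowZ ω m) y := by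
  let f := Y ↘ Spec (CommRingCat.of A)
  haveI : Flat f := hS.1
  haveI := isNoetherian_of_proper A Y
  haveI : LocallyOfFinitePresentation f := inferInstance
  obtain ⟨G, hG', eG⟩ := exists_refPowZ_eq (isCoh_and_two_le_depth A Y d hd hω).1 m
  have hR : Coh.IsCoh (RelCanon.refPowZ ω m) := eG.symm ▸ H29Ref.isCoh_ddual G hG'
  by_cases hy : y ∈ RelCanon.gorLocus f
  · exact relSkAt_of_invertibleAt A Y hS hR.1 y (invertibleAt_refPowZ_of_gor A Y d hd hω hS m y hy)
  let t := f y
  let z := f.asFiber y
  let K := (Spec (CommRingCat.of A)).residueField t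
  letI : (f.fiber t).Over (Spec (CommRingCat.of K)) := ⟨f.fiberToSpecResidueField t⟩
  haveI : IsProper (f.fiber t ↘ Spec (CommRingCat.of K)) :=
    MorphismProperty.pullback_snd (P := @IsProper) _ _ inferInstance
  haveI := isNoetherian_of_proper K (f.fiber t)
  have hsq : IsPullback (f.fiberι t) (f.fiber t ↘ Spec (CommRingCat.of K)) f
      ((Spec (CommRingCat.of A)).fromSpecResidueField t) := IsPullback.of_hasPullback _ _
  have hdt := hasRelDim_of_isPullback hsq hd
  obtain ⟨ωt, hωt⟩ := exists_isDualizingSheaf K (f.fiber t) d hdt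
  have hyz : f.fiberι t z = y := f.fiberι_asFiber y
  let U : Y.Opens := ⟨_, S3617.result Y _ f⟩
  have hyU : f.fiberι t z ∉ U := by rw [hyz]; exact hy
  obtain ⟨hflat, ⟨L⟩⟩ := flat_and_fibre_of_surjective A Y d hd hω hS hG m t z U rfl
    (by rw [hyz]; exact hy) (fun _ _ _ _ => trans_surjective_of_dvr A Y d hd hω hS hG m U rfl _ hyU hdvr) hωt
  refine ⟨hyz ▸ hflat, ?_⟩
  obtain ⟨Gt, hGt, eGt⟩ := exists_refPowZ_eq (isCoh_and_two_le_depth K (f.fiber t) d hdt hωt).1 m
  have hsk : RelCanon.SkAt 2 (RelCanon.refPowZ ωt m) z := by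
    rw [eGt]
    exact hasSk_two_homSh (RefHull.dual Gt) (Coh.structureModule (f.fiber t)) (H29Ref.isCoh_dual Gt hGt)
      (H10Coh.isCoh_structureModule' (f.fiber t)) z (skAt_fiber A Y hS t z)
  exact (H06EGA12.hasSk_iff_of_semilinear (RingHom.id _) Function.surjective_id L.symm.toAddEquiv
    (fun r v => map_smul L.symm r v) 2).2 hsk

end Groth.Agent.H4Rel
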