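import Groth.Agent.H4Rel.GorLocal
import Groth.Agent.S1801
import Groth.Agent.S1341
import Groth.Agent.H17.PrinOmega
import Groth.Agent.H29Ref.ClassMap

/-!
# Endomorphisms of the relative dualizing sheaf
-/

set_option autoImplicit false
set_option linter.style.haveILetI false
set_option linter.unusedSectionVars false
set_option backward.isDefEq.respectTransparency false
set_option maxHeartbeats 1000000
set_option synthInstance.maxHeartbeats 400000

universe u

open CategoryTheory CategoryTheory.Limits AlgebraicGeometry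
open Groth.Agent.H16Derived
open Groth.Agent.H16Derived.KFlat.Stalk (rd)
open Groth.Agent.H4DR.Dualizing (Loc)

attribute [local instance] HasDerivedCategory.standard

namespace Groth.Agent.H4Rel

/-- Scalar endomorphisms localise. -/
theorem bijective_smul_localized {B : Type u} [CommRing B] [IsNoetherianRing B] (N : Type u) [AddCommGroup N]
    [Module B N] [Module.Finite B N] (q : Ideal B) [q.IsPrime]
    (h : Function.Bijective fun a : B => a • (LinearMap.id : N →ₗ[B] N)) :
    Function.Bijective fun r : Localization.AtPrime q =>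
      r • (LinearMap.id : LocalizedModule q.primeCompl N →ₗ[Localization.AtPrime q] LocalizedModule q.primeCompl N) := by
  haveI : Module.FinitePresentation B N := Module.finitePresentation_of_finite B N
  let S := q.primeCompl
  let L := Localization.AtPrime q
  let mk := LocalizedModule.mkLinearMap S N
  have hext : ∀ (g g' : LocalizedModule S N →ₗ[L] LocalizedModule S N), (∀ n : N, g (mk n) = g' (mk n)) → g = g' := by
    intro g g' hg
    refine LinearMap.ext fun x => ?_
    induction x using LocalizedModule.induction_on with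
    | _ n s =>
      have he : LocalizedModule.mk n s = IsLocalization.mk' L (1 : B) s • mk n := by
        show _ = IsLocalization.mk' L (1 : B) s • LocalizedModule.mk n 1
        rw [← Localization.mk_eq_mk', LocalizedModule.mk_smul_mk, one_smul, mul_one]
      rw [he, map_smul, map_smul, hg]
  constructor
  · intro r r' hr
    obtain ⟨a, s, hs⟩ := IsLocalization.exists_mk'_eq S (r - r')
    have h0 : ∀ n : N, mk (a • n) = 0 := fun n => by
      have h1 := LinearMap.congr_fun hr (mk n)
      simp only [LinearMap.smul_apply, LinearMap.id_apply] at h1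
      have h2 : (r - r') • mk n = 0 := by rw [sub_smul, h1, sub_self]
      rw [map_smul, ← algebraMap_smul L a (mk n), ← IsLocalization.mk'_spec' L a s, hs, mul_smul, h2, smul_zero]
    obtain ⟨gens, hgens⟩ := ‹Module.Finite B N›.fg_top
    choose t ht using fun n : N => (IsLocalizedModule.eq_zero_iff S mk).1 (h0 n)
    let T : S := gens.prod t
    have hT : ∀ n : N, (T : B) • a • n = 0 := by
      intro n
      have hn : n ∈ Submodule.span B (gens : Set N) := hgens ▸ Submodule.mem_top
      induction hn using Submodule.span_induction with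
      | mem x hx =>
        obtain ⟨c, hc⟩ := Finset.dvd_prod_of_mem t hx
        show ((gens.prod t : S) : B) • a • x = 0
        rw [hc, Submonoid.coe_mul, mul_comm, mul_smul, ← Submonoid.smul_def (t x), ht x, smul_zero]
      | zero => simp
      | add x y _ _ hx hy => rw [smul_add, smul_add, hx, hy, add_zero]
      | smul c x _ hx => rw [smul_comm a c, smul_comm (T : B) c, hx, smul_zero]
    have hTa : (T : B) * a = 0 := h.1 (LinearMap.ext fun n => by
      show ((T : B) * a) • n = (0 : B) • n
      rw [mul_smul, hT, zero_smul])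
    refine sub_eq_zero.1 ?_
    rw [← hs]
    exact (IsLocalization.mk'_eq_zero_iff a s).2 ⟨T, hTa⟩
  · intro g
    obtain ⟨f, s, hfs⟩ := Module.FinitePresentation.exists_lift_of_isLocalizedModule S mk
      ((g.restrictScalars B) ∘ₗ mk)
    obtain ⟨a, rfl⟩ := h.2 f
    refine ⟨IsLocalization.mk' L a s, hext _ _ fun n => ?_⟩
    have h1 : mk (a • n) = (s : B) • g (mk n) := LinearMap.congr_fun hfs n
    have hu : IsUnit (algebraMap B L (s : B)) := IsLocalization.map_units L s
    refine hu.smul_left_cancel.1 ?_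
    rw [LinearMap.smul_apply, LinearMap.id_apply, ← mul_smul, IsLocalization.mk'_spec', algebraMap_smul,
      algebraMap_smul, ← map_smul]
    exact h1

/-- Scalar endomorphisms transfer along semilinear bijections. -/
theorem bijective_smul_of_semilinear {R R' M M' : Type u} [CommRing R] [CommRing R'] [AddCommGroup M] [Module R M]
    [AddCommGroup M'] [Module R' M'] (φ : R →+* R') (hφ : Function.Surjective φ) (T : M ≃+ M')
    (hT : ∀ (r : R) (v : M), T (r • v) = φ r • T v)
    (h : Function.Bijective fun r : R => r • (LinearMap.id : M →ₗ[R] M)) :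
    Function.Bijective fun r : R' => r • (LinearMap.id : M' →ₗ[R'] M') := by
  constructor
  · intro r r' hr
    obtain ⟨a, rfl⟩ := hφ r
    obtain ⟨a', rfl⟩ := hφ r'
    refine congrArg φ (h.1 (LinearMap.ext fun v => T.injective ?_))
    show T (a • v) = T (a' • v)
    rw [hT, hT]
    exact LinearMap.congr_fun hr (T v)
  · intro g
    let g' : M →ₗ[R] M :=
      { toFun := fun v => T.symm (g (T v))
        map_add' := fun v w => by rw [map_add, map_add, map_add]
        map_smul' := fun r v => T.injective (by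
          rw [RingHom.id_apply, T.apply_symm_apply, hT, map_smul, hT, T.apply_symm_apply]) }
    obtain ⟨a, ha⟩ := h.2 g'
    refine ⟨φ a, LinearMap.ext fun w => ?_⟩
    obtain ⟨v, rfl⟩ := T.surjective w
    have h1 : a • v = T.symm (g (T v)) := LinearMap.congr_fun ha v
    show φ a • T v = g (T v)
    rw [← hT, h1, T.apply_symm_apply]

/-- The scalars of a module that is a single-degree object with scalar endomorphisms. -/
theorem bijective_smul_of_single {B : Type u} [CommRing B] (K : Dual.D B) (N : ModuleCat.{u} B) (m : ℤ)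
    (e : K ≅ (DerivedCategory.singleFunctor (ModuleCat.{u} B) m).obj N)
    (h : Function.Bijective fun a : B => a • (𝟙 K)) :
    Function.Bijective fun a : B => a • (LinearMap.id : N →ₗ[B] N) := by
  let F := DerivedCategory.singleFunctor (ModuleCat.{u} B) m
  let g : (N →ₗ[B] N) → (K ⟶ K) := fun f => e.hom ≫ F.map (ModuleCat.ofHom f) ≫ e.inv
  have hg : Function.Bijective g := by
    refine ⟨fun f f' hf => ?_, fun k => ?_⟩
    · have h1 := (cancel_epi e.hom).1 hf
      exact congrArg ModuleCat.Hom.hom (F.map_injective ((cancel_mono e.inv).1 h1))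
    · obtain ⟨f, hf⟩ := F.map_surjective (e.inv ≫ k ≫ e.hom)
      refine ⟨f.hom, ?_⟩
      show e.hom ≫ F.map f ≫ e.inv = k
      rw [hf]
      simp
  have hcomp : (fun a : B => a • (𝟙 K)) = g ∘ fun a : B => a • (LinearMap.id : N →ₗ[B] N) := funext fun a => by
    show a • (𝟙 K) = e.hom ≫ F.map (a • 𝟙 N) ≫ e.inv
    rw [Functor.map_smul, CategoryTheory.Functor.map_id, Linear.smul_comp, Linear.comp_smul, Category.id_comp,
      e.hom_inv_id]
  rw [hcomp] at h
  exact (hg.of_comp_iff' _).1 h

variable (A : Type u) [CommRing A] [IsNoetherianRing A] (Y : Scheme.{u}) [Y.Over (Spec (CommRingCat.of A))]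
  [IsProper (Y ↘ Spec (CommRingCat.of A))] (d : ℕ)
  (hflat : Flat (Y ↘ Spec (CommRingCat.of A)))
  (hd : Cyc.HasRelDim (Y ↘ Spec (CommRingCat.of A)) d) {ω : Y.Modules}
  (hω : RelCanon.IsDualizingSheaf A Y d ω)

include hflat hd hω in
/-- At a Cohen–Macaulay point the endomorphisms of the stalk of `ω` are scalars. -/
theorem bijective_smul_stalk (y : Y) (h : MoreMor.IsCMAt (Y ↘ Spec (CommRingCat.of A)) y) :
    Function.Bijective fun r : Y.presheaf.stalk y =>
      r • (LinearMap.id : ω.presheaf.stalk y →ₗ[Y.presheaf.stalk y] ω.presheaf.stalk y) := by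
  let f := Y ↘ Spec (CommRingCat.of A)
  haveI : Flat f := hflat
  haveI := QCohD.hasRpush f
  haveI : CompactSpace Y := QuasiCompact.compactSpace_of_compactSpace f
  haveI : QuasiSeparatedSpace Y := quasiSeparatedSpace_of_quasiSeparated f
  haveI := isNoetherian_of_proper A Y
  haveI : LocallyOfFinitePresentation f := inferInstance
  haveI : ∀ (U V : Scheme.{u}) (j : U ⟶ V) [IsOpenImmersion j],
      PreservesFiniteLimits (Scheme.Modules.restrictFunctor j) := fun U V j _ => inferInstance
  haveI : ∀ (R : CommRingCat.{u}), PreservesFiniteLimits (tilde.functor R) := inferInstance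
  obtain ⟨hf, a, ⟨adj⟩⟩ := exists_rightAdjoint f
  obtain ⟨O, hO⟩ := exists_unit_obj A
  have h4 := isDualizingSheaf_rightAdjoint A Y adj O hO d
    fun t => H4RSH.ProperLocal.dim_le_of_components fun Z hZ => (hd t Z hZ).le
  obtain ⟨e0⟩ := nonempty_iso_of_isDualizingSheaf A Y h4 hω
  let c : DEt.Compactification f :=
    { Xbar := Y, j := 𝟙 Y, fbar := f, isOpenImmersion := inferInstance, isProper := inferInstance,
      fac := Category.id_comp f }
  haveI : DCoh.HasRpush c.fbar := ‹DCoh.HasRpush f›
  obtain ⟨eid⟩ := H4RepDual.nonempty_rd_id (a.obj O).obj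
  let U : Y.Opens := ⟨_, (S1341.result f).1⟩
  obtain ⟨_, ⟨V, hV, rfl⟩, hyV, hVU⟩ :=
    Y.isBasis_affineOpens.exists_subset_of_mem_open (show y ∈ (U : Set Y) from h) U.2
  obtain ⟨q, rfl⟩ : y ∈ Set.range hV.fromSpec.base := by rw [hV.range_fromSpec]; exact hyV
  let B := Γ(Y, V)
  let j : Spec (CommRingCat.of B) ⟶ Y := hV.fromSpec
  obtain ⟨φ, hφ⟩ : ∃ φ : A →+* B, Spec.map (CommRingCat.ofHom φ) = j ≫ f :=
    ⟨(Spec.preimage (j ≫ f)).hom, Spec.map_preimage _⟩
  letI := φ.toAlgebra
  haveI : Algebra.FiniteType A B := by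
    have h : LocallyOfFiniteType (j ≫ f) := inferInstance
    rw [← hφ, HasRingHomProperty.Spec_iff (P := @LocallyOfFiniteType)] at h
    exact h
  haveI : IsNoetherianRing B := Algebra.FiniteType.isNoetherianRing A B
  haveI : Module.Flat A B := by
    have h : Flat (j ≫ f) := inferInstance
    rw [← hφ, HasRingHomProperty.Spec_iff (P := @Flat)] at h
    exact h
  obtain ⟨n, ψ, hψ⟩ := (Algebra.FiniteType.iff_quotient_mvPolynomial'' (R := A) (S := B)).1 inferInstance
  haveI := H4DR.TorAmp.hasLBaseChange (algebraMap A (MvPolynomial (Fin n) A))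
  haveI := H26Dual2.isLeftAdjoint_TD ψ.toRingHom
  let adjψ : DRing.restrictD ψ.toRingHom ⊣ _ := Adjunction.ofIsLeftAdjoint (H26Dual2.TD ψ.toRingHom)
  obtain ⟨-, hfin, -, ⟨hend, -⟩, -⟩ := S1801.result A B n ψ hψ _ adjψ
  obtain ⟨e⟩ := exists_shriek_chart A Y adj O hO j hφ.symm ψ hψ adjψ
  let K := Dual2.shriekVia n (H26Dual2.TD ψ.toRingHom).rightAdjoint (Dual.inD A A)
  have hzero : ∀ i : ℤ, i ≠ -(d : ℤ) → IsZero ((DerivedCategory.homologyFunctor (ModuleCat.{u} B) i).obj K) := by
    intro i hi
    have hs : ∀ q' : PrimeSpectrum B, ¬ Nontrivial ((DCoh.HD (a.obj O).obj i).presheaf.stalk (j.base q')) := fun q' hne => by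
      obtain ⟨P⟩ := LeadBrown.Rel.nonempty_atPoint (f := f) c (hc := hf) (a := a) adj O hO (j.base q')
      have hn : P.n = d := by
        haveI := H8Props.FieldDim.locallyOfFiniteType_fiberToSpec f (f (j.base q'))
        exact_mod_cast P.dim.symm.trans (H8Props.FieldDim.localDim_eq_of_pure
          (k := (Spec (CommRingCat.of A)).residueField (f (j.base q'))) (f.fiberToSpecResidueField (f (j.base q'))) _ _
          (hd (f (j.base q'))))
      have hdeg : LeadBrown.Rel.Deg c (a := a) O i (j.base q') :=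
        @Equiv.nontrivial _ _ (H06EGA9.stalkIso ((DerivedCategory.homologyFunctor Y.Modules i).mapIso eid) (j.base q')).toEquiv hne
      exact hi (((P.cm_single (hVU (by rw [← hV.range_fromSpec]; exact ⟨q', rfl⟩)) i).1 hdeg).trans (by rw [hn]))
    have hsub : Subsingleton (Dual.HD B K i) := by
      rw [← Module.support_eq_empty_iff (R := B), Set.eq_empty_iff_forall_notMem]
      exact fun q' hq' => hs q' ((H4DualSch.nontrivial_stalk_HD_iff j (a.obj O).obj K e q' i).2 hq')
    exact @ModuleCat.isZero_of_subsingleton B _ _ hsub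
  haveI : K.IsGE (-(d : ℤ)) := (DerivedCategory.isGE_iff _ _).2 fun i hi => hzero i hi.ne
  haveI : K.IsLE (-(d : ℤ)) := (DerivedCategory.isLE_iff _ _).2 fun i hi => hzero i hi.ne'
  obtain ⟨N, ⟨eN⟩⟩ := K.exists_iso_singleFunctor_obj_of_isGE_of_isLE (-(d : ℤ))
  let l : Dual.HD B K (-(d : ℤ)) ≃ₗ[B] N := ((DerivedCategory.homologyFunctor _ _).mapIso eN ≪≫
    (DerivedCategory.singleFunctorCompHomologyFunctorIso (ModuleCat.{u} B) (-(d : ℤ))).app N).toLinearEquiv
  have hN : Function.Bijective fun r : B => r • (LinearMap.id : Dual.HD B K (-(d : ℤ)) →ₗ[B] _) :=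
    bijective_smul_of_semilinear (RingHom.id B) Function.surjective_id l.symm.toAddEquiv (fun r v => map_smul l.symm r v)
      (bijective_smul_of_single K N _ eN hend)
  haveI := hfin (-(d : ℤ))
  obtain ⟨φ', hφ', T, hT⟩ := H4RSH.ProperLocal.exists_semilinear_HD_stalk j (a.obj O).obj K e q (-(d : ℤ))
  exact bijective_smul_of_semilinear φ' hφ' (T.trans (H06EGA9.stalkIso e0 (j.base q)).toAddEquiv)
    (fun r v => by
      show H06EGA9.stalkIso e0 (j.base q) (T (r • v)) = φ' r • H06EGA9.stalkIso e0 (j.base q) (T v)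
      rw [hT, map_smul])
    (bijective_smul_localized _ q.asIdeal hN)

/-- Multiplication by functions on a module. -/
theorem exists_scalarMap {X : Scheme.{u}} (F : X.Modules) (hF : CohB1.IsFP F) :
    ∃ θ : Coh.structureModule X ⟶ RefHull.homSh F F, ∀ x : X,
      Function.Bijective (fun r : X.presheaf.stalk x => r • (LinearMap.id : F.presheaf.stalk x →ₗ[X.presheaf.stalk x] _)) →
        Function.Bijective (RefHull.stalkMapₗ θ x) := by
  obtain ⟨θ, hθ⟩ := H17.PrinOmega.exists_hom_of_basis (Coh.structureModule X) (RefHull.homSh F F) (fun _ => True)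
    (fun W x hx => ⟨W, trivial, hx, le_rfl⟩)
    (fun U _ => LinearMap.toSpanSingleton Γ(X, U) _ (RefHull.ofHom (𝟙 F) U))
    fun U U' _ _ e r => by
      show X.presheaf.map (homOfLE e).op r • RefHull.ofHom (𝟙 F) U' =
        (RefHull.homSh F F).presheaf.map (homOfLE e).op ((show Γ(X, U) from r) • RefHull.ofHom (𝟙 F) U)
      rw [Scheme.Modules.map_smul]
      rfl
  refine ⟨θ, fun x hb => ?_⟩
  have key : (fun r : X.presheaf.stalk x =>
      RefHull.evalStalk F F x (RefHull.stalkMapₗ θ x (H29Ref.unitEquiv x r))) =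
      fun r => r • (LinearMap.id : F.presheaf.stalk x →ₗ[X.presheaf.stalk x] _) := funext fun r => by
    have h1 : RefHull.evalStalk F F x (RefHull.stalkMapₗ θ x (H29Ref.oneStalk x)) = LinearMap.id := by
      rw [← H29Ref.germ_one (U := ⊤) x trivial, RefHull.stalkMapₗ_germ, hθ ⊤ trivial, RefHull.evalStalk_germ]
      refine LinearMap.ext fun v => ?_
      show ((1 : Γ(X, ⊤)) • RefHull.ofHom (𝟙 F) ⊤).1 ⟨x, trivial⟩ v = v
      rw [one_smul, RefHull.ofHom_apply, H29Ref.stalkMapₗ_id_apply]
    show RefHull.evalStalk F F x (RefHull.stalkMapₗ θ x (r • H29Ref.oneStalk x)) = _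
    rw [map_smul, map_smul, h1]
  rw [← key] at hb
  exact ((H29Ref.evalStalk_bijective F F hF x).of_comp_iff' _).1
    ((Function.Bijective.of_comp_iff _ (H29Ref.unitEquiv x).bijective).1 hb)

include hd hω in
/-- `𝓗om(ω, ω) = O`. -/
theorem nonempty_homSh_self (hS : RelCanon.IsSkMor (Y ↘ Spec (CommRingCat.of A)) 2) :
    Nonempty (RefHull.homSh ω ω ≅ Coh.structureModule Y) := by
  let f := Y ↘ Spec (CommRingCat.of A)
  haveI : Flat f := hS.1
  haveI := isNoetherian_of_proper A Y
  haveI : LocallyOfFinitePresentation f := inferInstance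
  obtain ⟨hcoh, hdep⟩ := isCoh_and_two_le_depth A Y d hd hω
  let U : Y.Opens := ⟨_, (S1341.result f).1⟩
  have hcod : ∀ y : Y, y ∉ U → 2 ≤ fibDim A Y y := fun y hy => by
    by_contra hlt
    haveI : IsLocallyNoetherian (f.fiber (f y)) :=
      haveI := H8Props.FieldDim.locallyOfFiniteType_fiberToSpec f (f y)
      LocallyOfFiniteType.isLocallyNoetherian (f.fiberToSpecResidueField (f y))
    refine hy ⟨Flat.stalkMap f y, ?_⟩
    have h2 := H4RSH.RelDualS2.depth_at_closed_point _ (hS.2.2 y)
    rw [Module.supportDim_eq_of_equiv (H29Ref.unitEquiv (X := f.fiber (f y)) (f.asFiber y)).symm,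
      Module.supportDim_self_eq_ringKrullDim, H4Depth.depth_congr (H29Ref.unitEquiv (X := f.fiber (f y)) (f.asFiber y)).symm,
      min_eq_right (show ringKrullDim _ ≤ ((2 : ℕ) : WithBot ℕ∞) from le_of_lt (not_le.1 hlt))] at h2
    exact { supportDim_eq_depth := by
              rw [Module.supportDim_self_eq_ringKrullDim]
              exact le_antisymm h2 (H8Props.FlatDepth.depth_le_dim _) }
  obtain ⟨θ, hθ⟩ := exists_scalarMap ω (H10Coh.isFP_of_isCoh ω hcoh)
  haveI := H4PushUniv.isIso_unit U _ (H29Ref.isCoh_homSh ω ω hcoh hcoh)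
    fun y hy => two_le_depth_homSh ω ω hcoh hcoh y (hdep y (hcod y hy))
  haveI := H4PushUniv.isIso_unit U _ (H10Coh.isCoh_structureModule' Y) fun y hy => by
    rw [← H4Depth.depth_congr (H29Ref.unitEquiv (X := Y) y)]
    exact two_le_depth_stalk A Y hS y (hcod y hy)
  haveI := H29Ref.isIso_restrict_of_bijective U θ fun x hx => hθ x (bijective_smul_stalk A Y d hS.1 hd hω x hx)
  haveI := isIso_of_restrict U θ
  exact ⟨(asIso θ).symm⟩

end Groth.Agent.H4Rel
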