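import Groth.Agent.H4Rel.LiftScheme

/-!
# Relative `(S₂)` from lifts of the reflexive powers of a fibre
-/

set_option autoImplicit false
set_option linter.style.haveILetI false
set_option linter.unusedSectionVars false
set_option backward.isDefEq.respectTransparency false
set_option maxHeartbeats 1000000
set_option synthInstance.maxHeartbeats 400000

universe u

open CategoryTheory CategoryTheory.Limits AlgebraicGeometry
open Groth.Agent.H16Derived

attribute [local instance] HasDerivedCategory.standard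

namespace Groth.Agent.H4Rel

/-- The comparison with a direct image is bijective on the stalks of the open. -/
theorem bijective_stalk_unit_comp {X : Scheme.{u}} [IsNoetherian X] (U : X.Opens) {G : X.Modules} (hG : Coh.IsCoh G)
    {E : (U : Scheme.{u}).Modules} (e : G.restrict U.ι ≅ E) (x : X) (hx : x ∈ U) :
    Function.Bijective (RefHull.stalkMapₗ ((Scheme.Modules.restrictAdjunction U.ι).unit.app G ≫
      (Scheme.Modules.pushforward U.ι).map e.hom) x) := by
  haveI := isIso_restrict_unit U U G hG (fun _ h h' => absurd h h')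
  haveI : IsIso ((Scheme.Modules.restrictFunctor U.ι).map ((Scheme.Modules.restrictAdjunction U.ι).unit.app G ≫
      (Scheme.Modules.pushforward U.ι).map e.hom)) := by
    rw [Functor.map_comp]; infer_instance
  haveI : IsIso ((Scheme.Modules.restrictFunctor U.ι ⋙ Scheme.Modules.toPresheaf (U : Scheme.{u}) ⋙
      TopCat.Presheaf.stalkFunctor Ab.{u} (⟨x, hx⟩ : (U : Scheme.{u}))).map
      ((Scheme.Modules.restrictAdjunction U.ι).unit.app G ≫ (Scheme.Modules.pushforward U.ι).map e.hom)) :=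
    Functor.map_isIso (Scheme.Modules.toPresheaf (U : Scheme.{u}) ⋙
      TopCat.Presheaf.stalkFunctor Ab.{u} (⟨x, hx⟩ : (U : Scheme.{u})))
      ((Scheme.Modules.restrictFunctor U.ι).map _)
  show Function.Bijective ((Scheme.Modules.toPresheaf X ⋙ TopCat.Presheaf.stalkFunctor Ab.{u} x).map _)
  exact (ConcreteCategory.isIso_iff_bijective _).1
    ((NatIso.isIso_map_iff (Scheme.Modules.restrictStalkNatIso U.ι ⟨x, hx⟩) _).1 ‹_›)

variable (A : Type u) [CommRing A] [IsNoetherianRing A] (Y : Scheme.{u}) [Y.Over (Spec (CommRingCat.of A))]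
  [IsProper (Y ↘ Spec (CommRingCat.of A))] (d : ℕ)
  (hd : Cyc.HasRelDim (Y ↘ Spec (CommRingCat.of A)) d) {ω : Y.Modules}
  (hω : RelCanon.IsDualizingSheaf A Y d ω)
  (hS : RelCanon.IsSkMor (Y ↘ Spec (CommRingCat.of A)) 2)
  (V : Y.Opens) (hV : ∀ x ∈ V, x ∉ RelCanon.gorLocus (Y ↘ Spec (CommRingCat.of A)) → 2 ≤ fibDim A Y x)

include hd hω hS hV in
/-- Relative `(S₂)` from a coherent lift of a reflexive power of the fibre. -/
theorem relSkAt_of_lift (m : ℤ) (M : Y.Modules) (hM : Coh.IsCoh M) (U : Y.Opens)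
    (hU : (U : Set Y) = RelCanon.gorLocus (Y ↘ Spec (CommRingCat.of A)))
    (e : M.restrict U.ι ≅ (RelCanon.refPowZ ω m).restrict U.ι)
    (t : Spec (CommRingCat.of A)) (z : (Y ↘ Spec (CommRingCat.of A)).fiber t)
    (hz : ((Y ↘ Spec (CommRingCat.of A)).fiberι t) z ∈ V)
    (G : ((Y ↘ Spec (CommRingCat.of A)).fiber t).Modules) (hG : Coh.IsCoh G)
    (eG : (Scheme.Modules.pullback ((Y ↘ Spec (CommRingCat.of A)).fiberι t)).obj M ≅ RefHull.ddual G) :
    RelCanon.RelSkAt (Y ↘ Spec (CommRingCat.of A)) 2 (RelCanon.refPowZ ω m)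
      (((Y ↘ Spec (CommRingCat.of A)).fiberι t) z) := by
  let f := Y ↘ Spec (CommRingCat.of A)
  haveI := isNoetherian_of_proper A Y
  haveI := H8Props.FieldDim.locallyOfFiniteType_fiberToSpec f t
  haveI : IsLocallyNoetherian (f.fiber t) := LocallyOfFiniteType.isLocallyNoetherian (f.fiberToSpecResidueField t)
  have hmem : ∀ x, x ∈ U ↔ x ∈ RelCanon.gorLocus f := fun x => Set.ext_iff.1 hU x
  obtain ⟨G₀, hG₀, eR⟩ := exists_refPowZ_eq (isCoh_and_two_le_depth A Y d hd hω).1 m
  have hR : Coh.IsCoh (RelCanon.refPowZ ω m) := eR.symm ▸ H29Ref.isCoh_ddual G₀ hG₀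
  let ψ := (Scheme.Modules.restrictAdjunction U.ι).unit.app M ≫ (Scheme.Modules.pushforward U.ι).map e.hom
  let χ := (Scheme.Modules.restrictAdjunction U.ι).unit.app (RelCanon.refPowZ ω m) ≫
    (Scheme.Modules.pushforward U.ι).map (Iso.refl ((RelCanon.refPowZ ω m).restrict U.ι)).hom
  let y := f.fiberι t z
  have hψ : ∀ x, x ∈ U → Function.Bijective (RefHull.stalkMapₗ ψ x) := bijective_stalk_unit_comp U hM e
  have hχU : ∀ x, x ∈ U → Function.Bijective (RefHull.stalkMapₗ χ x) := bijective_stalk_unit_comp U hR (Iso.refl _)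
  haveI : (RelCanon.refPowZ ω m).IsQuasicoherent := hR.1
  haveI : ((RelCanon.refPowZ ω m).restrict U.ι).IsQuasicoherent :=
    Scheme.Modules.isQuasicoherent_restrictFunctor _ _
  have hχ : Function.Bijective (RefHull.stalkMapₗ χ y) :=
    bijective_stalk_of_depth_two χ hR (H10Coh.isQuasicoherent_pushforward U.ι _) V (fun x hx => by
      by_cases hxU : x ∈ U
      · exact Or.inl (hχU x hxU)
      · refine Or.inr ⟨?_, H4PushUniv.not_isAssPoint U _ x hxU⟩
        rw [eR]
        exact two_le_depth_ddual A Y hS G₀ hG₀ x (hV x hx fun h => hxU ((hmem x).2 h))) y hz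
  let φ := (LinearEquiv.ofBijective (RefHull.stalkMapₗ χ y) hχ).symm.toLinearMap ∘ₗ RefHull.stalkMapₗ ψ y
  have hz' : ∀ w : f.fiber t, f.fiberι t w ∈ V → f.fiberι t w ∉ RelCanon.gorLocus f →
      (2 : ℕ∞) ≤ LocCoh.depth ((f.fiber t).presheaf.stalk w) ((f.fiber t).presheaf.stalk w) := fun w hw hwg =>
    two_le_depth_fiber_stalk A Y hS t w (hV _ hw hwg)
  refine relSkAt_of_map A Y d hd hω hS V hV m M hM y hz φ (fun η hη hηg => ?_) t z rfl (fun w hwz hwg => ?_) ?_
  · have hηU : η ∈ U := (hmem η).2 hηg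
    refine ⟨(LinearEquiv.ofBijective (RefHull.stalkMapₗ χ η) (hχU η hηU)).symm.toLinearMap ∘ₗ RefHull.stalkMapₗ ψ η,
      (LinearEquiv.ofBijective (RefHull.stalkMapₗ χ η) (hχU η hηU)).symm.bijective.comp (hψ η hηU), fun v => ?_⟩
    refine (LinearEquiv.ofBijective (RefHull.stalkMapₗ χ η) (hχU η hηU)).injective ?_
    show RefHull.stalkMapₗ χ η _ = (LinearEquiv.ofBijective (RefHull.stalkMapₗ χ η) (hχU η hηU))
      ((LinearEquiv.ofBijective (RefHull.stalkMapₗ χ η) (hχU η hηU)).symm _)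
    rw [LinearEquiv.apply_symm_apply]
    refine (spec_stalkMapₗ χ hη (φ v)).symm.trans (Eq.trans ?_ (spec_stalkMapₗ ψ hη v))
    exact congrArg _ ((LinearEquiv.ofBijective (RefHull.stalkMapₗ χ y) hχ).apply_symm_apply _)
  · rw [H4Depth.depth_congr (H06EGA9.stalkIso eG w)]
    exact two_le_depth_ddual' G hG w (hz' w ((hwz.map (f.fiberι t).continuous).mem_open V.2 hz) hwg)
  · let L := H06EGA9.stalkIso eG z
    refine (H06EGA12.hasSk_iff_of_semilinear (RingHom.id _) Function.surjective_id L.toAddEquiv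
      (fun r v => map_smul L r v) 2).1 ?_
    exact hasSk_two_homSh (RefHull.dual G) (Coh.structureModule (f.fiber t)) (H29Ref.isCoh_dual G hG)
      (H10Coh.isCoh_structureModule' (f.fiber t)) z (skAt_fiber A Y hS t z)

end Groth.Agent.H4Rel
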