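import Groth.Agent.H10Coh.SheafHom.Adj
import Groth.Agent.H29Ref.EvalStalk
import Groth.Agent.H4Rel.LiftApply

/-!
# Stalks of pairings and of transposes
-/

set_option autoImplicit false
set_option linter.style.haveILetI false
set_option backward.isDefEq.respectTransparency false
set_option maxHeartbeats 1000000

universe u

open CategoryTheory AlgebraicGeometry TensorProduct
open Groth.Agent.H16Derived.KFlat.Stalk (tensor pair pairLin stalkEquiv)

namespace Groth.Agent.H4Rel

variable {X : Scheme.{u}} {F N G : X.Modules}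

theorem stalkEquiv_tmul (x : X) (a : F.presheaf.stalk x) (b : N.presheaf.stalk x) :
    stalkEquiv F N x (a ⊗ₜ b) = pair F N x a b := by
  rfl

/-- The transpose on stalks. -/
theorem evalStalk_curry (φ : tensor F N ⟶ G) (x : X) (n : N.presheaf.stalk x) (v : F.presheaf.stalk x) :
    RefHull.evalStalk F G x (RefHull.stalkMapₗ (H10Coh.SheafHom.curry φ) x n) v =
      RefHull.stalkMapₗ φ x (stalkEquiv F N x (v ⊗ₜ n)) := by
  obtain ⟨U, hU, s, rfl⟩ := TopCat.Presheaf.exists_germ_eq N.presheaf n
  rw [RefHull.stalkMapₗ_germ, RefHull.evalStalk_germ, H10Coh.SheafHom.curry_app, H10Coh.SheafHom.curryFun_apply,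
    stalkEquiv_tmul]

/-- The evaluation `L ⊗ 𝓗om(L, W) → W`. -/
noncomputable def evMap (L W : X.Modules) : tensor L (RefHull.homSh L W) ⟶ W :=
  H10Coh.SheafHom.uncurry (𝟙 _)

theorem evMap_stalk (L W : X.Modules) (x : X) (v : L.presheaf.stalk x) (n : (RefHull.homSh L W).presheaf.stalk x) :
    RefHull.stalkMapₗ (evMap L W) x (stalkEquiv L (RefHull.homSh L W) x (v ⊗ₜ n)) = RefHull.evalStalk L W x n v := by
  rw [← evalStalk_curry (evMap L W) x n v,
    show H10Coh.SheafHom.curry (evMap L W) = 𝟙 _ from (H10Coh.SheafHom.homEquiv L _ W).apply_symm_apply _,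
    H29Ref.stalkMapₗ_id_apply]

/-- A pairing with a free module of rank one is bijective if it is so on a generator. -/
theorem bijective_pairing {B : Type u} [CommRing B] {L M W : Type u} [AddCommGroup L] [Module B L] [AddCommGroup M]
    [Module B M] [AddCommGroup W] [Module B W] (β : L ⊗[B] M →ₗ[B] W) (b : M ≃ₗ[B] B)
    (h : Function.Bijective fun v => β (v ⊗ₜ b.symm 1)) : Function.Bijective β := by
  let e : L ≃ₗ[B] L ⊗[B] M := (TensorProduct.rid B L).symm.trans (TensorProduct.congr (LinearEquiv.refl B L) b.symm)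
  have he : ∀ v, e v = v ⊗ₜ b.symm 1 := fun v => by simp [e]
  have : (fun v => β (v ⊗ₜ b.symm 1)) = β ∘ e := funext fun v => by rw [Function.comp_apply, he]
  rw [this] at h
  exact (Function.Bijective.of_comp_iff _ e.bijective).1 h

/-- An invertible module pairing a module with scalar endomorphisms isomorphically to itself is trivial at `x`. -/
theorem bijective_curry_stalk (φ : tensor F N ⟶ G) (x : X) (hF : CohB1.IsFP F)
    (b : N.presheaf.stalk x ≃ₗ[X.presheaf.stalk x] X.presheaf.stalk x)
    (e : F.presheaf.stalk x ≃ₗ[X.presheaf.stalk x] G.presheaf.stalk x)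
    (hφ : Function.Bijective (RefHull.stalkMapₗ φ x))
    (hend : Function.Bijective fun r : X.presheaf.stalk x =>
      r • (LinearMap.id : F.presheaf.stalk x →ₗ[X.presheaf.stalk x] F.presheaf.stalk x)) :
    Function.Bijective (RefHull.stalkMapₗ (H10Coh.SheafHom.curry φ) x) := by
  let R := X.presheaf.stalk x
  let E := (LinearEquiv.ofBijective (RefHull.evalStalk F G x) (H29Ref.evalStalk_bijective F G hF x)).trans
    ((LinearEquiv.congrRight e.symm).trans (LinearEquiv.ofBijective
      (LinearMap.toSpanSingleton R _ LinearMap.id) hend).symm)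
  let ψ := RefHull.stalkMapₗ (H10Coh.SheafHom.curry φ) x
  let r : R := E (ψ (b.symm 1))
  have hu : IsUnit r := by
    have hcomp : Function.Bijective fun v : F.presheaf.stalk x => RefHull.stalkMapₗ φ x
        (stalkEquiv F N x (v ⊗ₜ b.symm 1)) := by
      let e' : F.presheaf.stalk x ≃ₗ[R] F.presheaf.stalk x ⊗[R] N.presheaf.stalk x :=
        (TensorProduct.rid R _).symm.trans (TensorProduct.congr (LinearEquiv.refl R _) b.symm)
      have : (fun v : F.presheaf.stalk x => RefHull.stalkMapₗ φ x (stalkEquiv F N x (v ⊗ₜ b.symm 1))) =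
          RefHull.stalkMapₗ φ x ∘ stalkEquiv F N x ∘ e' := funext fun v => by simp [e']; rfl
      rw [this]
      exact hφ.comp ((stalkEquiv F N x).bijective.comp e'.bijective)
    have hr : ∀ v, e.symm (RefHull.stalkMapₗ φ x (stalkEquiv F N x (v ⊗ₜ b.symm 1))) = r • v := fun v => by
      rw [← evalStalk_curry]
      have h := LinearEquiv.apply_symm_apply (LinearEquiv.ofBijective
        (LinearMap.toSpanSingleton R _ LinearMap.id) hend)
        ((LinearEquiv.congrRight e.symm) (RefHull.evalStalk F G x (ψ (b.symm 1))))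
      exact (LinearMap.congr_fun h v).symm
    let g : F.presheaf.stalk x ≃ₗ[R] F.presheaf.stalk x :=
      LinearEquiv.ofBijective (r • (LinearMap.id : F.presheaf.stalk x →ₗ[R] F.presheaf.stalk x)) (by
        have : ⇑(r • (LinearMap.id : F.presheaf.stalk x →ₗ[R] F.presheaf.stalk x)) =
            e.symm ∘ fun v => RefHull.stalkMapₗ φ x (stalkEquiv F N x (v ⊗ₜ b.symm 1)) := funext fun v => by
          rw [Function.comp_apply, hr]; rfl
        rw [this]
        exact e.symm.bijective.comp hcomp)
    obtain ⟨r', hr'⟩ := hend.2 g.symm.toLinearMap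
    refine IsUnit.of_mul_eq_one r' (hend.1 (LinearMap.ext fun v => ?_))
    show (r * r') • v = (1 : R) • v
    rw [one_smul, mul_smul]
    have h1 := LinearMap.congr_fun hr' v
    rw [LinearMap.smul_apply, LinearMap.id_apply] at h1
    rw [h1]
    exact g.apply_symm_apply v
  have : E ∘ ψ = (fun c => c * r) ∘ b := funext fun n => by
    show E (ψ n) = b n * r
    conv_lhs => rw [show n = b n • b.symm 1 by rw [← map_smul, smul_eq_mul, mul_one, b.symm_apply_apply]]
    rw [map_smul, map_smul, smul_eq_mul]
  refine (E.bijective.of_comp_iff' _).1 ?_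
  rw [this]
  exact (IsUnit.isUnit_iff_mulRight_bijective.1 hu).comp b.bijective

end Groth.Agent.H4Rel
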