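import Groth.Agent.H4Rel.EndCM
import Groth.Agent.H4LC.CanonDuality
import Groth.Agent.H3CAlg.ExtLoc

/-!
# Extensions of the relative dualizing sheaf by itself at Cohen–Macaulay points
-/

set_option autoImplicit false
set_option linter.style.haveILetI false
set_option linter.unusedSectionVars false
set_option backward.isDefEq.respectTransparency false
set_option maxHeartbeats 1000000
set_option synthInstance.maxHeartbeats 400000

universe u

open CategoryTheory CategoryTheory.Limits AlgebraicGeometry
open Groth.Agent.H16Derived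
open Groth.Agent.H16Derived.KFlat.Stalk (rd)
open Groth.Agent.H4DR.Dualizing (Loc)

attribute [local instance] HasDerivedCategory.standard

namespace Groth.Agent.H4Rel

/-- Maps on relations of `M` with values in `N` extend to the free modules, i.e. `Ext¹(M, N) = 0`. -/
def Extends (R : Type u) [CommRing R] (M N : Type u) [AddCommGroup M] [Module R M] [AddCommGroup N] [Module R N] :
    Prop :=
  ∀ (k : ℕ) (s : (Fin k → R) →ₗ[R] M), Function.Surjective s → ∀ θ : LinearMap.ker s →ₗ[R] N,
    ∃ e : (Fin k → R) →ₗ[R] N, ∀ v : LinearMap.ker s, e v = θ v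

theorem extends_of_subsingleton_ext {R : Type u} [CommRing R] {M N : Type u} [AddCommGroup M] [Module R M]
    [AddCommGroup N] [Module R N] (h : Subsingleton (Abelian.Ext (ModuleCat.of R M) (ModuleCat.of R N) 1)) :
    Extends R M N := fun k s hs θ => by
  obtain ⟨cls, -, hcls⟩ := H4LC.exists_class_one (K := N) s hs
  obtain ⟨e, he⟩ := (hcls θ).1 (h.elim _ _)
  exact ⟨e, fun v => LinearMap.congr_fun he v⟩

theorem subsingleton_ext_of_extends {R : Type u} [CommRing R] {M N : Type u} [AddCommGroup M] [Module R M]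
    [AddCommGroup N] [Module R N] [Module.Finite R M] (h : Extends R M N) :
    Subsingleton (Abelian.Ext (ModuleCat.of R M) (ModuleCat.of R N) 1) := by
  obtain ⟨k, s, hs⟩ := Module.Finite.exists_fin' R M
  obtain ⟨cls, hsur, hcls⟩ := H4LC.exists_class_one (K := N) s hs
  refine subsingleton_of_forall_eq 0 fun x => ?_
  obtain ⟨θ, rfl⟩ := hsur x
  obtain ⟨e, he⟩ := h k s hs θ
  exact (hcls θ).2 ⟨e, LinearMap.ext he⟩

/-- A single-degree object without maps to its shift has no self-extensions. -/
theorem extends_of_single {B : Type u} [CommRing B] (K : Dual.D B) (N : ModuleCat.{u} B) (m : ℤ)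
    (e : K ≅ (DerivedCategory.singleFunctor (ModuleCat.{u} B) m).obj N) (h : Subsingleton (K ⟶ K⟦(1 : ℤ)⟧)) :
    Extends B N N := by
  refine extends_of_subsingleton_ext ?_
  haveI := h
  let F0 := DerivedCategory.singleFunctor (ModuleCat.{u} B) 0
  let i : (shiftFunctor (Dual.D B) m).obj K ≅ F0.obj N :=
    (shiftFunctor (Dual.D B) m).mapIso e ≪≫
      ((DerivedCategory.singleFunctors (ModuleCat.{u} B)).shiftIso m 0 m (add_zero m)).app N
  have hs : Subsingleton (F0.obj N ⟶ (F0.obj N)⟦(1 : ℤ)⟧) := by
    refine ⟨fun f g => ?_⟩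
    have key : ∀ f' : (shiftFunctor (Dual.D B) m).obj K ⟶ ((shiftFunctor (Dual.D B) m).obj K)⟦(1 : ℤ)⟧, f' = 0 :=
      fun f' => by
        obtain ⟨f₀, hf₀⟩ := (shiftFunctor (Dual.D B) m).map_surjective (f' ≫ (shiftComm K m (1 : ℤ)).hom)
        rw [Subsingleton.elim f₀ 0, Functor.map_zero] at hf₀
        rw [← cancel_mono (shiftComm K m (1 : ℤ)).hom, ← hf₀, zero_comp]
    rw [← cancel_epi i.hom, ← cancel_mono (i.inv⟦(1 : ℤ)⟧')]
    exact (key _).trans (key _).symm
  exact Abelian.Ext.homEquiv.subsingleton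

theorem extends_of_semilinear {R R' M M' : Type u} [CommRing R] [CommRing R'] [AddCommGroup M] [Module R M]
    [AddCommGroup M'] [Module R' M'] (φ : R ≃+* R') (T : M ≃+ M')
    (hT : ∀ (r : R) (v : M), T (r • v) = φ r • T v) (h : Extends R M M) : Extends R' M' M' := by
  intro k s hs θ
  have hT' : ∀ (r : R) (v : M'), T.symm (φ r • v) = r • T.symm v := fun r v =>
    T.injective (by rw [T.apply_symm_apply, hT, T.apply_symm_apply])
  let s₀ : (Fin k → R) →ₗ[R] M :=
    { toFun := fun v => T.symm (s fun i => φ (v i))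
      map_add' := fun v w => by
        rw [← map_add T.symm, ← map_add s]
        exact congrArg (fun a => T.symm (s a)) (funext fun i => map_add φ _ _)
      map_smul' := fun r v => by
        rw [RingHom.id_apply, ← hT', ← map_smul s]
        exact congrArg (fun a => T.symm (s a)) (funext fun i => map_mul φ r (v i)) }
  have hs₀ : Function.Surjective s₀ := fun w => by
    obtain ⟨v, hv⟩ := hs (T w)
    refine ⟨fun i => φ.symm (v i), ?_⟩
    show T.symm (s fun i => φ (φ.symm (v i))) = w
    simp [hv]
  have hk : ∀ v : LinearMap.ker s₀, (fun i => φ (v.1 i)) ∈ LinearMap.ker s := fun v => by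
    rw [LinearMap.mem_ker]
    exact T.symm.injective (by rw [map_zero]; exact v.2)
  let θ₀ : LinearMap.ker s₀ →ₗ[R] M :=
    { toFun := fun v => T.symm (θ ⟨fun i => φ (v.1 i), hk v⟩)
      map_add' := fun v w => by
        rw [← map_add T.symm, ← map_add θ]
        exact congrArg (fun a => T.symm (θ a)) (Subtype.ext (funext fun i => map_add φ _ _))
      map_smul' := fun r v => by
        rw [RingHom.id_apply, ← hT', ← map_smul θ]
        exact congrArg (fun a => T.symm (θ a)) (Subtype.ext (funext fun i => map_mul φ r (v.1 i))) }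
  obtain ⟨e₀, he₀⟩ := h k s₀ hs₀ θ₀
  refine ⟨{ toFun := fun v => T (e₀ fun i => φ.symm (v i))
            map_add' := fun v w => by
              rw [← map_add T, ← map_add e₀]
              exact congrArg (fun a => T (e₀ a)) (funext fun i => map_add φ.symm _ _)
            map_smul' := fun r v => by
              rw [RingHom.id_apply, ← φ.apply_symm_apply r, ← hT, ← map_smul e₀, φ.apply_symm_apply]
              exact congrArg (fun a => T (e₀ a)) (funext fun i => map_mul φ.symm r (v i)) }, fun v => ?_⟩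
  have hmem : (fun i => φ.symm (v.1 i)) ∈ LinearMap.ker s₀ := by
    rw [LinearMap.mem_ker]
    show T.symm (s fun i => φ (φ.symm (v.1 i))) = 0
    simp only [φ.apply_symm_apply]
    rw [show s (fun i => v.1 i) = 0 from v.2, map_zero]
  show T (e₀ fun i => φ.symm (v.1 i)) = θ v
  rw [he₀ ⟨_, hmem⟩]
  show T (T.symm (θ ⟨fun i => φ (φ.symm (v.1 i)), _⟩)) = θ v
  rw [T.apply_symm_apply]
  exact congrArg θ (Subtype.ext (funext fun i => φ.apply_symm_apply _))

/-- Vanishing of extensions localises. -/
theorem extends_localized {B : Type u} [CommRing B] [IsNoetherianRing B] (N : Type u) [AddCommGroup N] [Module B N]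
    [Module.Finite B N] (q : Ideal B) [q.IsPrime] (h : Extends B N N) :
    Extends (Localization.AtPrime q) (LocalizedModule q.primeCompl N) (LocalizedModule q.primeCompl N) := by
  haveI := subsingleton_ext_of_extends h
  let M := ModuleCat.of B N
  haveI := ModuleCat.localizedModule_isLocalizedModule M q.primeCompl
  let T := (IsLocalizedModule.linearEquiv q.primeCompl (M.localizedModuleMkLinearMap q.primeCompl)
    (LocalizedModule.mkLinearMap q.primeCompl N)).extendScalarsOfIsLocalization q.primeCompl (Localization.AtPrime q)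
  refine extends_of_semilinear (RingEquiv.refl _) T.toAddEquiv (fun r v => map_smul T r v)
    (extends_of_subsingleton_ext (subsingleton_of_forall_eq 0 fun y => ?_))
  obtain ⟨e, s, hs⟩ := (H3CAlg.ext_localization q.primeCompl M 1 M (inferInstanceAs (Module.Finite B N))).1 y
  rw [Subsingleton.elim e 0, map_zero] at hs
  exact (IsLocalization.map_units (Localization.AtPrime q) s).smul_eq_zero.1 hs

variable (A : Type u) [CommRing A] [IsNoetherianRing A] (Y : Scheme.{u}) [Y.Over (Spec (CommRingCat.of A))]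
  [IsProper (Y ↘ Spec (CommRingCat.of A))] (d : ℕ)
  (hflat : Flat (Y ↘ Spec (CommRingCat.of A)))
  (hd : Cyc.HasRelDim (Y ↘ Spec (CommRingCat.of A)) d) {ω : Y.Modules}
  (hω : RelCanon.IsDualizingSheaf A Y d ω)

include hflat hd hω in
/-- At a Cohen–Macaulay point `Ext¹(ω, ω) = 0`. -/
theorem extends_stalk (y : Y) (h : MoreMor.IsCMAt (Y ↘ Spec (CommRingCat.of A)) y) :
    Extends (Y.presheaf.stalk y) (ω.presheaf.stalk y) (ω.presheaf.stalk y) := by
  let f := Y ↘ Spec (CommRingCat.of A)
  haveI : Flat f := hflat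
  haveI := QCohD.hasRpush f
  haveI : CompactSpace Y := QuasiCompact.compactSpace_of_compactSpace f
  haveI : QuasiSeparatedSpace Y := quasiSeparatedSpace_of_quasiSeparated f
  haveI := isNoetherian_of_proper A Y
  haveI : LocallyOfFinitePresentation f := inferInstance
  haveI : ∀ (U V : Scheme.{u}) (j : U ⟶ V) [IsOpenImmersion j],
      PreservesFiniteLimits (Scheme.Modules.restrictFunctor j) := fun U V j _ => inferInstance
  haveI : ∀ (R : CommRingCat.{u}), PreservesFiniteLimits (tilde.functor R) := inferInstance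
  obtain ⟨hf, a, ⟨adj⟩⟩ := exists_rightAdjoint f
  obtain ⟨O, hO⟩ := exists_unit_obj A
  have h4 := isDualizingSheaf_rightAdjoint A Y adj O hO d
    fun t => H4RSH.ProperLocal.dim_le_of_components fun Z hZ => (hd t Z hZ).le
  obtain ⟨e0⟩ := nonempty_iso_of_isDualizingSheaf A Y h4 hω
  let c : DEt.Compactification f :=
    { Xbar := Y, j := 𝟙 Y, fbar := f, isOpenImmersion := inferInstance, isProper := inferInstance,
      fac := Category.id_comp f }
  haveI : DCoh.HasRpush c.fbar := ‹DCoh.HasRpush f›
  obtain ⟨eid⟩ := H4RepDual.nonempty_rd_id (a.obj O).obj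
  let U : Y.Opens := ⟨_, (S1341.result f).1⟩
  obtain ⟨_, ⟨V, hV, rfl⟩, hyV, hVU⟩ :=
    Y.isBasis_affineOpens.exists_subset_of_mem_open (show y ∈ (U : Set Y) from h) U.2
  obtain ⟨q, rfl⟩ : y ∈ Set.range hV.fromSpec.base := by rw [hV.range_fromSpec]; exact hyV
  let B := Γ(Y, V)
  let j : Spec (CommRingCat.of B) ⟶ Y := hV.fromSpec
  obtain ⟨φ, hφ⟩ : ∃ φ : A →+* B, Spec.map (CommRingCat.ofHom φ) = j ≫ f :=
    ⟨(Spec.preimage (j ≫ f)).hom, Spec.map_preimage _⟩
  letI := φ.toAlgebra
  haveI : Algebra.FiniteType A B := by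
    have h : LocallyOfFiniteType (j ≫ f) := inferInstance
    rw [← hφ, HasRingHomProperty.Spec_iff (P := @LocallyOfFiniteType)] at h
    exact h
  haveI : IsNoetherianRing B := Algebra.FiniteType.isNoetherianRing A B
  haveI : Module.Flat A B := by
    have h : Flat (j ≫ f) := inferInstance
    rw [← hφ, HasRingHomProperty.Spec_iff (P := @Flat)] at h
    exact h
  obtain ⟨n, ψ, hψ⟩ := (Algebra.FiniteType.iff_quotient_mvPolynomial'' (R := A) (S := B)).1 inferInstance
  haveI := H4DR.TorAmp.hasLBaseChange (algebraMap A (MvPolynomial (Fin n) A))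
  haveI := H26Dual2.isLeftAdjoint_TD ψ.toRingHom
  let adjψ : DRing.restrictD ψ.toRingHom ⊣ _ := Adjunction.ofIsLeftAdjoint (H26Dual2.TD ψ.toRingHom)
  obtain ⟨-, hfin, -, ⟨hend, hshift⟩, -⟩ := S1801.result A B n ψ hψ _ adjψ
  obtain ⟨e⟩ := exists_shriek_chart A Y adj O hO j hφ.symm ψ hψ adjψ
  let K := Dual2.shriekVia n (H26Dual2.TD ψ.toRingHom).rightAdjoint (Dual.inD A A)
  have hzero : ∀ i : ℤ, i ≠ -(d : ℤ) → IsZero ((DerivedCategory.homologyFunctor (ModuleCat.{u} B) i).obj K) := by
    intro i hi
    have hs : ∀ q' : PrimeSpectrum B, ¬ Nontrivial ((DCoh.HD (a.obj O).obj i).presheaf.stalk (j.base q')) := fun q' hne => by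
      obtain ⟨P⟩ := LeadBrown.Rel.nonempty_atPoint (f := f) c (hc := hf) (a := a) adj O hO (j.base q')
      have hn : P.n = d := by
        haveI := H8Props.FieldDim.locallyOfFiniteType_fiberToSpec f (f (j.base q'))
        exact_mod_cast P.dim.symm.trans (H8Props.FieldDim.localDim_eq_of_pure
          (k := (Spec (CommRingCat.of A)).residueField (f (j.base q'))) (f.fiberToSpecResidueField (f (j.base q'))) _ _
          (hd (f (j.base q'))))
      have hdeg : LeadBrown.Rel.Deg c (a := a) O i (j.base q') :=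
        @Equiv.nontrivial _ _ (H06EGA9.stalkIso ((DerivedCategory.homologyFunctor Y.Modules i).mapIso eid) (j.base q')).toEquiv hne
      exact hi (((P.cm_single (hVU (by rw [← hV.range_fromSpec]; exact ⟨q', rfl⟩)) i).1 hdeg).trans (by rw [hn]))
    have hsub : Subsingleton (Dual.HD B K i) := by
      rw [← Module.support_eq_empty_iff (R := B), Set.eq_empty_iff_forall_notMem]
      exact fun q' hq' => hs q' ((H4DualSch.nontrivial_stalk_HD_iff j (a.obj O).obj K e q' i).2 hq')
    exact @ModuleCat.isZero_of_subsingleton B _ _ hsub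
  haveI : K.IsGE (-(d : ℤ)) := (DerivedCategory.isGE_iff _ _).2 fun i hi => hzero i hi.ne
  haveI : K.IsLE (-(d : ℤ)) := (DerivedCategory.isLE_iff _ _).2 fun i hi => hzero i hi.ne'
  obtain ⟨N, ⟨eN⟩⟩ := K.exists_iso_singleFunctor_obj_of_isGE_of_isLE (-(d : ℤ))
  let l : Dual.HD B K (-(d : ℤ)) ≃ₗ[B] N := ((DerivedCategory.homologyFunctor _ _).mapIso eN ≪≫
    (DerivedCategory.singleFunctorCompHomologyFunctorIso (ModuleCat.{u} B) (-(d : ℤ))).app N).toLinearEquiv
  have hN : Function.Bijective fun r : B => r • (LinearMap.id : Dual.HD B K (-(d : ℤ)) →ₗ[B] _) :=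
    bijective_smul_of_semilinear (RingHom.id B) Function.surjective_id l.symm.toAddEquiv (fun r v => map_smul l.symm r v)
      (bijective_smul_of_single K N _ eN hend)
  haveI := hfin (-(d : ℤ))
  obtain ⟨φ', hφ', T, hT⟩ := H4RSH.ProperLocal.exists_semilinear_HD_stalk j (a.obj O).obj K e q (-(d : ℤ))
  have hq := bijective_smul_localized (Dual.HD B K (-(d : ℤ))) q.asIdeal hN
  let T' := T.trans (H06EGA9.stalkIso e0 (j.base q)).toAddEquiv
  have hT' : ∀ r v, T' (r • v) = φ' r • T' v := fun r v => by
    show H06EGA9.stalkIso e0 (j.base q) (T (r • v)) = φ' r • H06EGA9.stalkIso e0 (j.base q) (T v)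
    rw [hT, map_smul]
  have hinj : Function.Injective φ' := by
    refine (injective_iff_map_eq_zero φ').2 fun r hr => hq.1 (LinearMap.ext fun v => T'.injective ?_)
    show T' (r • v) = T' ((0 : Localization.AtPrime q.asIdeal) • v)
    rw [hT', hT', hr, map_zero]
  have hext : Extends B (Dual.HD B K (-(d : ℤ))) (Dual.HD B K (-(d : ℤ))) :=
    extends_of_semilinear (RingEquiv.refl B) l.symm.toAddEquiv (fun r v => map_smul l.symm r v)
      (extends_of_single K N _ eN (hshift 1 one_ne_zero))
  exact extends_of_semilinear (RingEquiv.ofBijective φ' ⟨hinj, hφ'⟩) T' hT'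
    (extends_localized _ q.asIdeal hext)

end Groth.Agent.H4Rel
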