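import Groth.Agent.H4Rel.DepthScheme
import Groth.Agent.H10Coh.TensorTilde
import Groth.Agent.H29Ref.DualStalk
import Groth.Agent.H06EGA9.FlatFibreBC
import Groth.Agent.H06Mod.StalkFinite
import Groth.Agent.H4RSH.ProperField

/-!
# Extension of reflexive sheaves over small sets of a relatively `(S₂)` scheme
-/

set_option autoImplicit false
set_option linter.style.haveILetI false
set_option linter.unusedSectionVars false
set_option backward.isDefEq.respectTransparency false
set_option maxHeartbeats 1000000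
set_option synthInstance.maxHeartbeats 400000

universe u

open CategoryTheory CategoryTheory.Limits AlgebraicGeometry
open Groth.Agent.H16Derived

attribute [local instance] HasDerivedCategory.standard

namespace Groth.Agent.H4Rel

variable (A : Type u) [CommRing A] [IsNoetherianRing A] (Y : Scheme.{u}) [Y.Over (Spec (CommRingCat.of A))]
  [IsProper (Y ↘ Spec (CommRingCat.of A))] (d : ℕ)

/-- The local dimension of the fibre through `y`. -/
noncomputable abbrev fibDim (y : Y) : WithBot ℕ∞ :=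
  ringKrullDim (((Y ↘ Spec (CommRingCat.of A)).fiber ((Y ↘ Spec (CommRingCat.of A)) y)).presheaf.stalk
    ((Y ↘ Spec (CommRingCat.of A)).asFiber y))

include A in
theorem isNoetherian_of_proper : IsNoetherian Y := by
  haveI : CompactSpace Y := QuasiCompact.compactSpace_of_compactSpace (Y ↘ Spec (CommRingCat.of A))
  haveI : IsLocallyNoetherian Y := LocallyOfFiniteType.isLocallyNoetherian (Y ↘ Spec (CommRingCat.of A))
  exact { }

/-- Depth two of the structure sheaf. -/
theorem two_le_depth_stalk (hS : RelCanon.IsSkMor (Y ↘ Spec (CommRingCat.of A)) 2) (y : Y) (hy : 2 ≤ fibDim A Y y) :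
    (2 : ℕ∞) ≤ LocCoh.depth (Y.presheaf.stalk y) (Y.presheaf.stalk y) := by
  let f := Y ↘ Spec (CommRingCat.of A)
  haveI : Flat f := hS.1
  haveI : LocallyOfFiniteType f := inferInstance
  haveI := isNoetherian_of_proper A Y
  haveI : IsLocallyNoetherian (f.fiber (f y)) :=
    haveI := H8Props.FieldDim.locallyOfFiniteType_fiberToSpec f (f y)
    LocallyOfFiniteType.isLocallyNoetherian (f.fiberToSpecResidueField (f y))
  let C := (f.fiber (f y)).presheaf.stalk (f.asFiber y)
  have h : LocCoh.HasSk 2 C ((Coh.structureModule (f.fiber (f y))).presheaf.stalk (f.asFiber y)) := hS.2.2 y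
  have h2 := H4RSH.RelDualS2.depth_at_closed_point _ h
  rw [Module.supportDim_eq_of_equiv (H29Ref.unitEquiv (X := f.fiber (f y)) (f.asFiber y)).symm,
    Module.supportDim_self_eq_ringKrullDim, H4Depth.depth_congr (H29Ref.unitEquiv (X := f.fiber (f y)) (f.asFiber y)).symm,
    min_eq_left (by exact_mod_cast hy)] at h2
  have h2' : (2 : ℕ∞) ≤ LocCoh.depth C C := WithBot.coe_le_coe.1 ((le_of_eq (by rfl)).trans h2)
  letI := (f.stalkMap y).hom.toAlgebra
  haveI : IsLocalHom (algebraMap ((Spec (CommRingCat.of A)).presheaf.stalk (f y)) (Y.presheaf.stalk y)) :=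
    inferInstanceAs (IsLocalHom (f.stalkMap y).hom)
  haveI : Module.Flat ((Spec (CommRingCat.of A)).presheaf.stalk (f y)) (Y.presheaf.stalk y) := Flat.stalkMap f y
  haveI : IsLocalRing (Y.presheaf.stalk y ⧸
      (IsLocalRing.maximalIdeal ((Spec (CommRingCat.of A)).presheaf.stalk (f y))).map
        (algebraMap ((Spec (CommRingCat.of A)).presheaf.stalk (f y)) (Y.presheaf.stalk y))) :=
    (H8Props.FibreStalk.asFiberStalkEquiv f y).symm.isLocalRing
  rw [H8Props.FlatDepth.depth_eq_add ((Spec (CommRingCat.of A)).presheaf.stalk (f y)) (Y.presheaf.stalk y)]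
  refine le_trans ?_ le_add_self
  refine h2'.trans_eq ?_
  exact (LeadBrown.Rel.depth_eq_of_ringEquiv (R := Y.presheaf.stalk y ⧸
      (IsLocalRing.maximalIdeal ((Spec (CommRingCat.of A)).presheaf.stalk (f y))).map
        (algebraMap ((Spec (CommRingCat.of A)).presheaf.stalk (f y)) (Y.presheaf.stalk y)))
    (S := C) (H8Props.FibreStalk.asFiberStalkEquiv f y))

/-- Depth two of a sheaf Hom into a module of depth two. -/
theorem two_le_depth_homSh {X : Scheme.{u}} [IsLocallyNoetherian X] (F G : X.Modules) (hF : Coh.IsCoh F)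
    (hG : Coh.IsCoh G) (x : X) (h : (2 : ℕ∞) ≤ LocCoh.depth (X.presheaf.stalk x) (G.presheaf.stalk x)) :
    (2 : ℕ∞) ≤ LocCoh.depth (X.presheaf.stalk x) ((RefHull.homSh F G).presheaf.stalk x) := by
  haveI := H06Mod.finite_stalk _ hF.2 x
  haveI := H06Mod.finite_stalk _ hG.2 x
  rw [H4Depth.depth_congr (LinearEquiv.ofBijective (RefHull.evalStalk F G x)
    (H29Ref.evalStalk_bijective F G (H10Coh.isFP_of_isCoh F hF) x))]
  exact H1CAlg.two_le_idealDepth_hom _ _ h

/-- Depth two of a double dual. -/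
theorem two_le_depth_ddual (hS : RelCanon.IsSkMor (Y ↘ Spec (CommRingCat.of A)) 2) (F : Y.Modules)
    (hF : Coh.IsCoh F) (y : Y) (hy : 2 ≤ fibDim A Y y) :
    (2 : ℕ∞) ≤ LocCoh.depth (Y.presheaf.stalk y) ((RefHull.ddual F).presheaf.stalk y) := by
  haveI := isNoetherian_of_proper A Y
  refine two_le_depth_homSh _ _ (H29Ref.isCoh_dual F hF) (H10Coh.isCoh_structureModule' Y) y ?_
  rw [← H4Depth.depth_congr (H29Ref.unitEquiv (X := Y) y)]
  exact two_le_depth_stalk A Y hS y hy

/-- Tensor powers of coherent modules. -/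
theorem isCoh_tensorPow {X : Scheme.{u}} [IsLocallyNoetherian X] {F : X.Modules} (hF : Coh.IsCoh F) :
    ∀ n : ℕ, Coh.IsCoh (CohB1.tensorPow F n)
  | 0 => H10Coh.isCoh_structureModule' X
  | n + 1 => H10Coh.TT.isCoh_tensorMod (isCoh_tensorPow hF n) hF

/-- The reflexive powers are double duals of coherent modules. -/
theorem exists_refPowZ_eq {X : Scheme.{u}} [IsLocallyNoetherian X] {F : X.Modules} (hF : Coh.IsCoh F) (m : ℤ) :
    ∃ G : X.Modules, Coh.IsCoh G ∧ RelCanon.refPowZ F m = RefHull.ddual G := by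
  cases m with
  | ofNat n => exact ⟨_, isCoh_tensorPow hF n, rfl⟩
  | negSucc n => exact ⟨_, isCoh_tensorPow (H29Ref.isCoh_dual F hF) (n + 1), rfl⟩

variable (hd : Cyc.HasRelDim (Y ↘ Spec (CommRingCat.of A)) d) {ω : Y.Modules}
  (hω : RelCanon.IsDualizingSheaf A Y d ω)

include hd hω in
/-- `ω` is coherent, of depth two where the fibre has local dimension two. -/
theorem isCoh_and_two_le_depth : Coh.IsCoh ω ∧
    ∀ y : Y, 2 ≤ fibDim A Y y → (2 : ℕ∞) ≤ LocCoh.depth (Y.presheaf.stalk y) (ω.presheaf.stalk y) := by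
  let f := Y ↘ Spec (CommRingCat.of A)
  haveI := QCohD.hasRpush f
  haveI : CompactSpace Y := QuasiCompact.compactSpace_of_compactSpace f
  haveI : QuasiSeparatedSpace Y := quasiSeparatedSpace_of_quasiSeparated f
  haveI := isNoetherian_of_proper A Y
  obtain ⟨hf, a, ⟨adj⟩⟩ := exists_rightAdjoint f
  obtain ⟨O, hO⟩ := exists_unit_obj A
  have h4 := isDualizingSheaf_rightAdjoint A Y adj O hO d
    fun t => H4RSH.ProperLocal.dim_le_of_components fun Z hZ => (hd t Z hZ).le
  obtain ⟨e⟩ := nonempty_iso_of_isDualizingSheaf A Y h4 hω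
  obtain ⟨eO⟩ := hO
  haveI : (DCoh.inD (Spec (CommRingCat.of A)) (Coh.structureModule (Spec (CommRingCat.of A)))).IsGE 0 := inferInstance
  have hcoh := LeadBrown.isCohD_rightAdjoint f adj O 0 (DerivedCategory.TStructure.t.isGE_of_iso eO.symm 0)
    (Dual.isCohD_iso eO.symm (KFlat.Stalk.isCohD_and_bounded_of_isPerfect (PnD.isPerfect_one _)).1)
  refine ⟨H10Coh.isCoh_of_iso e (hcoh _), fun y hy => ?_⟩
  exact (two_le_depth_HD A Y adj O ⟨eO⟩ d hd y hy).trans_eq (H4Depth.depth_congr (H06EGA9.stalkIso e y))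

end Groth.Agent.H4Rel
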