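import Groth.Agent.H4Rel.HomExt
import Groth.Agent.H4Rel.LiftApply

/-!
# Factorisation through free modules, regular triples
-/

set_option autoImplicit false
set_option linter.style.haveILetI false
set_option linter.unusedSectionVars false
set_option backward.isDefEq.respectTransparency false
set_option maxHeartbeats 1000000
set_option synthInstance.maxHeartbeats 400000

universe u

open CategoryTheory CategoryTheory.Limits AlgebraicGeometry IsLocalRing TensorProduct RingTheory.Sequence
open scoped Pointwise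

namespace Groth.Agent.H4Rel

/-- A localisation free of rank one gives a rank one endomorphism. -/
theorem exists_rank_one {B : Type u} [CommRing B] [IsNoetherianRing B] {D : Type u} [AddCommGroup D] [Module B D]
    [Module.Finite B D] (q : Ideal B) [q.IsPrime] {Bq : Type u} [CommRing Bq] [Algebra B Bq]
    [IsLocalization q.primeCompl Bq] {Dq : Type u} [AddCommGroup Dq] [Module B Dq] (sp : D →ₗ[B] Dq)
    [IsLocalizedModule q.primeCompl sp] (e : Dq ≃ₗ[B] Bq) :
    ∃ (φ : D →ₗ[B] B) (d : D) (s : B), s ∉ q ∧ ∀ v, s • v = φ v • d := by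
  haveI : Module.FinitePresentation B D := Module.finitePresentation_of_finite B D
  obtain ⟨⟨d, s₀⟩, hd⟩ := IsLocalizedModule.surj q.primeCompl sp (e.symm 1)
  obtain ⟨h, t, ht⟩ := Module.FinitePresentation.exists_lift_of_isLocalizedModule q.primeCompl
    (Algebra.linearMap B Bq) (e.toLinearMap ∘ₗ sp)
  have key : ∀ v, sp (h v • d) = ((s₀ : B) * (t : B)) • sp v := fun v => by
    refine e.injective ?_
    have h1 := LinearMap.congr_fun ht v
    simp only [LinearMap.comp_apply, LinearMap.smul_apply, Algebra.linearMap_apply, LinearEquiv.coe_coe] at h1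
    rw [map_smul sp, ← hd, Submonoid.smul_def, map_smul e, map_smul e, e.apply_symm_apply, map_smul e,
      smul_comm (h v), ← Algebra.algebraMap_eq_smul_one, h1, Submonoid.smul_def, smul_smul]
  obtain ⟨k, g, hg⟩ := Module.Finite.exists_fin (R := B) (M := D)
  have hex : ∀ i, ∃ c : q.primeCompl, c • (h (g i) • d - ((s₀ : B) * (t : B)) • g i) = 0 := fun i =>
    (IsLocalizedModule.eq_zero_iff q.primeCompl sp).1 (by rw [map_sub, key, map_smul, sub_self])
  choose c hc using hex
  have hall : ∀ v, ((∏ i, c i : q.primeCompl) : B) • (h v • d - ((s₀ : B) * (t : B)) • v) = 0 := by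
    have hL : ((∏ i, c i : q.primeCompl) : B) • (h.smulRight d - ((s₀ : B) * (t : B)) • LinearMap.id) = 0 := by
      refine LinearMap.ext_on hg ?_
      rintro _ ⟨i, rfl⟩
      obtain ⟨r, hr⟩ := Finset.dvd_prod_of_mem c (Finset.mem_univ i)
      simp only [LinearMap.smul_apply, LinearMap.sub_apply, LinearMap.smulRight_apply, LinearMap.id_apply,
        LinearMap.zero_apply]
      rw [hr, Submonoid.coe_mul, mul_comm, mul_smul]
      exact (congrArg _ (hc i)).trans (smul_zero _)
    exact fun v => LinearMap.congr_fun hL v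
  refine ⟨((∏ i, c i : q.primeCompl) : B) • h, d, ((∏ i, c i : q.primeCompl) : B) * ((s₀ : B) * (t : B)),
    q.primeCompl.mul_mem (Subtype.prop _) (q.primeCompl.mul_mem s₀.2 t.2), fun v => ?_⟩
  have := hall v
  rw [smul_sub, sub_eq_zero] at this
  rw [LinearMap.smul_apply, smul_eq_mul, mul_smul, ← this, mul_smul]

/-- Factorisations through free modules from rank one endomorphisms off `J`. -/
theorem fac_of_rank_one {B : Type u} [CommRing B] {D : Type u} [AddCommGroup D] [Module B D] (J : Ideal B)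
    (h : ∀ q : PrimeSpectrum B, ¬ J ≤ q.asIdeal →
      ∃ (φ : D →ₗ[B] B) (d : D) (s : B), s ∉ q.asIdeal ∧ ∀ v, s • v = φ v • d) : Lift.Fac J D := by
  let P : Submodule B (D →ₗ[B] D) := Submodule.span B (Set.range fun p : (D →ₗ[B] B) × D => p.1.smulRight p.2)
  have htors : Lift.IsTors J (Submodule.Quotient.mk LinearMap.id : (D →ₗ[B] D) ⧸ P) :=
    isTors_of_forall J _ fun q hq => by
      obtain ⟨φ, d, s, hs, hsv⟩ := h q hq
      refine ⟨s, hs, ?_⟩
      rw [← Submodule.Quotient.mk_smul, Submodule.Quotient.mk_eq_zero]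
      exact Submodule.subset_span ⟨(φ, d), LinearMap.ext fun v => (hsv v).symm⟩
  intro g hg
  obtain ⟨K, hK⟩ := htors g hg
  rw [← Submodule.Quotient.mk_smul, Submodule.Quotient.mk_eq_zero, Submodule.mem_span_set'] at hK
  obtain ⟨n, c, q, hp⟩ := hK
  choose p hp' using fun i => (q i).2
  simp only [← hp'] at hp
  refine ⟨K, n, LinearMap.pi fun i => c i • (p i).1, Fintype.linearCombination B fun i => (p i).2, fun v => ?_⟩
  have := LinearMap.congr_fun hp v
  simp only [LinearMap.sum_apply, LinearMap.smul_apply, LinearMap.smulRight_apply, LinearMap.id_apply] at this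
  rw [← this, Fintype.linearCombination_apply]
  exact Finset.sum_congr rfl fun i _ => by
    rw [LinearMap.pi_apply, LinearMap.smul_apply, smul_eq_mul, mul_smul]

/-- A regular pair on `C` and a triple on `N` in an ideal. -/
theorem exists_reg3 {R : Type u} [CommRing R] [IsNoetherianRing R] [IsLocalRing R] {C N : Type u} [AddCommGroup C]
    [Module R C] [Module.Finite R C] [AddCommGroup N] [Module R N] [Module.Finite R N] [Nontrivial C] [Nontrivial N]
    (I : Ideal R) (hI : I ≠ ⊤) (hC : (2 : ℕ∞) ≤ LocCoh.idealDepth I C) (hN : (3 : ℕ∞) ≤ LocCoh.idealDepth I N) :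
    ∃ a b w : R, a ∈ I ∧ b ∈ I ∧ w ∈ I ∧ Lift.Reg2 a b C ∧ Lift.Reg3 a b w N := by
  have hne : ∀ (P : Type u) [AddCommGroup P] [Module R P] [Module.Finite R P] [Nontrivial P],
      I • (⊤ : Submodule R P) ≠ ⊤ := fun P _ _ _ _ =>
    (Submodule.top_ne_ideal_smul_of_le_jacobson_annihilator
      ((le_maximalIdeal hI).trans (maximalIdeal_le_jacobson _))).symm
  have h2 : ((2 : ℕ) : ℕ∞) ≤ LocCoh.idealDepth I (C × N) := by
    refine le_trans (le_min hC (le_trans (by norm_num) hN)) (H4Depth.min_le_idealDepth_mid (I := I)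
      (f := LinearMap.inl R C N) (g := LinearMap.snd R C N) LinearMap.inl_injective LinearMap.snd_surjective ?_)
    exact .inl_snd
  obtain ⟨rs, hlen, hmem, hreg⟩ := H4Depth.exists_isWeaklyRegular_of_le_idealDepth (hne (C × N)) h2
  obtain ⟨a, b, rfl⟩ : ∃ a b, rs = [a, b] := List.length_eq_two.1 hlen
  rw [isWeaklyRegular_cons_iff, isWeaklyRegular_cons_iff] at hreg
  obtain ⟨ha, hb, -⟩ := hreg
  have hP : Lift.Reg2 a b (C × N) := by
    refine ⟨ha, fun v w hvw => ?_⟩
    have h0 : (Submodule.Quotient.mk v : QuotSMulTop a (C × N)) = 0 := by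
      refine hb ?_
      show b • (Submodule.Quotient.mk v : QuotSMulTop a (C × N)) = b • 0
      rw [smul_zero, ← Submodule.Quotient.mk_smul, hvw, Submodule.Quotient.mk_eq_zero]
      exact Submodule.smul_mem_pointwise_smul _ _ _ trivial
    rw [Submodule.Quotient.mk_eq_zero, Submodule.mem_smul_pointwise_iff_exists] at h0
    obtain ⟨c, -, hc⟩ := h0
    exact ⟨c, hc.symm⟩
  have hC2 : Lift.Reg2 a b C :=
    ⟨fun v v' hv => congrArg Prod.fst (hP.reg (show a • ((v, (0 : N)) : C × N) = a • (v', 0) from Prod.ext hv rfl)),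
      fun v w hvw => by
        obtain ⟨c, hc⟩ := hP.reg2 (v, 0) (w, 0) (Prod.ext hvw (by simp))
        exact ⟨c.1, congrArg Prod.fst hc⟩⟩
  have hN2 : Lift.Reg2 a b N :=
    ⟨fun v v' hv => congrArg Prod.snd (hP.reg (show a • (((0 : C), v) : C × N) = a • (0, v') from Prod.ext rfl hv)),
      fun v w hvw => by
        obtain ⟨c, hc⟩ := hP.reg2 (0, v) (0, w) (Prod.ext (by simp) hvw)
        exact ⟨c.2, congrArg Prod.snd hc⟩⟩
  have hwN : IsWeaklyRegular N [a, b] := by
    refine (isWeaklyRegular_cons_iff _ _ _).2 ⟨hN2.reg, (isWeaklyRegular_cons_iff _ _ _).2 ⟨?_, IsWeaklyRegular.nil _ _⟩⟩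
    intro u v huv
    obtain ⟨u, rfl⟩ := Submodule.Quotient.mk_surjective _ u
    obtain ⟨v, rfl⟩ := Submodule.Quotient.mk_surjective _ v
    replace huv : (Submodule.Quotient.mk (b • u) : QuotSMulTop a N) = Submodule.Quotient.mk (b • v) := huv
    rw [Submodule.Quotient.eq, Submodule.mem_smul_pointwise_iff_exists] at huv ⊢
    obtain ⟨c, -, hc⟩ := huv
    obtain ⟨d, hd⟩ := hN2.reg2 (u - v) c (by rw [hc, smul_sub])
    exact ⟨d, trivial, hd.symm⟩
  obtain ⟨rs', hpre, hreg', hmem', hmax⟩ :=
    H4Depth.exists_maximal_extension (hne N) hwN hmem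
  have hl := H4Depth.length_eq_idealDepth_of_maximal (hne N) hreg' hmem' hmax
  rw [← hl] at hN
  obtain ⟨t, rfl⟩ := hpre
  match t, hN, hreg', hmem' with
  | [], hN, _, _ => norm_num at hN
  | w :: _, _, hreg', hmem' =>
    rw [List.cons_append, List.cons_append, List.nil_append, isWeaklyRegular_cons_iff, isWeaklyRegular_cons_iff,
      isWeaklyRegular_cons_iff] at hreg'
    refine ⟨a, b, w, hmem a (by simp), hmem b (by simp), hmem' w (by simp), hC2, ⟨hN2, fun v p q hv => ?_⟩⟩
    have h0 : (Submodule.Quotient.mk (Submodule.Quotient.mk v) : QuotSMulTop b (QuotSMulTop a N)) = 0 := by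
      refine hreg'.2.2.1 ?_
      show w • (Submodule.Quotient.mk (Submodule.Quotient.mk v) : QuotSMulTop b (QuotSMulTop a N)) = w • 0
      rw [smul_zero, ← Submodule.Quotient.mk_smul, ← Submodule.Quotient.mk_smul, hv, Submodule.Quotient.mk_add,
        (Submodule.Quotient.mk_eq_zero (p := (a • ⊤ : Submodule R N))).2 (Submodule.smul_mem_pointwise_smul _ _ _ trivial),
        zero_add, Submodule.Quotient.mk_smul (a • ⊤ : Submodule R N) b, Submodule.Quotient.mk_eq_zero]
      exact Submodule.smul_mem_pointwise_smul _ _ _ trivial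
    rw [Submodule.Quotient.mk_eq_zero, Submodule.mem_smul_pointwise_iff_exists] at h0
    obtain ⟨c, -, hc⟩ := h0
    obtain ⟨c, rfl⟩ := Submodule.Quotient.mk_surjective _ c
    rw [← Submodule.Quotient.mk_smul, eq_comm, Submodule.Quotient.eq, Submodule.mem_smul_pointwise_iff_exists] at hc
    obtain ⟨d, -, hd⟩ := hc
    exact ⟨d, c, (by rw [hd, sub_add_cancel])⟩

end Groth.Agent.H4Rel
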