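import Groth.Agent.H8Props.FibreStalk
import Groth.Agent.H8Props.FlatDepth
import Groth.Agent.H06Mod.StalkPullback
import Groth.Agent.H06Mod.StalkFaithful
import Groth.Agent.H1CAlg.FlatDepthModule
import Groth.Agent.H06EGA9.FlatFibreBC

/-!
# Depth on a fibre and on the total space
-/

set_option autoImplicit false
set_option linter.style.haveILetI false
set_option linter.unusedSectionVars false
set_option backward.isDefEq.respectTransparency false
set_option maxHeartbeats 1000000
set_option synthInstance.maxHeartbeats 400000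

universe u

open CategoryTheory CategoryTheory.Limits AlgebraicGeometry TensorProduct IsLocalRing

namespace Groth.Agent.H4Rel

attribute [local instance] H06Mod.stalkAlgebra

/-- The depth of a module flat over the base is at least the depth on the fibre. -/
theorem depth_le_of_fibre {A B C : Type u} [CommRing A] [CommRing B] [CommRing C] [IsLocalRing A] [IsLocalRing B]
    [IsLocalRing C] [IsNoetherianRing A] [IsNoetherianRing B] [Algebra A B] [Algebra B C]
    [IsLocalHom (algebraMap A B)] (hs : Function.Surjective (algebraMap B C))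
    (hk : RingHom.ker (algebraMap B C) = (maximalIdeal A).map (algebraMap A B))
    (M : Type u) [AddCommGroup M] [Module A M] [Module B M] [IsScalarTower A B M] [Module.Finite B M]
    [Module.Flat A M] :
    LocCoh.depth C (C ⊗[B] M) ≤ LocCoh.depth B M := by
  rw [H8Props.FlatDepth.depth_eq_of_surjective (R := B) hs]
  let J := (maximalIdeal A).map (algebraMap A B)
  let e₁ : (B ⧸ J) ≃ₐ[B] C :=
    (Ideal.quotientEquivAlgOfEq B hk.symm).trans
      (Ideal.quotientKerAlgEquivOfSurjective (f := Algebra.ofId B C) hs)
  let e : C ⊗[B] M ≃ₗ[B] M ⧸ J • (⊤ : Submodule B M) :=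
    (TensorProduct.congr e₁.symm.toLinearEquiv (LinearEquiv.refl B M)).trans
      (TensorProduct.quotTensorEquivQuotSMul M J)
  rw [H4Depth.depth_congr e, ← H4Depth.depth_congr (AlgebraTensorModule.rid A B M),
    H1CAlg.FlatDepthModule.depth_tensor (A := A) (B := B) (M := A) (N := M)]
  exact le_add_self

variable {X Y : Scheme.{u}} (f : X ⟶ Y)

/-- The kernel of the stalk map of the inclusion of a fibre. -/
theorem ker_fiberι_stalkMap (t : Y) (z : f.fiber t) :
    RingHom.ker ((f.fiberι t).stalkMap z).hom =
      (maximalIdeal (Y.presheaf.stalk (f (f.fiberι t z)))).map (f.stalkMap (f.fiberι t z)).hom := by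
  have h0 : f (f.fiberι t z) = t := by
    have h3 : f.fiberι t z ∈ Set.range (f.fiberι t).base := ⟨z, rfl⟩
    rw [Scheme.Hom.range_fiberι] at h3
    exact h3
  have key : ∀ (x : X) (t : Y) (z : f.fiber t) (hz : f.fiberι t z = x), f x = t →
      RingHom.ker (H8Props.FibreStalk.toFibre f x t z hz).hom =
        (maximalIdeal (Y.presheaf.stalk (f x))).map (f.stalkMap x).hom := by
    rintro x _ z hz rfl
    exact H8Props.FibreStalk.ker_toFibre f x z hz
  rw [← key _ t z rfl h0]
  simp [H8Props.FibreStalk.toFibre, TopCat.Presheaf.stalkCongr_hom]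

/-- Depth on the fibre bounds the depth on the total space, for a module flat over the base. -/
theorem depth_fibre_le [IsLocallyNoetherian X] [IsLocallyNoetherian Y] [LocallyOfFiniteType f] (F : X.Modules)
    (hF : Coh.IsCoh F) (t : Y) (z : f.fiber t) (hflat : FlatMod.IsFlatOverAt f F (f.fiberι t z)) :
    LocCoh.depth ((f.fiber t).presheaf.stalk z) (((Scheme.Modules.pullback (f.fiberι t)).obj F).presheaf.stalk z) ≤
      LocCoh.depth (X.presheaf.stalk (f.fiberι t z)) (F.presheaf.stalk (f.fiberι t z)) := by
  let x := f.fiberι t z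
  letI := (f.stalkMap x).hom.toAlgebra
  haveI : IsLocalHom (algebraMap (Y.presheaf.stalk (f x)) (X.presheaf.stalk x)) :=
    inferInstanceAs (IsLocalHom (f.stalkMap x).hom)
  letI := FlatMod.moduleStalkOver f F x
  haveI : IsScalarTower (Y.presheaf.stalk (f x)) (X.presheaf.stalk x) (F.presheaf.stalk x) :=
    .of_algebraMap_smul fun _ _ => rfl
  haveI : Module.Finite (X.presheaf.stalk x) (F.presheaf.stalk x) := H06Mod.finite_stalk _ hF.2 x
  haveI : Module.Flat (Y.presheaf.stalk (f x)) (F.presheaf.stalk x) := hflat
  letI : Algebra (X.presheaf.stalk x) ((f.fiber t).presheaf.stalk z) := ((f.fiberι t).stalkMap z).hom.toAlgebra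
  have h := depth_le_of_fibre (A := Y.presheaf.stalk (f x)) (B := X.presheaf.stalk x)
    (C := (f.fiber t).presheaf.stalk z) ((f.fiberι t).stalkMap_surjective z) (ker_fiberι_stalkMap f t z)
    (F.presheaf.stalk x)
  exact le_of_eq_of_le
    (H4Depth.depth_congr (LinearEquiv.ofBijective _ (H06Mod.pullStalkLin_bijective (f.fiberι t) F z))).symm h

/-- Depth does not drop under flat pullback. -/
theorem depth_le_pullback [IsLocallyNoetherian X] [IsLocallyNoetherian Y] [Flat f] (F : Y.Modules) (hF : Coh.IsCoh F)
    (x : X) :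
    LocCoh.depth (Y.presheaf.stalk (f x)) (F.presheaf.stalk (f x)) ≤
      LocCoh.depth (X.presheaf.stalk x) (((Scheme.Modules.pullback f).obj F).presheaf.stalk x) := by
  haveI : IsLocalHom (algebraMap (Y.presheaf.stalk (f x)) (X.presheaf.stalk x)) :=
    inferInstanceAs (IsLocalHom (f.stalkMap x).hom)
  haveI : Module.Flat (Y.presheaf.stalk (f x)) (X.presheaf.stalk x) := Flat.stalkMap f x
  haveI : Module.Finite (Y.presheaf.stalk (f x)) (F.presheaf.stalk (f x)) := H06Mod.finite_stalk _ hF.2 _
  rw [← H4Depth.depth_congr (LinearEquiv.ofBijective _ (H06Mod.pullStalkLin_bijective f F x)),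
    H1CAlg.FlatDepthModule.depth_tensor (A := Y.presheaf.stalk (f x)) (B := X.presheaf.stalk x)
      (M := F.presheaf.stalk (f x)) (N := X.presheaf.stalk x)]
  exact le_self_add

end Groth.Agent.H4Rel
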