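import Groth.Agent.H4Rel.BaseChange
import Groth.Agent.H8Props.DivisorSection
import Groth.Agent.H11Ample.Converse
import Groth.Agent.H11Ample.Tensor
import Groth.Agent.H8Props.FunDescent.GenericFlat

/-!
# The dualizing sheaves of the fibres
-/

set_option autoImplicit false
set_option linter.style.haveILetI false
set_option linter.unusedSectionVars false
set_option backward.isDefEq.respectTransparency false
set_option maxHeartbeats 1000000
set_option synthInstance.maxHeartbeats 400000

universe u

open CategoryTheory CategoryTheory.Limits AlgebraicGeometry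
open Groth.Agent.H16Derived

attribute [local instance] HasDerivedCategory.standard

namespace Groth.Agent.H4Rel

/-- An invertible module has free stalks of rank one. -/
theorem nonempty_stalk_equiv_of_invertibleAt {X : Scheme.{u}} {F : X.Modules} (hF : Coh.IsQCoh F) {x : X}
    (h : RelCanon.InvertibleAt F x) :
    Nonempty (F.presheaf.stalk x ≃ₗ[X.presheaf.stalk x] X.presheaf.stalk x) := by
  obtain ⟨U, hx, ⟨e⟩⟩ := h
  obtain ⟨b⟩ := H8Props.FunDescent.stalkFree_of_isFreeOfRankNear F hF (p := 1)
    ⟨U, hx, ⟨e ≪≫ (coproductUniqueIso fun _ : Fin 1 => Coh.structureModule (U : Scheme.{u})).symm⟩⟩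
  exact ⟨b.equivFun.trans (LinearEquiv.funUnique (Fin 1) _ _)⟩

/-- The reflexive powers of an invertible module are invertible. -/
theorem isInvertible_refPowZ {X : Scheme.{u}} {L : X.Modules} (hL : PicF.IsInvertible L) (m : ℤ) :
    PicF.IsInvertible (RelCanon.refPowZ L m) := by
  cases m with
  | ofNat n => exact H8Props.DivisorSection.isInvertible_dual (H8Props.DivisorSection.isInvertible_dual (H11Ample.isInvertible_tensorPow hL n))
  | negSucc n => exact H8Props.DivisorSection.isInvertible_dual (H8Props.DivisorSection.isInvertible_dual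
      (H11Ample.isInvertible_tensorPow (H8Props.DivisorSection.isInvertible_dual hL) (n + 1)))

/-- Serre conditions of the local ring pass to invertible modules. -/
theorem skAt_of_invertibleAt {X : Scheme.{u}} {F : X.Modules} (hF : Coh.IsQCoh F) {x : X} (k : ℕ)
    (h : RelCanon.InvertibleAt F x) (hk : RelCanon.SkAt k (Coh.structureModule X) x) : RelCanon.SkAt k F x := by
  obtain ⟨e⟩ := nonempty_stalk_equiv_of_invertibleAt hF h
  let e' := (e.trans (H29Ref.unitEquiv (X := X) x)).symm
  exact (H06EGA12.hasSk_iff_of_semilinear (RingHom.id _) Function.surjective_id e'.toAddEquiv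
    (fun r v => map_smul e' r v) k).2 hk

/-- Serre's condition at the closed point. -/
theorem depth_at_closed_point' {L : Type u} [CommRing L] [IsNoetherianRing L] [IsLocalRing L] (k : ℕ) (X : Type u)
    [AddCommGroup X] [Module L X] (h : LocCoh.HasSk k L X) :
    min (k : WithBot ℕ∞) (Module.supportDim L X) ≤ ((LocCoh.depth L X : ℕ∞) : WithBot ℕ∞) := by
  have h3 := h (IsLocalRing.maximalIdeal L)
  have hu : (IsLocalRing.maximalIdeal L).primeCompl ≤ IsUnit.submonoid L := fun s hs => by
    by_contra hn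
    exact hs ((IsLocalRing.mem_maximalIdeal s).2 hn)
  haveI := IsLocalization.self hu
  haveI : IsLocalizedModule (IsLocalRing.maximalIdeal L).primeCompl (LinearMap.id : X →ₗ[L] X) :=
    isLocalizedModule_id (IsLocalRing.maximalIdeal L).primeCompl X L
  let t := (IsLocalizedModule.iso (IsLocalRing.maximalIdeal L).primeCompl (LinearMap.id : X →ₗ[L] X))
  let a := IsLocalization.atUnits L (IsLocalRing.maximalIdeal L).primeCompl
    (S := Localization.AtPrime (IsLocalRing.maximalIdeal L)) hu
  obtain ⟨g1, g2, -⟩ := H06EGA12.invariants_of_semilinear a.toAlgHom.toRingHom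
    a.surjective t.symm.toAddEquiv (fun c x => by
      show t.symm (c • x) = a c • t.symm x
      rw [map_smul, show a c = algebraMap L _ c from a.commutes c, algebraMap_smul])
  rwa [g1, g2] at h3

variable (A : Type u) [CommRing A] [IsNoetherianRing A] (Y : Scheme.{u}) [Y.Over (Spec (CommRingCat.of A))]
  [IsProper (Y ↘ Spec (CommRingCat.of A))] (d : ℕ)
  (hd : Cyc.HasRelDim (Y ↘ Spec (CommRingCat.of A)) d) {ω : Y.Modules}
  (hω : RelCanon.IsDualizingSheaf A Y d ω)
  (hS : RelCanon.IsSkMor (Y ↘ Spec (CommRingCat.of A)) 2)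

/-- Serre conditions in every fibre. -/
theorem skAt_fiber {k : ℕ} (hk : RelCanon.IsSkMor (Y ↘ Spec (CommRingCat.of A)) k) (t : Spec (CommRingCat.of A))
    (z : (Y ↘ Spec (CommRingCat.of A)).fiber t) :
    RelCanon.SkAt k (Coh.structureModule ((Y ↘ Spec (CommRingCat.of A)).fiber t)) z := by
  haveI := isNoetherian_of_proper A Y
  exact LeadBrown.Rel.forall_fiber (Y ↘ Spec (CommRingCat.of A))
    (P := fun t z => RelCanon.SkAt k (Coh.structureModule ((Y ↘ Spec (CommRingCat.of A)).fiber t)) z) hk.2.2 t z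

/-- The local ring of a fibre at any of its points. -/
theorem ringKrullDim_fiber_stalk (t : Spec (CommRingCat.of A)) (z : (Y ↘ Spec (CommRingCat.of A)).fiber t) :
    ringKrullDim (((Y ↘ Spec (CommRingCat.of A)).fiber t).presheaf.stalk z) =
      fibDim A Y (((Y ↘ Spec (CommRingCat.of A)).fiberι t) z) := by
  haveI := isNoetherian_of_proper A Y
  exact LeadBrown.Rel.forall_fiber (Y ↘ Spec (CommRingCat.of A))
    (P := fun t z => ringKrullDim (((Y ↘ Spec (CommRingCat.of A)).fiber t).presheaf.stalk z) =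
      fibDim A Y (((Y ↘ Spec (CommRingCat.of A)).fiberι t) z))
    (fun y => (congrArg (fibDim A Y) (Scheme.Hom.fiberι_asFiber _ y)).symm) t z

/-- Outside the Cohen–Macaulay locus the fibres have local dimension above `k`. -/
theorem not_le_fibDim_of_not_cm {k : ℕ} (hk : RelCanon.IsSkMor (Y ↘ Spec (CommRingCat.of A)) k) (y : Y)
    (hy : ¬ MoreMor.IsCMAt (Y ↘ Spec (CommRingCat.of A)) y) : ¬ fibDim A Y y ≤ (k : WithBot ℕ∞) := fun hle => by
  let f := Y ↘ Spec (CommRingCat.of A)
  haveI : Flat f := hk.1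
  haveI : IsLocallyNoetherian (f.fiber (f y)) :=
    haveI := H8Props.FieldDim.locallyOfFiniteType_fiberToSpec f (f y)
    LocallyOfFiniteType.isLocallyNoetherian (f.fiberToSpecResidueField (f y))
  refine hy ⟨Flat.stalkMap f y, ?_⟩
  let e := H29Ref.unitEquiv (X := f.fiber (f y)) (f.asFiber y)
  have h' := depth_at_closed_point' k _ (hk.2.2 y)
  rw [Module.supportDim_eq_of_equiv e.symm, Module.supportDim_self_eq_ringKrullDim, H4Depth.depth_congr e.symm,
    min_eq_right hle] at h'
  exact { supportDim_eq_depth := by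
            rw [Module.supportDim_self_eq_ringKrullDim]
            exact le_antisymm h' (H8Props.FlatDepth.depth_le_dim _) }

/-- Outside the Cohen–Macaulay locus of an `S₂` morphism. -/
theorem two_le_fibDim_of_not_cm (hS : RelCanon.IsSkMor (Y ↘ Spec (CommRingCat.of A)) 2) (y : Y)
    (hy : ¬ MoreMor.IsCMAt (Y ↘ Spec (CommRingCat.of A)) y) : 2 ≤ fibDim A Y y := by
  have h := not_le_fibDim_of_not_cm A Y hS y hy
  exact le_of_lt (not_le.1 h)

/-- Depth two of the local rings of fibres. -/
theorem two_le_depth_fiber_stalk (hS : RelCanon.IsSkMor (Y ↘ Spec (CommRingCat.of A)) 2) (t : Spec (CommRingCat.of A))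
    (z : (Y ↘ Spec (CommRingCat.of A)).fiber t) (hz : 2 ≤ fibDim A Y (((Y ↘ Spec (CommRingCat.of A)).fiberι t) z)) :
    (2 : ℕ∞) ≤ LocCoh.depth (((Y ↘ Spec (CommRingCat.of A)).fiber t).presheaf.stalk z)
      (((Y ↘ Spec (CommRingCat.of A)).fiber t).presheaf.stalk z) := by
  let f := Y ↘ Spec (CommRingCat.of A)
  haveI : IsLocallyNoetherian (f.fiber t) :=
    haveI := H8Props.FieldDim.locallyOfFiniteType_fiberToSpec f t
    LocallyOfFiniteType.isLocallyNoetherian (f.fiberToSpecResidueField t)
  have h := depth_at_closed_point' 2 _ (skAt_fiber A Y hS t z)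
  let e := H29Ref.unitEquiv (X := f.fiber t) z
  rw [Module.supportDim_eq_of_equiv e.symm, Module.supportDim_self_eq_ringKrullDim, H4Depth.depth_congr e.symm,
    ringKrullDim_fiber_stalk A Y t z, min_eq_left (show ((2 : ℕ) : WithBot ℕ∞) ≤ _ from hz)] at h
  exact WithBot.coe_le_coe.1 h

include hd hω in
/-- The dualizing sheaves of the fibres are invertible when `ω` is. -/
theorem isInvertible_fibre_dualizing (hS : RelCanon.IsSkMor (Y ↘ Spec (CommRingCat.of A)) 2)
    (hinv : PicF.IsInvertible ω) (t : Spec (CommRingCat.of A))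
    (ωt : ((Y ↘ Spec (CommRingCat.of A)).fiber t).Modules)
    (hωt : @RelCanon.IsDualizingSheaf ((Spec (CommRingCat.of A)).residueField t) _ ((Y ↘ Spec (CommRingCat.of A)).fiber t)
      ⟨(Y ↘ Spec (CommRingCat.of A)).fiberToSpecResidueField t⟩ d ωt) : PicF.IsInvertible ωt := by
  let f := Y ↘ Spec (CommRingCat.of A)
  let κ := (Spec (CommRingCat.of A)).residueField t
  letI : (f.fiber t).Over (Spec (CommRingCat.of κ)) := ⟨f.fiberToSpecResidueField t⟩
  have hp : IsPullback (f.fiberι t) (f.fiber t ↘ Spec (CommRingCat.of κ)) f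
      ((Spec (CommRingCat.of A)).fromSpecResidueField t) := IsPullback.of_hasPullback _ _
  haveI : IsProper (f.fiber t ↘ Spec (CommRingCat.of κ)) :=
    MorphismProperty.of_isPullback (P := @IsProper) hp inferInstance
  haveI := isNoetherian_of_proper κ (f.fiber t)
  haveI : Flat f := hS.1
  haveI := isNoetherian_of_proper A Y
  haveI : LocallyOfFinitePresentation f := inferInstance
  let U : Y.Opens := ⟨_, (S1341.result f).1⟩
  obtain ⟨hcoh, hdep⟩ := isCoh_and_two_le_depth κ (f.fiber t) d (hasRelDim_of_isPullback hp hd) hωt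
  have hP : PicF.IsInvertible ((Scheme.Modules.pullback (f.fiberι t)).obj ω) := H11Ample.isInvertible_pullback _ hinv
  obtain ⟨i⟩ := nonempty_iso_of_restrict (f.fiberι t ⁻¹ᵁ U) (H11Ample.isCoh_of_isInvertible hP) hcoh
    (fun z hz => by
      obtain ⟨e⟩ := nonempty_stalk_equiv_of_invertibleAt (H11Ample.isCoh_of_isInvertible hP).1 (hP z)
      rw [H4Depth.depth_congr e]
      exact two_le_depth_fiber_stalk A Y hS t z (two_le_fibDim_of_not_cm A Y hS _ hz))
    (fun z hz => hdep z ((two_le_fibDim_of_not_cm A Y hS _ hz).trans (fibDim_le A Y d hd hp z)))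
    (nonempty_restrict_bc A Y d hS.1 hd hω hp U (fun y hy => hy) hωt)
  intro z
  obtain ⟨V, hV, ⟨e⟩⟩ := hP z
  exact ⟨V, hV, ⟨(Scheme.Modules.restrictFunctor V.ι).mapIso i.symm ≪≫ e⟩⟩

/-- An invertible module satisfies relative `(S₂)`. -/
theorem relSk_of_isInvertible (hS : RelCanon.IsSkMor (Y ↘ Spec (CommRingCat.of A)) 2) {L : Y.Modules}
    (hL : PicF.IsInvertible L) : RelCanon.RelSk (Y ↘ Spec (CommRingCat.of A)) 2 L := fun y => by
  let f := Y ↘ Spec (CommRingCat.of A)
  haveI : Flat f := hS.1
  haveI := isNoetherian_of_proper A Y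
  refine ⟨?_, ?_⟩
  · obtain ⟨e⟩ := nonempty_stalk_equiv_of_invertibleAt (H11Ample.isCoh_of_isInvertible hL).1 (hL y)
    letI := (f.stalkMap y).hom.toAlgebra
    letI := FlatMod.moduleStalkOver f L y
    haveI : IsScalarTower ((Spec (CommRingCat.of A)).presheaf.stalk (f y)) (Y.presheaf.stalk y) (L.presheaf.stalk y) :=
      .of_algebraMap_smul fun _ _ => rfl
    haveI : Module.Flat ((Spec (CommRingCat.of A)).presheaf.stalk (f y)) (Y.presheaf.stalk y) := Flat.stalkMap f y
    exact Module.Flat.of_linearEquiv (e.restrictScalars ((Spec (CommRingCat.of A)).presheaf.stalk (f y)))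
  · have hP : PicF.IsInvertible ((Scheme.Modules.pullback (f.fiberι (f y))).obj L) := H11Ample.isInvertible_pullback _ hL
    exact skAt_of_invertibleAt (H11Ample.isCoh_of_isInvertible hP).1 2 (hP _) (hS.2.2 y)

end Groth.Agent.H4Rel
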