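import Groth.Agent.H4Rel.RefPowBC
import Groth.Agent.H28Def.DefFunctor
import Groth.Agent.H06EGA12.GeomSkField
import Groth.Agent.H02CA.GorFlat

/-!
# Fibres and base changes as families
-/

set_option autoImplicit false
set_option linter.style.haveILetI false
set_option linter.unusedSectionVars false
set_option backward.isDefEq.respectTransparency false
set_option maxHeartbeats 1000000
set_option synthInstance.maxHeartbeats 400000

universe u

open CategoryTheory CategoryTheory.Limits AlgebraicGeometry IsLocalRing
open Groth.Agent.H16Derived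

attribute [local instance] HasDerivedCategory.standard

namespace Groth.Agent.H4Rel

/-- The local ring of the fibre of a scheme over a field. -/
theorem nonempty_field_fiber_stalk_equiv {K : Type u} [Field K] {Z : Scheme.{u}} (π : Z ⟶ Spec (CommRingCat.of K))
    (z : Z) : Nonempty ((π.fiber (π z)).presheaf.stalk (π.asFiber z) ≃+* Z.presheaf.stalk z) := by
  have hbot : (maximalIdeal ((Spec (CommRingCat.of K)).presheaf.stalk (π z))).map (π.stalkMap z).hom = ⊥ := by
    haveI : IsLocalRing (CommRingCat.of K) := inferInstanceAs (IsLocalRing K)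
    rw [IsLocalRing.isField_iff_maximalIdeal_eq.mp
      (H8Props.FibreStalk.isField_stalk_Spec (CommRingCat.of K) (Field.toIsField K) _), Ideal.map_bot]
  exact ⟨(H8Props.FibreStalk.asFiberStalkEquiv π z).symm.trans
    ((Ideal.quotEquivOfEq hbot).trans (RingEquiv.quotientBot _))⟩

/-- Serre conditions of the structure module. -/
theorem skAt_structureModule_iff {X : Scheme.{u}} (k : ℕ) (x : X) :
    RelCanon.SkAt k (Coh.structureModule X) x ↔ LocCoh.HasSk k (X.presheaf.stalk x) (X.presheaf.stalk x) :=
  let e := H29Ref.unitEquiv (X := X) x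
  (H06EGA12.hasSk_iff_of_semilinear (RingHom.id _) Function.surjective_id e.symm.toAddEquiv
    (fun r v => map_smul e.symm r v) k).symm

variable (A : Type u) [CommRing A] [IsNoetherianRing A] (Y : Scheme.{u}) [Y.Over (Spec (CommRingCat.of A))]
  [IsProper (Y ↘ Spec (CommRingCat.of A))] (d : ℕ)

/-- A fibre of an `S_k` morphism is an `S_k` scheme over the residue field. -/
theorem isSkMor_fiber {k : ℕ} (hk : RelCanon.IsSkMor (Y ↘ Spec (CommRingCat.of A)) k) (t : Spec (CommRingCat.of A)) :
    RelCanon.IsSkMor ((Y ↘ Spec (CommRingCat.of A)).fiberToSpecResidueField t) k := by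
  let f := Y ↘ Spec (CommRingCat.of A)
  haveI := H8Props.FieldDim.locallyOfFiniteType_fiberToSpec f t
  refine ⟨H28Def.flat_of_field _, inferInstance, fun z => ?_⟩
  haveI : IsLocallyNoetherian (f.fiber t) := LocallyOfFiniteType.isLocallyNoetherian (f.fiberToSpecResidueField t)
  haveI : IsLocallyNoetherian ((f.fiberToSpecResidueField t).fiber ((f.fiberToSpecResidueField t) z)) :=
    haveI := H8Props.FieldDim.locallyOfFiniteType_fiberToSpec (f.fiberToSpecResidueField t) ((f.fiberToSpecResidueField t) z)
    LocallyOfFiniteType.isLocallyNoetherian ((f.fiberToSpecResidueField t).fiberToSpecResidueField _)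
  obtain ⟨e⟩ := nonempty_field_fiber_stalk_equiv (K := (Spec (CommRingCat.of A)).residueField t) (f.fiberToSpecResidueField t) z
  rw [skAt_structureModule_iff]
  exact H06EGA12.hasSk_of_equiv e.symm ((skAt_structureModule_iff k z).1 (skAt_fiber A Y hk t z))

/-- Gorenstein points of a morphism are Gorenstein in their fibres. -/
theorem isGorensteinAt_fiber (t : Spec (CommRingCat.of A)) (z : (Y ↘ Spec (CommRingCat.of A)).fiber t)
    (h : Dual3.IsGorensteinAt (Y ↘ Spec (CommRingCat.of A)) (((Y ↘ Spec (CommRingCat.of A)).fiberι t) z)) :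
    Dual3.IsGorensteinAt ((Y ↘ Spec (CommRingCat.of A)).fiberToSpecResidueField t) z := by
  let f := Y ↘ Spec (CommRingCat.of A)
  haveI := isNoetherian_of_proper A Y
  have h1 : LocCoh.IsGorensteinLocalRing ((f.fiber t).presheaf.stalk z) :=
    LeadBrown.Rel.forall_fiber f
      (P := fun t z => Dual3.IsGorensteinAt f (f.fiberι t z) → LocCoh.IsGorensteinLocalRing ((f.fiber t).presheaf.stalk z))
      (fun y hy => by
        have key : ∀ x, x = y → Dual3.IsGorensteinAt f x → Dual3.IsGorensteinAt f y := fun x hx hh => hx ▸ hh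
        exact (key _ (f.fiberι_asFiber y) hy).2) t z h
  haveI := H28Def.flat_of_field (k := (Spec (CommRingCat.of A)).residueField t) (f.fiberToSpecResidueField t)
  obtain ⟨e⟩ := nonempty_field_fiber_stalk_equiv (K := (Spec (CommRingCat.of A)).residueField t) (f.fiberToSpecResidueField t) z
  exact ⟨Flat.stalkMap (f.fiberToSpecResidueField t) z, (H02CA.GorFlat.gor_iff_of_ringEquiv e).2 h1⟩

/-- The local dimension of a fibre, computed in the fibre. -/
theorem fibDim_fiber (t : Spec (CommRingCat.of A)) (z : (Y ↘ Spec (CommRingCat.of A)).fiber t) :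
    ringKrullDim ((((Y ↘ Spec (CommRingCat.of A)).fiberToSpecResidueField t).fiber
      (((Y ↘ Spec (CommRingCat.of A)).fiberToSpecResidueField t) z)).presheaf.stalk
        (((Y ↘ Spec (CommRingCat.of A)).fiberToSpecResidueField t).asFiber z)) =
      fibDim A Y (((Y ↘ Spec (CommRingCat.of A)).fiberι t) z) := by
  obtain ⟨e⟩ := nonempty_field_fiber_stalk_equiv (K := (Spec (CommRingCat.of A)).residueField t)
    ((Y ↘ Spec (CommRingCat.of A)).fiberToSpecResidueField t) z
  exact (ringKrullDim_eq_of_ringEquiv e).trans (ringKrullDim_fiber_stalk A Y t z)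

variable {B : Type u} [CommRing B] [IsNoetherianRing B] {g : Spec (CommRingCat.of B) ⟶ Spec (CommRingCat.of A)}
  {Y' : Scheme.{u}} [Y'.Over (Spec (CommRingCat.of B))] {p : Y' ⟶ Y}
  (hp : IsPullback p (Y' ↘ Spec (CommRingCat.of B)) (Y ↘ Spec (CommRingCat.of A)) g)

include hp in
/-- `S_k` morphisms are stable under base change. -/
theorem isSkMor_bc {k : ℕ} (hk : RelCanon.IsSkMor (Y ↘ Spec (CommRingCat.of A)) k) :
    RelCanon.IsSkMor (Y' ↘ Spec (CommRingCat.of B)) k := by
  let f := Y ↘ Spec (CommRingCat.of A)
  let f' := Y' ↘ Spec (CommRingCat.of B)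
  haveI : IsProper f' := MorphismProperty.of_isPullback (P := @IsProper) hp inferInstance
  refine ⟨MorphismProperty.of_isPullback (P := @Flat) hp hk.1, inferInstance, fun y' => ?_⟩
  haveI := H8Props.FieldDim.locallyOfFiniteType_fiberToSpec f (g (f' y'))
  haveI := H8Props.FieldDim.locallyOfFiniteType_fiberToSpec f' (f' y')
  haveI : IsLocallyNoetherian (f.fiber (g (f' y'))) := LocallyOfFiniteType.isLocallyNoetherian (f.fiberToSpecResidueField (g (f' y')))
  haveI : IsLocallyNoetherian (f'.fiber (f' y')) := LocallyOfFiniteType.isLocallyNoetherian (f'.fiberToSpecResidueField (f' y'))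
  let κ := (Spec (CommRingCat.of A)).residueField (g (f' y'))
  let K := (Spec (CommRingCat.of B)).residueField (f' y')
  letI : Algebra κ K := (g.residueFieldMap (f' y')).hom.toAlgebra
  let π : f.fiber (g (f' y')) ⟶ Spec (CommRingCat.of κ) := f.fiberToSpecResidueField (g (f' y'))
  haveI : LocallyOfFiniteType π := ‹_›
  let e := (isPullback_fiberToSpecResidueField_of_isPullback hp (f' y')).isoPullback
  haveI : IsLocallyNoetherian (FBase.bc π K) :=
    haveI : LocallyOfFiniteType (pullback.snd π (Spec.map (CommRingCat.ofHom (algebraMap κ K)))) := inferInstance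
    LocallyOfFiniteType.isLocallyNoetherian (pullback.snd π (Spec.map (CommRingCat.ofHom (algebraMap κ K))))
  have h := H06EGA12.hasSk_stalk_bc π K (e.hom (f'.asFiber y')) k
    ((skAt_structureModule_iff k _).1 (skAt_fiber A Y hk _ _))
  rw [skAt_structureModule_iff]
  exact H06EGA12.hasSk_of_equiv (asIso (e.hom.stalkMap (f'.asFiber y'))).commRingCatIsoToRingEquiv h

end Groth.Agent.H4Rel
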