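import Groth.Agent.H4Rel.Index
import Groth.Agent.H05EGA4.FlatRegular

/-!
# Freeness from the closed fibre
-/

set_option autoImplicit false
set_option linter.style.haveILetI false
set_option linter.unusedSectionVars false
set_option backward.isDefEq.respectTransparency false
set_option maxHeartbeats 1000000
set_option synthInstance.maxHeartbeats 400000

universe u

open CategoryTheory CategoryTheory.Limits AlgebraicGeometry IsLocalRing
open scoped TensorProduct

namespace Groth.Agent.H4Rel

/-- A finite module flat over the base and free of rank one on the closed fibre is free of rank one. -/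
theorem basis_of_fibre_equiv (A B M C : Type u) [CommRing A] [IsLocalRing A] [CommRing B] [IsLocalRing B]
    [IsNoetherianRing B] [Algebra A B] [IsLocalHom (algebraMap A B)] [AddCommGroup M] [Module B M] [Module A M]
    [IsScalarTower A B M] [Module.Finite B M] [Module.Flat A M] [CommRing C] [Algebra B C]
    (hs : Function.Surjective (algebraMap B C))
    (hk : RingHom.ker (algebraMap B C) = (maximalIdeal A).map (algebraMap A B))
    (e : C ⊗[B] M ≃ₗ[C] C) : Nonempty (Module.Basis (Fin 1) B M) := by
  let I := (maximalIdeal A).map (algebraMap A B)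
  have hI : I ≤ maximalIdeal B := Ideal.map_le_iff_le_comap.mpr (maximalIdeal_comap (algebraMap A B)).ge
  let φ : (B ⧸ I) ≃ₐ[B] C := (Ideal.quotientEquivAlgOfEq B hk.symm).trans
    (Ideal.quotientKerAlgEquivOfSurjective (f := Algebra.ofId B C) hs)
  let q : (M ⧸ I • (⊤ : Submodule B M)) ≃ₗ[B] B ⧸ I :=
    (TensorProduct.quotTensorEquivQuotSMul M I).symm.trans
      ((TensorProduct.congr φ.toLinearEquiv (LinearEquiv.refl B M)).trans
        ((e.restrictScalars B).trans φ.toLinearEquiv.symm))
  obtain ⟨x, hx⟩ := Submodule.Quotient.mk_surjective _ (q.symm 1)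
  have hqx : ∀ b : B, q (Submodule.Quotient.mk (b • x)) = Ideal.Quotient.mk I b := fun b => by
    rw [Submodule.Quotient.mk_smul, map_smul, hx, q.apply_symm_apply, Algebra.smul_def, mul_one]
    rfl
  have hgen : Submodule.span B {x} = ⊤ := by
    refine top_le_iff.mp (Submodule.le_of_le_smul_of_le_jacobson_bot Module.Finite.fg_top
      (hI.trans (maximalIdeal_le_jacobson _)) fun m _ => ?_)
    obtain ⟨b, hb⟩ := Ideal.Quotient.mk_surjective (q (Submodule.Quotient.mk m))
    have hmem : m - b • x ∈ I • (⊤ : Submodule B M) := by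
      rw [← Submodule.Quotient.eq]
      exact q.injective (by rw [hqx, hb])
    rw [Submodule.mem_sup]
    exact ⟨b • x, Submodule.smul_mem _ b (Submodule.mem_span_singleton_self x), m - b • x, hmem, by abel⟩
  let u : B →ₗ[A] M := (LinearMap.toSpanSingleton B M x).restrictScalars A
  have hu := H7Flat.injective_and_flat_quotient (S := B) u (H7Flat.lTensor_residueField_injective u fun b hb => by
    have hb' : b • x ∈ I • (⊤ : Submodule B M) := by
      rwa [← Submodule.restrictScalars_mem A, Ideal.smul_restrictScalars, Submodule.restrictScalars_top]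
    have h0 : Ideal.Quotient.mk I b = 0 := by
      rw [← hqx, (Submodule.Quotient.mk_eq_zero _).2 hb', map_zero]
    rw [Ideal.smul_top_eq_map, Submodule.restrictScalars_mem]
    exact Ideal.Quotient.eq_zero_iff_mem.1 h0)
  refine ⟨(Module.Basis.singleton (Fin 1) B).map (LinearEquiv.ofBijective (LinearMap.toSpanSingleton B M x)
    ⟨hu.1, LinearMap.range_eq_top.1 ?_⟩)⟩
  rw [← LinearMap.span_singleton_eq_range]
  exact hgen

variable {X S : Scheme.{u}} [IsLocallyNoetherian X] (f : X ⟶ S)

attribute [local instance] H06Mod.stalkAlgebra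

/-- Invertibility from the fibre for a module flat over the base. -/
theorem invertibleAt_of_fibre {R : X.Modules} (hR : Coh.IsCoh R) (x : X) (hflat : FlatMod.IsFlatOverAt f R x)
    (t : S) (z : f.fiber t) (hz : f.fiberι t z = x)
    (h : RelCanon.InvertibleAt ((Scheme.Modules.pullback (f.fiberι t)).obj R) z) : RelCanon.InvertibleAt R x := by
  subst hz
  letI := (f.stalkMap (f.fiberι t z)).hom.toAlgebra
  letI := FlatMod.moduleStalkOver f R (f.fiberι t z)
  haveI : IsScalarTower (S.presheaf.stalk (f (f.fiberι t z))) (X.presheaf.stalk (f.fiberι t z))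
      (R.presheaf.stalk (f.fiberι t z)) := .of_algebraMap_smul fun _ _ => rfl
  haveI : IsLocalHom (algebraMap (S.presheaf.stalk (f (f.fiberι t z))) (X.presheaf.stalk (f.fiberι t z))) :=
    inferInstanceAs (IsLocalHom (f.stalkMap (f.fiberι t z)).hom)
  haveI : Module.Flat (S.presheaf.stalk (f (f.fiberι t z))) (R.presheaf.stalk (f.fiberι t z)) := hflat
  haveI : Module.Finite (X.presheaf.stalk (f.fiberι t z)) (R.presheaf.stalk (f.fiberι t z)) :=
    H06Mod.finite_stalk _ hR.2 _
  obtain ⟨e⟩ := nonempty_stalk_equiv_of_invertibleAt (H29Fitt.isQCoh_pullback (f.fiberι t) R hR.1) h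
  obtain ⟨b⟩ := basis_of_fibre_equiv (S.presheaf.stalk (f (f.fiberι t z))) (X.presheaf.stalk (f.fiberι t z))
    (R.presheaf.stalk (f.fiberι t z)) ((f.fiber t).presheaf.stalk z) ((f.fiberι t).stalkMap_surjective z)
    (ker_fiberι_stalkMap f t z)
    ((LinearEquiv.ofBijective _ (H06Mod.pullStalkLin_bijective (f.fiberι t) R z)).trans e)
  exact H29Ref.exists_iso_of_isFreeOfRankNear_one R _
    (H8Props.FunDescent.isFreeOfRankNear_of_stalkFree_of_isFP R (H10Coh.isFP_of_isCoh R hR) ⟨b⟩)

end Groth.Agent.H4Rel
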