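import Groth.Agent.H4Rel.LocalExt

/-!
# Full support at a point
-/

set_option autoImplicit false
set_option linter.style.haveILetI false
set_option backward.isDefEq.respectTransparency false

universe u

open CategoryTheory CategoryTheory.Limits AlgebraicGeometry TopologicalSpace Opposite

namespace Groth.Agent.H4Rel

open Groth.Agent.H26ZClos Groth.Agent.H17.AssPts Groth.Agent.H17.ZDepth IsLocalRing

variable {X : Scheme.{u}}

/-- The stalk of a module supported at all generisations has full support. -/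
theorem supportDim_stalk_eq_of_generization [IsLocallyNoetherian X] (F : X.Modules) (hF : Coh.IsQCoh F)
    (x : X) (hsupp : ∀ z : X, z ⤳ x → Nontrivial (F.presheaf.stalk z)) :
    Module.supportDim (X.presheaf.stalk x) (F.presheaf.stalk x) = ringKrullDim (X.presheaf.stalk x) := by
  obtain ⟨V, hV, hxV, -⟩ := exists_isAffineOpen_mem_and_subset (U := (⊤ : X.Opens)) (x := x) trivial
  have h : Module.support (X.presheaf.stalk x) (F.presheaf.stalk x) = Set.univ := by
    refine Set.eq_univ_of_forall fun p => Module.mem_support_iff'.2 ?_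
    have hq : (p.asIdeal.comap (X.presheaf.germ V x hxV).hom).IsPrime := Ideal.IsPrime.comap _
    obtain ⟨⟨z, hzV⟩, hz⟩ := H29Blow.exists_primeIdealOf_eq hV ⟨_, hq⟩
    have hzp : (hV.primeIdealOf ⟨z, hzV⟩).asIdeal = p.asIdeal.comap (X.presheaf.germ V x hxV).hom :=
      congrArg PrimeSpectrum.asIdeal hz
    have hzx : z ⤳ x := (H29Blow.primeIdealOf_le_iff hV ⟨z, hzV⟩ ⟨x, hxV⟩).1 (by
      rw [hzp]
      intro a ha
      rw [← germ_mem_maximal_iff hV hxV]
      exact IsLocalRing.le_maximalIdeal p.isPrime.ne_top ha)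
    haveI := hsupp z hzx
    obtain ⟨e, he⟩ := exists_ne (0 : F.presheaf.stalk z)
    obtain ⟨t, s, ht, hts⟩ := exists_smul_germ_eq F hF hV hzV e
    refine ⟨F.presheaf.germ V x hxV s, fun r hr h0 => ?_⟩
    obtain ⟨tr, r₀, htr, hr₀⟩ := exists_smul_germ_ring hV hxV r
    have hr' : z ∈ X.basicOpen r₀ := by
      by_contra hc
      have h1 := (mem_primeIdealOf hV hzV r₀).2 hc
      rw [hzp, Ideal.mem_comap, ← hr₀] at h1
      exact hr ((p.isPrime.mem_or_mem h1).resolve_left fun h2 =>
        (IsLocalRing.le_maximalIdeal p.isPrime.ne_top h2) ((isUnit_germ_iff hxV tr).2 htr))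
    have h1 : F.presheaf.germ V x hxV (r₀ • s) = 0 := by rw [germ_smul', ← hr₀, mul_smul, h0, smul_zero]
    have h2 := congrArg (F.presheaf.stalkSpecializes hzx) h1
    rw [germ_spec_mod, map_zero, germ_smul', ← hts, smul_smul] at h2
    exact he ((((isUnit_germ_iff hzV r₀).2 hr').mul ((isUnit_germ_iff hzV t).2 ht)).smul_eq_zero.1 h2)
  rw [Module.supportDim, h]
  exact Order.krullDim_eq_of_orderIso OrderIso.Set.univ

end Groth.Agent.H4Rel
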