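import Groth.Agent.H4Rel.Descent
import Groth.Agent.H7Flat.FibreDim

/-!
# Openness of the codimension condition in fibres
-/

set_option autoImplicit false
set_option linter.style.haveILetI false
set_option linter.unusedSectionVars false
set_option backward.isDefEq.respectTransparency false
set_option maxHeartbeats 1000000
set_option synthInstance.maxHeartbeats 400000

universe u

open CategoryTheory CategoryTheory.Limits AlgebraicGeometry Topology
open Groth.Agent.H8Props.FieldDim (cdim)

namespace Groth.Agent.H4Rel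

/-- Dimensions of point closures in a fibre, seen in the total space. -/
theorem cdim_fiber_eq {X S : Scheme.{u}} (h : X ⟶ S) (t : S) (v : h.fiber t) :
    cdim v = topologicalKrullDim (closure {h.fiberι t v} ∩ h ⁻¹' {t} : Set X) := by
  rw [← h.range_fiberι t, ← H8Props.FieldDim.dim_preimage (h.fiberι t).isEmbedding]
  show topologicalKrullDim (closure ({v} : Set _)) = _
  rw [(h.fiberι t).isEmbedding.closure_eq_preimage_closure_image, Set.image_singleton]

/-- Dimensions of point closures are computed in a closed subscheme. -/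
theorem cdim_fiber_closed {X Y S : Scheme.{u}} (i : X ⟶ Y) [IsClosedImmersion i] (f : Y ⟶ S) (t : S)
    (v : (i ≫ f).fiber t) (w : f.fiber t) (h : f.fiberι t w = i ((i ≫ f).fiberι t v)) : cdim v = cdim w := by
  rw [cdim_fiber_eq, cdim_fiber_eq, h]
  have hpre : closure {(i ≫ f).fiberι t v} ∩ (i ≫ f) ⁻¹' {t} =
      i ⁻¹' (closure {i ((i ≫ f).fiberι t v)} ∩ f ⁻¹' {t}) := by
    rw [i.isClosedEmbedding.isEmbedding.closure_eq_preimage_closure_image, Set.image_singleton]
    ext x; simp
  rw [hpre, H8Props.FieldDim.dim_preimage i.isClosedEmbedding.isEmbedding, Set.inter_eq_left.mpr]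
  exact Set.inter_subset_left.trans (closure_minimal (Set.singleton_subset_iff.mpr ⟨_, rfl⟩)
    i.isClosedEmbedding.isClosed_range)

variable (A : Type u) [CommRing A] [IsNoetherianRing A] (Y : Scheme.{u}) [Y.Over (Spec (CommRingCat.of A))]
  [IsProper (Y ↘ Spec (CommRingCat.of A))] (d : ℕ) (hd : Cyc.HasRelDim (Y ↘ Spec (CommRingCat.of A)) d)

include hd in
/-- `dim O + dim` of the closure is `d` in a fibre. -/
theorem fibDim_add_cdim (t : Spec (CommRingCat.of A)) (w : (Y ↘ Spec (CommRingCat.of A)).fiber t) :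
    fibDim A Y (((Y ↘ Spec (CommRingCat.of A)).fiberι t) w) + cdim w = (d : WithBot ℕ∞) := by
  let f := Y ↘ Spec (CommRingCat.of A)
  haveI := H8Props.FieldDim.locallyOfFiniteType_fiberToSpec f t
  rw [← ringKrullDim_fiber_stalk A Y t w,
    ← H8Props.FieldDim.localDim_eq_stalk_add_cdim (k := (Spec (CommRingCat.of A)).residueField t)
      (f.fiberToSpecResidueField t) w]
  exact H8Props.FieldDim.localDim_eq_of_pure (k := (Spec (CommRingCat.of A)).residueField t)
    (f.fiberToSpecResidueField t) w _ (hd t)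

theorem le_iff_of_add_eq {a : WithBot ℕ∞} {c d m : ℕ} (h : a + (c : WithBot ℕ∞) = d) :
    (m : WithBot ℕ∞) ≤ a ↔ m + c ≤ d := by
  induction a using WithBot.recBotCoe with
  | bot => simp at h
  | coe a =>
    have h' : a + (c : ℕ∞) = d := by exact_mod_cast h
    obtain ⟨k, rfl⟩ := ENat.ne_top_iff_exists.mp (fun ha : a = ⊤ => ENat.natCast_ne_top d (by rw [← h', ha, top_add]))
    have h'' : k + c = d := by exact_mod_cast h'
    refine ⟨fun hm => ?_, fun hm => ?_⟩
    · have : m ≤ k := by exact_mod_cast hm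
      omega
    · have : m ≤ k := by omega
      exact_mod_cast this

include hd in
/-- The points near which a closed set has codimension `≥ m` in the fibres form an open set. -/
theorem isOpen_goodCodim (Zs : Set Y) (hZs : IsClosed Zs) (m : ℕ) :
    IsOpen {y : Y | ∀ z : Y, (Y ↘ Spec (CommRingCat.of A)) z = (Y ↘ Spec (CommRingCat.of A)) y → z ∈ Zs → z ⤳ y →
      (m : WithBot ℕ∞) ≤ fibDim A Y z} := by
  let f := Y ↘ Spec (CommRingCat.of A)
  haveI := isNoetherian_of_proper A Y
  let i := (Scheme.IdealSheafData.vanishingIdeal ⟨Zs, hZs⟩).subschemeι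
  have hi : Set.range i = Zs :=
    (Scheme.IdealSheafData.range_subschemeι _).trans (Scheme.IdealSheafData.coe_support_vanishingIdeal _)
  let h := i ≫ f
  haveI : LocallyOfFiniteType h := inferInstance
  let e : WithBot ℕ∞ := if m ≤ d then ((d - m : ℕ) : WithBot ℕ∞) else ⊥
  have he : ∀ c : ℕ, (c : WithBot ℕ∞) ≤ e ↔ m + c ≤ d := fun c => by
    by_cases hmd : m ≤ d
    · simp only [e, if_pos hmd, Nat.cast_le]; omega
    · simp only [e, if_neg hmd]
      exact ⟨fun h => by simp at h, fun h => by omega⟩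
  have hgood : ∀ (t : Spec (CommRingCat.of A)) (v : h.fiber t), (cdim v ≤ e ↔
      (m : WithBot ℕ∞) ≤ fibDim A Y (i (h.fiberι t v))) := by
    intro t v
    obtain ⟨w, hw⟩ : i (h.fiberι t v) ∈ Set.range (f.fiberι t) := by
      rw [f.range_fiberι t, Set.mem_preimage, Set.mem_singleton_iff, ← Scheme.Hom.comp_apply]
      exact (h.range_fiberι t).subset (Set.mem_range_self v)
    have hsum := fibDim_add_cdim A Y d hd t w
    haveI := H8Props.FieldDim.locallyOfFiniteType_fiberToSpec f t
    obtain ⟨c, hc⟩ := H8Props.FieldDim.exists_nat_cdim (k := (Spec (CommRingCat.of A)).residueField t)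
      (f.fiberToSpecResidueField t) w
    rw [hw, hc] at hsum
    rw [cdim_fiber_closed i f t v w hw, hc, he, le_iff_of_add_eq hsum]
  have hO := H7Flat.isOpen_fibreDimAt_le' h e
  have key : ∀ x, FlatMor.fibreDimAt h x ≤ e ↔
      ∀ z : Y, f z = f (i x) → z ∈ Zs → z ⤳ i x → (m : WithBot ℕ∞) ≤ fibDim A Y z := by
    intro x
    haveI := H8Props.FieldDim.locallyOfFiniteType_fiberToSpec h (h x)
    show FlatMor.localDim (h.fiber (h x)) (h.asFiber x) ≤ e ↔ _
    rw [H8Props.FieldDim.localDim_eq (k := (Spec (CommRingCat.of A)).residueField (h x))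
      (h.fiberToSpecResidueField (h x)), iSup_le_iff]
    refine ⟨fun H z hzf hz hzx => ?_, fun H η => ?_⟩
    · rw [← hi] at hz
      obtain ⟨z, rfl⟩ := hz
      obtain ⟨v, rfl⟩ : z ∈ Set.range (h.fiberι (h x)) := by
        rw [h.range_fiberι]
        exact hzf
      refine (hgood _ v).1 (H ⟨v, ?_⟩)
      rw [← (h.fiberι (h x)).isEmbedding.specializes_iff, h.fiberι_asFiber x]
      exact i.isClosedEmbedding.isEmbedding.specializes_iff.mp hzx
    · refine (hgood _ η.1).2 (H _ ((h.range_fiberι (h x)).subset (Set.mem_range_self η.1)) (hi.subset (Set.mem_range_self _)) ?_)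
      have h2 := η.2.map (h.fiberι (h x)).continuous
      rw [h.fiberι_asFiber x] at h2
      exact h2.map i.continuous
  obtain ⟨W, hW, hWeq⟩ := i.isClosedEmbedding.isInducing.isOpen_iff.mp hO
  have : {y : Y | ∀ z : Y, f z = f y → z ∈ Zs → z ⤳ y → (m : WithBot ℕ∞) ≤ fibDim A Y z} = W ∪ Zsᶜ := by
    ext y
    by_cases hy : y ∈ Zs
    · rw [← hi] at hy
      obtain ⟨x, rfl⟩ := hy
      have hx : i x ∈ W ↔ FlatMor.fibreDimAt h x ≤ e := Set.ext_iff.mp hWeq x
      constructor
      · exact fun H => Or.inl (hx.2 ((key x).2 H))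
      · rintro (H | H)
        · exact (key x).1 (hx.1 H)
        · exact absurd (hi.subset (Set.mem_range_self x)) H
    · exact ⟨fun _ => Or.inr hy, fun _ z _ hz hzy => absurd (hzy.mem_closed hZs hz) hy⟩
  exact this ▸ hW.union hZs.isOpen_compl

end Groth.Agent.H4Rel
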