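import Groth.Agent.H4Rel.Extend
import Groth.Agent.H4Rel.CMFib
import Groth.Agent.S3617
import Groth.Agent.H4Goren.Basic
import Groth.Agent.H29Ref.BigOpen
import Groth.Agent.H29Ref.DenseExt

/-!
# The relative dualizing sheaf near Gorenstein points
-/

set_option autoImplicit false
set_option linter.style.haveILetI false
set_option linter.unusedSectionVars false
set_option backward.isDefEq.respectTransparency false
set_option maxHeartbeats 1000000
set_option synthInstance.maxHeartbeats 400000

universe u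

open CategoryTheory CategoryTheory.Limits AlgebraicGeometry
open Groth.Agent.H16Derived

attribute [local instance] HasDerivedCategory.standard

namespace Groth.Agent.H4Rel

/-- A map that is an isomorphism on an open from which both sides extend uniquely is an isomorphism. -/
theorem isIso_of_restrict {X : Scheme.{u}} (U : X.Opens) {F G : X.Modules} (φ : F ⟶ G)
    [IsIso ((Scheme.Modules.restrictAdjunction U.ι).unit.app F)]
    [IsIso ((Scheme.Modules.restrictAdjunction U.ι).unit.app G)]
    [IsIso ((Scheme.Modules.restrictFunctor U.ι).map φ)] : IsIso φ := by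
  have h := (Scheme.Modules.restrictAdjunction U.ι).unit.naturality φ
  haveI : IsIso (φ ≫ (Scheme.Modules.restrictAdjunction U.ι).unit.app G) := by
    rw [show φ = (𝟭 X.Modules).map φ from rfl, h, Functor.comp_map]
    infer_instance
  exact IsIso.of_isIso_comp_right φ ((Scheme.Modules.restrictAdjunction U.ι).unit.app G)

/-- An invertible stalk is free of rank one. -/
theorem isReflexiveAt_of_invertibleAt {X : Scheme.{u}} {F : X.Modules} (hF : Coh.IsQCoh F) {x : X}
    (h : RelCanon.InvertibleAt F x) : RefHull.IsReflexiveAt F x := by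
  obtain ⟨U, hx, ⟨e⟩⟩ := h
  obtain ⟨b⟩ := H8Props.FunDescent.stalkFree_of_isFreeOfRankNear F hF (p := 1)
    ⟨U, hx, ⟨e ≪≫ (coproductUniqueIso fun _ : Fin 1 => Coh.structureModule (U : Scheme.{u})).symm⟩⟩
  haveI := Module.Free.of_basis b
  haveI := Module.Finite.of_basis b
  show Module.IsReflexive (X.presheaf.stalk x) (F.presheaf.stalk x)
  infer_instance

variable (A : Type u) [CommRing A] [IsNoetherianRing A] (Y : Scheme.{u}) [Y.Over (Spec (CommRingCat.of A))]
  [IsProper (Y ↘ Spec (CommRingCat.of A))] (d : ℕ)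
  (hflat : Flat (Y ↘ Spec (CommRingCat.of A)))
  (hd : Cyc.HasRelDim (Y ↘ Spec (CommRingCat.of A)) d) {ω : Y.Modules}
  (hω : RelCanon.IsDualizingSheaf A Y d ω)

include hflat hd hω in
/-- `ω` is invertible at relatively Gorenstein points. -/
theorem invertibleAt_of_gorenstein (y : Y) (h : Dual3.IsGorensteinAt (Y ↘ Spec (CommRingCat.of A)) y) :
    RelCanon.InvertibleAt ω y := by
  let f := Y ↘ Spec (CommRingCat.of A)
  haveI : Flat f := hflat
  haveI := QCohD.hasRpush f
  haveI : CompactSpace Y := QuasiCompact.compactSpace_of_compactSpace f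
  haveI : QuasiSeparatedSpace Y := quasiSeparatedSpace_of_quasiSeparated f
  haveI := isNoetherian_of_proper A Y
  haveI : LocallyOfFinitePresentation f := inferInstance
  haveI : ∀ (U V : Scheme.{u}) (j : U ⟶ V) [IsOpenImmersion j],
      PreservesFiniteLimits (Scheme.Modules.restrictFunctor j) := fun U V j _ => inferInstance
  haveI : ∀ (R : CommRingCat.{u}), PreservesFiniteLimits (tilde.functor R) := inferInstance
  haveI : ∀ t : (Spec (CommRingCat.of A) : Scheme.{u}), DCoh.HasLpull (f.fiberι t) := fun t => KFlat.Stalk.hasLpull _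
  have hperf := H8Props.PseudoCoh.isPerfectMor_of_flat f
  obtain ⟨hf, a, ⟨adj⟩⟩ := exists_rightAdjoint f
  obtain ⟨O, hO⟩ := exists_unit_obj A
  have h4 := isDualizingSheaf_rightAdjoint A Y adj O hO d
    fun t => H4RSH.ProperLocal.dim_le_of_components fun Z hZ => (hd t Z hZ).le
  obtain ⟨e0⟩ := nonempty_iso_of_isDualizingSheaf A Y h4 hω
  let c : DEt.Compactification f :=
    { Xbar := Y, j := 𝟙 Y, fbar := f, isOpenImmersion := inferInstance, isProper := inferInstance,
      fac := Category.id_comp f }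
  haveI : DCoh.HasRpush c.fbar := ‹DCoh.HasRpush f›
  obtain ⟨eid⟩ := H4RepDual.nonempty_rd_id (a.obj O).obj
  obtain ⟨P⟩ := LeadBrown.Rel.nonempty_atPoint (f := f) c (hc := hf) (a := a) adj O hO y
  have hn : P.n = d := by
    haveI := H8Props.FieldDim.locallyOfFiniteType_fiberToSpec f (f y)
    exact_mod_cast P.dim.symm.trans (H8Props.FieldDim.localDim_eq_of_pure
      (k := (Spec (CommRingCat.of A)).residueField (f y)) (f.fiberToSpecResidueField (f y)) _ _ (hd (f y)))
  haveI := h.2
  have hdeg := (P.cm_single ⟨h.1, H4Goren.isCohenMacaulayLocalRing _⟩ (-(d : ℤ))).2 (by rw [hn])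
  have hnt : Nontrivial (ω.presheaf.stalk y) :=
    @Equiv.nontrivial _ _ (H06EGA9.stalkIso ((DerivedCategory.homologyFunctor Y.Modules (-(d : ℤ))).mapIso eid ≪≫ e0) y).toEquiv.symm hdeg
  obtain ⟨eO⟩ := hO
  obtain ⟨U, l, hl, m, hy, ⟨e⟩⟩ :=
    LeadBrown.Rel.exists_unit_of_isGorensteinAt (f := f) hperf c (hc := hf) (a := a) adj O eO h
  let s : (DCoh.inD U (Coh.structureModule U))⟦m⟧ ≅
      (DerivedCategory.singleFunctor U.Modules (-m)).obj (Coh.structureModule U) :=
    eqToIso (by rw [neg_neg]) ≪≫ KFlat.Stalk.singleShiftIso (Coh.structureModule U) (-m)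
  let E : (Scheme.Modules.restrictFunctor l).obj ω ≅
      DCoh.HD ((DerivedCategory.singleFunctor U.Modules (-m)).obj (Coh.structureModule U)) (-(d : ℤ)) :=
    (Scheme.Modules.restrictFunctor l).mapIso (e0.symm ≪≫ (DerivedCategory.homologyFunctor Y.Modules (-(d : ℤ))).mapIso eid.symm) ≪≫
      (H4DualSch.hdRestrict l _ _).symm ≪≫
      (DerivedCategory.homologyFunctor U.Modules (-(d : ℤ))).mapIso (e ≪≫ s)
  have hm : -m = -(d : ℤ) := by
    by_contra hne
    have hz : IsZero ((Scheme.Modules.restrictFunctor l).obj ω) :=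
      (KFlat.Stalk.isZero_hdSingle _ (-m) (-(d : ℤ)) (Ne.symm hne)).of_iso E
    obtain ⟨u, rfl⟩ := hy
    haveI : Subsingleton (((Scheme.Modules.restrictFunctor l).obj ω).presheaf.stalk u) :=
      AddCommGrpCat.subsingleton_of_isZero
        ((Scheme.Modules.toPresheaf U ⋙ TopCat.Presheaf.stalkFunctor AddCommGrpCat.{u} u).map_isZero hz)
    exact not_nontrivial _ ((H4DualSch.nontrivial_stalk_restrict_iff l ω u).2 hnt)
  let E' : (Scheme.Modules.restrictFunctor l).obj ω ≅ Coh.structureModule U :=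
    E ≪≫ eqToIso (by rw [hm]) ≪≫ KFlat.Stalk.hdSingle _ (-(d : ℤ))
  refine ⟨l.opensRange, hy, ⟨?_⟩⟩
  exact (Scheme.Modules.restrictFunctorCongr (f := l.opensRange.ι) (g := l.isoOpensRange.inv ≫ l) (by simp)).app ω ≪≫
    (Scheme.Modules.restrictFunctorComp l.isoOpensRange.inv l).app ω ≪≫
    (Scheme.Modules.restrictFunctor l.isoOpensRange.inv).mapIso E' ≪≫ Scheme.Modules.restrictUnitIso l.isoOpensRange.inv

include hd hω in
/-- Reflexivity when the fibres are Gorenstein in codimension one. -/
theorem isReflexive_omega (hS : RelCanon.IsSkMor (Y ↘ Spec (CommRingCat.of A)) 2)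
    (hG : ∀ y : Y, y ∉ RelCanon.gorLocus (Y ↘ Spec (CommRingCat.of A)) → 2 ≤ fibDim A Y y) :
    RefHull.IsReflexive ω := by
  haveI : Flat (Y ↘ Spec (CommRingCat.of A)) := hS.1
  haveI := isNoetherian_of_proper A Y
  haveI : LocallyOfFinitePresentation (Y ↘ Spec (CommRingCat.of A)) := inferInstance
  obtain ⟨hcoh, hdep⟩ := isCoh_and_two_le_depth A Y d hd hω
  let U : Y.Opens := ⟨_, S3617.result Y _ (Y ↘ Spec (CommRingCat.of A))⟩
  haveI := H4PushUniv.isIso_unit U ω hcoh fun y hy => hdep y (hG y hy)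
  haveI := H4PushUniv.isIso_unit U _ (H29Ref.isCoh_ddual ω hcoh) fun y hy => two_le_depth_ddual A Y hS ω hcoh y (hG y hy)
  haveI := H29Ref.isIso_restrict_of_bijective U (RefHull.bidualMap ω) fun x hx =>
    (H29Ref.isReflexiveAt_iff ω (H10Coh.isFP_of_isCoh ω hcoh) (H29Ref.isFP_dual ω hcoh) x).1
      (isReflexiveAt_of_invertibleAt hcoh.1 (invertibleAt_of_gorenstein A Y d hS.1 hd hω x hx))
  exact isIso_of_restrict U (RefHull.bidualMap ω)

end Groth.Agent.H4Rel
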