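import Groth.Agent.H4Rel.FibreFamily
import Groth.Agent.H11Ample.RelQuasiAffine
import Groth.Agent.H16Derived.BaseChange.RelFlatPull
import Groth.Agent.H1CAlg.DepthHom

/-!
# Base change of ℚ-Gorenstein families
-/

set_option autoImplicit false
set_option linter.style.haveILetI false
set_option linter.unusedSectionVars false
set_option backward.isDefEq.respectTransparency false
set_option maxHeartbeats 1000000
set_option synthInstance.maxHeartbeats 400000

universe u

open CategoryTheory CategoryTheory.Limits AlgebraicGeometry IsLocalRing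
open Groth.Agent.H16Derived

attribute [local instance] HasDerivedCategory.standard

namespace Groth.Agent.H4Rel

/-- Serre's condition `S₂` of a homomorphism sheaf. -/
theorem hasSk_two_homSh {X : Scheme.{u}} [IsLocallyNoetherian X] (F G : X.Modules) (hF : Coh.IsCoh F)
    (hG : Coh.IsCoh G) (x : X) (h : LocCoh.HasSk 2 (X.presheaf.stalk x) (G.presheaf.stalk x)) :
    LocCoh.HasSk 2 (X.presheaf.stalk x) ((RefHull.homSh F G).presheaf.stalk x) := by
  haveI := H06Mod.finite_stalk _ hF.2 x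
  haveI := H06Mod.finite_stalk _ hG.2 x
  let ev := LinearEquiv.ofBijective (RefHull.evalStalk F G x)
    (H29Ref.evalStalk_bijective F G (H10Coh.isFP_of_isCoh F hF) x)
  exact (H06EGA12.hasSk_iff_of_semilinear (RingHom.id _) Function.surjective_id ev.symm.toAddEquiv
    (fun r v => map_smul ev.symm r v) 2).2 (H1CAlg.hasSk_two_hom (F.presheaf.stalk x) h)

variable (A : Type u) [CommRing A] [IsNoetherianRing A] (Y : Scheme.{u}) [Y.Over (Spec (CommRingCat.of A))]
  [IsProper (Y ↘ Spec (CommRingCat.of A))] (d : ℕ)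
  (hd : Cyc.HasRelDim (Y ↘ Spec (CommRingCat.of A)) d)

include hd in
/-- A proper family of pure relative dimension has a relative dualizing sheaf. -/
theorem exists_isDualizingSheaf : ∃ ω : Y.Modules, RelCanon.IsDualizingSheaf A Y d ω := by
  let f := Y ↘ Spec (CommRingCat.of A)
  haveI := isNoetherian_of_proper A Y
  haveI := QCohD.hasRpush f
  haveI : CompactSpace Y := QuasiCompact.compactSpace_of_compactSpace f
  haveI : QuasiSeparatedSpace Y := quasiSeparatedSpace_of_quasiSeparated f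
  obtain ⟨hf, a, ⟨adj⟩⟩ := exists_rightAdjoint f
  obtain ⟨O, hO⟩ := exists_unit_obj A
  exact ⟨_, isDualizingSheaf_rightAdjoint A Y adj O hO d fun t =>
    H4RSH.ProperLocal.dim_le_of_components fun Z hZ => (hd t Z hZ).le⟩

variable {ω : Y.Modules} (hω : RelCanon.IsDualizingSheaf A Y d ω)
  (hS : RelCanon.IsSkMor (Y ↘ Spec (CommRingCat.of A)) 2)
  (hG : ∀ y : Y, y ∉ RelCanon.gorLocus (Y ↘ Spec (CommRingCat.of A)) → 2 ≤ fibDim A Y y)
  {B : Type u} [CommRing B] [IsNoetherianRing B] {g : Spec (CommRingCat.of B) ⟶ Spec (CommRingCat.of A)}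
  {Y' : Scheme.{u}} [Y'.Over (Spec (CommRingCat.of B))] {p : Y' ⟶ Y}
  (hp : IsPullback p (Y' ↘ Spec (CommRingCat.of B)) (Y ↘ Spec (CommRingCat.of A)) g)
  {ω' : Y'.Modules} (hω' : RelCanon.IsDualizingSheaf B Y' d ω')

include hd hω hS hG hp hω' in
/-- Invertible reflexive powers stay invertible. -/
theorem invertibleAt_bc (m : ℤ) (y' : Y') (h : RelCanon.InvertibleAt (RelCanon.refPowZ ω m) (p y')) :
    RelCanon.InvertibleAt (RelCanon.refPowZ ω' m) y' := by
  obtain ⟨V, hV, ⟨e⟩⟩ := h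
  obtain ⟨E⟩ := (nonempty_refPowZ_bc A Y d hd hω hS hG hp hω' m).1
  refine ⟨p ⁻¹ᵁ V, hV, ?_⟩
  obtain ⟨r₁⟩ := nonempty_restrict_ddual (p ⁻¹ᵁ V) ((Scheme.Modules.pullback p).obj (RelCanon.refPowZ ω m))
  obtain ⟨r₂⟩ := nonempty_restrict_pullback p V (RelCanon.refPowZ ω m)
  obtain ⟨r₃⟩ := nonempty_ddual_congr
    ⟨r₂ ≪≫ (Scheme.Modules.pullback (p ∣_ V)).mapIso e ≪≫ H25Theta.pO (p ∣_ V)⟩
  obtain ⟨r₄⟩ := nonempty_ddual_of_isInvertible
    (H11Ample.isInvertible_structureModule (X := ((p ⁻¹ᵁ V : Y'.Opens) : Scheme.{u})))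
  exact ⟨((Scheme.Modules.restrictFunctor (p ⁻¹ᵁ V).ι).mapIso E).symm ≪≫ r₁ ≪≫ r₃ ≪≫ r₄⟩

include hd hω hS hG hp hω' in
/-- An invertible reflexive power commutes with base change. -/
theorem nonempty_iso_bc_of_isInvertible (m : ℤ) (h : PicF.IsInvertible (RelCanon.refPowZ ω m)) :
    Nonempty (RelCanon.refPowZ ω' m ≅ (Scheme.Modules.pullback p).obj (RelCanon.refPowZ ω m)) :=
  ((nonempty_refPowZ_bc A Y d hd hω hS hG hp hω' m).2 (relSk_of_isInvertible A Y hS h)).map Iso.symm

include hS hd hG hp in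
/-- ℚ-Gorenstein fibres pass to base changes. -/
theorem isQGorWith_fiber_bc
    (hQ : ∀ (t : (Spec (CommRingCat.of A))) (ωt : ((Y ↘ Spec (CommRingCat.of A)).fiber t).Modules),
      @RelCanon.IsDualizingSheaf ((Spec (CommRingCat.of A)).residueField t) _ ((Y ↘ Spec (CommRingCat.of A)).fiber t)
        ⟨(Y ↘ Spec (CommRingCat.of A)).fiberToSpecResidueField t⟩ d ωt → RelCanon.IsQGorWith ωt)
    (t' : Spec (CommRingCat.of B)) (ωt' : ((Y' ↘ Spec (CommRingCat.of B)).fiber t').Modules)
    (h : @RelCanon.IsDualizingSheaf ((Spec (CommRingCat.of B)).residueField t') _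
        ((Y' ↘ Spec (CommRingCat.of B)).fiber t') ⟨(Y' ↘ Spec (CommRingCat.of B)).fiberToSpecResidueField t'⟩ d ωt') :
    RelCanon.IsQGorWith ωt' := by
  let f := Y ↘ Spec (CommRingCat.of A)
  let f' := Y' ↘ Spec (CommRingCat.of B)
  haveI : IsProper f' := MorphismProperty.of_isPullback (P := @IsProper) hp inferInstance
  let κ := (Spec (CommRingCat.of A)).residueField (g t')
  let K := (Spec (CommRingCat.of B)).residueField t'
  letI : (f.fiber (g t')).Over (Spec (CommRingCat.of κ)) := ⟨f.fiberToSpecResidueField (g t')⟩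
  letI : (f'.fiber t').Over (Spec (CommRingCat.of K)) := ⟨f'.fiberToSpecResidueField t'⟩
  haveI : IsProper (f.fiber (g t') ↘ Spec (CommRingCat.of κ)) :=
    MorphismProperty.pullback_snd (P := @IsProper) _ _ inferInstance
  haveI : IsProper (f'.fiber t' ↘ Spec (CommRingCat.of K)) :=
    MorphismProperty.pullback_snd (P := @IsProper) _ _ inferInstance
  have hdt := hasRelDim_of_isPullback
    (IsPullback.of_hasPullback f ((Spec (CommRingCat.of A)).fromSpecResidueField (g t'))) hd
  obtain ⟨ωt, hωt⟩ := exists_isDualizingSheaf κ (f.fiber (g t')) d hdt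
  have hGt : ∀ z : f.fiber (g t'), z ∉ RelCanon.gorLocus (f.fiber (g t') ↘ Spec (CommRingCat.of κ)) →
      2 ≤ fibDim κ (f.fiber (g t')) z := fun z hz =>
    le_of_le_of_eq (hG _ fun hc => hz (isGorensteinAt_fiber A Y (g t') z hc)) (fibDim_fiber A Y (g t') z).symm
  intro z'
  obtain ⟨r, hr, hinv⟩ := hQ (g t') ωt hωt ((isPullback_fiberToSpecResidueField_of_isPullback hp t').cone.fst z')
  exact ⟨r, hr, invertibleAt_bc κ (f.fiber (g t')) d hdt hωt (isSkMor_fiber A Y hS (g t')) hGt
    (isPullback_fiberToSpecResidueField_of_isPullback hp t') h r z' hinv⟩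

include hd hω hS hG hp hω' in
/-- Relatively `(S₂)` reflexive powers commute with base change and stay relatively `(S₂)`. -/
theorem relSk_refPowZ_bc (m : ℤ) (h2 : RelCanon.RelSk (Y ↘ Spec (CommRingCat.of A)) 2 (RelCanon.refPowZ ω m)) :
    RelCanon.RelSk (Y' ↘ Spec (CommRingCat.of B)) 2 (RelCanon.refPowZ ω' m) := by
  let f := Y ↘ Spec (CommRingCat.of A)
  let f' := Y' ↘ Spec (CommRingCat.of B)
  haveI : IsProper f' := MorphismProperty.of_isPullback (P := @IsProper) hp inferInstance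
  obtain ⟨E⟩ := (nonempty_refPowZ_bc A Y d hd hω hS hG hp hω' m).2 h2
  haveI : IsLocallyNoetherian Y := (isNoetherian_of_proper A Y).toIsLocallyNoetherian
  haveI : IsLocallyNoetherian Y' := (isNoetherian_of_proper B Y').toIsLocallyNoetherian
  intro y'
  refine ⟨H16Derived.BaseChange.isFlatOverAt_of_iso E (H06EGA9.isFlatOverAt_of_isPullback hp _ y' (h2 _).1), ?_⟩
  let K := (Spec (CommRingCat.of B)).residueField (f' y')
  let F := f'.fiber (f' y')
  letI : F.Over (Spec (CommRingCat.of K)) := ⟨f'.fiberToSpecResidueField (f' y')⟩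
  haveI : IsProper (F ↘ Spec (CommRingCat.of K)) :=
    MorphismProperty.pullback_snd (P := @IsProper) _ _ inferInstance
  have hd' := hasRelDim_of_isPullback hp hd
  have hsq : IsPullback (f'.fiberι (f' y')) (F ↘ Spec (CommRingCat.of K)) f'
      ((Spec (CommRingCat.of B)).fromSpecResidueField (f' y')) := IsPullback.of_hasPullback _ _
  have hdF := hasRelDim_of_isPullback hsq hd'
  obtain ⟨ωF, hωF⟩ := exists_isDualizingSheaf K F d hdF
  obtain ⟨e⟩ := (nonempty_refPowZ_bc A Y d hd hω hS hG (hsq.paste_horiz hp) hωF m).2 h2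
  haveI : IsLocallyNoetherian F := (isNoetherian_of_proper K F).toIsLocallyNoetherian
  obtain ⟨G, hG', eG⟩ := exists_refPowZ_eq (isCoh_and_two_le_depth K F d hdF hωF).1 m
  let z := f'.asFiber y'
  have hO : LocCoh.HasSk 2 (F.presheaf.stalk z) ((Coh.structureModule F).presheaf.stalk z) :=
    (isSkMor_bc A Y hp hS).2.2 y'
  have hG'' : LocCoh.HasSk 2 (F.presheaf.stalk z) ((RelCanon.refPowZ ωF m).presheaf.stalk z) := by
    rw [eG]
    exact hasSk_two_homSh (RefHull.dual G) (Coh.structureModule F) (H29Ref.isCoh_dual G hG')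
      (H10Coh.isCoh_structureModule' F) z hO
  let i : (Scheme.Modules.pullback (f'.fiberι (f' y'))).obj (RelCanon.refPowZ ω' m) ≅ RelCanon.refPowZ ωF m :=
    (Scheme.Modules.pullback (f'.fiberι (f' y'))).mapIso E.symm ≪≫
      (Scheme.Modules.pullbackComp (f'.fiberι (f' y')) p).app _ ≪≫ e
  let L := H06EGA9.stalkIso i z
  exact (H06EGA12.hasSk_iff_of_semilinear (RingHom.id _) Function.surjective_id L.symm.toAddEquiv
    (fun r v => map_smul L.symm r v) 2).2 hG''

end Groth.Agent.H4Rel
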