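import Groth.Agent.H4Rel.Root
import Groth.Agent.H4Rel.DepthThreeApply
import Groth.Agent.H16Derived.KFlat.StalkTensor
import Groth.Agent.H22Alg.NakaiGen

/-!
# Invertibility of the dualizing sheaf from an invertible power of exponent prime to the characteristic
-/

set_option autoImplicit false
set_option linter.style.haveILetI false
set_option linter.unusedSectionVars false
set_option backward.isDefEq.respectTransparency false
set_option maxHeartbeats 1000000
set_option synthInstance.maxHeartbeats 400000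

universe u

open CategoryTheory CategoryTheory.Limits AlgebraicGeometry IsLocalRing TensorProduct
open Groth.Agent.H16Derived

attribute [local instance] HasDerivedCategory.standard

namespace Groth.Agent.H4Rel

attribute [local instance] H06Mod.stalkAlgebra

section Pow

variable {B : Type u} [CommRing B] (M : Type u) [AddCommGroup M] [Module B M]

/-- Tensor powers of a module. -/
noncomputable def tPow : ℕ → ModuleCat.{u} B
  | 0 => ModuleCat.of B B
  | n + 1 => ModuleCat.of B ((tPow n : Type u) ⊗[B] M)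

variable {M}

/-- Tensor powers of an element. -/
noncomputable def tPowElem (m : M) : ∀ n, (tPow (B := B) M n : Type u)
  | 0 => (1 : B)
  | n + 1 => (tPowElem m n) ⊗ₜ[B] m

/-- Tensor powers of a linear form. -/
noncomputable def tPowForm (d : M →ₗ[B] B) : ∀ n, (tPow (B := B) M n : Type u) →ₗ[B] B
  | 0 => LinearMap.id
  | n + 1 => (TensorProduct.lid B B).toLinearMap ∘ₗ TensorProduct.map (tPowForm d n) d

theorem tPowForm_elem (d : M →ₗ[B] B) (m : M) : ∀ n, tPowForm d n (tPowElem m n) = d m ^ n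
  | 0 => (pow_zero _).symm
  | n + 1 => by
    show TensorProduct.lid B B (TensorProduct.map (tPowForm d n) d (tPowElem m n ⊗ₜ[B] m)) = _
    rw [TensorProduct.map_tmul, TensorProduct.lid_tmul, tPowForm_elem d m n, smul_eq_mul, pow_succ]

theorem tPowForm_smul (b : B) (d : M →ₗ[B] B) : ∀ n, tPowForm (b • d) n = b ^ n • tPowForm d n
  | 0 => by rw [pow_zero, one_smul]; rfl
  | n + 1 => by
    show (TensorProduct.lid B B).toLinearMap ∘ₗ TensorProduct.map (tPowForm (b • d) n) (b • d) = b ^ (n + 1) •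
      ((TensorProduct.lid B B).toLinearMap ∘ₗ TensorProduct.map (tPowForm d n) d)
    rw [tPowForm_smul b d n, TensorProduct.map_smul_left, TensorProduct.map_smul_right, smul_smul,
      LinearMap.comp_smul, pow_succ]

end Pow

/-- A localisation free of rank one gives a form with a value off the prime. -/
theorem exists_apply_notMem_loc {B : Type u} [CommRing B] [IsNoetherianRing B] {M : Type u} [AddCommGroup M]
    [Module B M] [Module.Finite B M] (q : Ideal B) [q.IsPrime] {Bq : Type u} [CommRing Bq] [Algebra B Bq]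
    [IsLocalization q.primeCompl Bq] {Mq : Type u} [AddCommGroup Mq] [Module B Mq] (sp : M →ₗ[B] Mq)
    [IsLocalizedModule q.primeCompl sp] (e : Mq ≃ₗ[B] Bq) :
    ∃ (d : M →ₗ[B] B) (m : M) (s : B), s ∉ q ∧ d m ∉ q ∧ ∀ v, s • v = d v • m := by
  haveI : Module.FinitePresentation B M := Module.finitePresentation_of_finite B M
  obtain ⟨h, m, s, hs, hsv⟩ := exists_rank_one q (Bq := Bq) sp e
  refine ⟨h, m, s, hs, fun hm => ?_, hsv⟩
  obtain ⟨⟨n, c⟩, hn⟩ := IsLocalizedModule.surj q.primeCompl sp (e.symm 1)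
  have h1 := congrArg e (congrArg sp (hsv n))
  rw [map_smul sp, map_smul sp, map_smul e, map_smul e] at h1
  rw [← hn, Submonoid.smul_def, map_smul e, e.apply_symm_apply] at h1
  have h2 := congrArg e (congrArg sp (hsv m))
  rw [map_smul sp, map_smul sp, map_smul e, map_smul e] at h2
  have hu : IsUnit (e (sp m)) := by
    rw [Algebra.smul_def, Algebra.smul_def, mul_one, Algebra.smul_def] at h1
    refine isUnit_of_mul_isUnit_right (x := algebraMap B Bq (h n)) ?_
    rw [← h1]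
    exact (IsLocalization.map_units Bq (⟨s, hs⟩ : q.primeCompl)).mul (IsLocalization.map_units Bq c)
  rw [Algebra.smul_def, Algebra.smul_def] at h2
  have h3 : IsUnit (algebraMap B Bq (h m)) := by
    rw [← hu.mul_right_cancel h2]
    exact IsLocalization.map_units Bq (⟨s, hs⟩ : q.primeCompl)
  exact (IsLocalization.AtPrime.isUnit_to_map_iff Bq q (h m)).1 h3 hm

/-- Stalks of tensor powers. -/
theorem nonempty_stalk_tensorPow {X : Scheme.{u}} (F : X.Modules) (x : X) :
    ∀ n, Nonempty ((CohB1.tensorPow F n).presheaf.stalk x ≃ₗ[X.presheaf.stalk x]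
      (tPow (B := X.presheaf.stalk x) (F.presheaf.stalk x) n : Type u))
  | 0 => ⟨(H29Ref.unitEquiv (X := X) x).symm⟩
  | n + 1 => by
    obtain ⟨e⟩ := nonempty_stalk_tensorPow F x n
    exact ⟨(show _ ≃ₗ[X.presheaf.stalk x] (CohB1.tensorPow F (n + 1)).presheaf.stalk x from
      H16Derived.KFlat.Stalk.stalkEquiv (CohB1.tensorPow F n) F x).symm.trans
      (TensorProduct.congr e (LinearEquiv.refl _ _))⟩

section Generic

variable (A : Type u) [CommRing A] [IsNoetherianRing A] (Y : Scheme.{u}) [Y.Over (Spec (CommRingCat.of A))]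
  [IsProper (Y ↘ Spec (CommRingCat.of A))]
  (hS : RelCanon.IsSkMor (Y ↘ Spec (CommRingCat.of A)) 2)
  (U V : Y.Opens) (hV : ∀ x ∈ V, x ∉ U → 2 ≤ fibDim A Y x)
  (t : Spec (CommRingCat.of A)) (z : (Y ↘ Spec (CommRingCat.of A)).fiber t)
  (hzV : ((Y ↘ Spec (CommRingCat.of A)).fiberι t) z ∈ V)
  {N : Y.Modules} (hcoh : Coh.IsCoh N) (hL : PicF.IsInvertible (N.restrict U.ι))
  {Nt : ((Y ↘ Spec (CommRingCat.of A)).fiber t).Modules} (hcoht : Coh.IsCoh Nt)
  (hdept : ∀ w : (Y ↘ Spec (CommRingCat.of A)).fiber t, w ∈ ((Y ↘ Spec (CommRingCat.of A)).fiberι t) ⁻¹ᵁ V →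
    w ∉ ((Y ↘ Spec (CommRingCat.of A)).fiberι t) ⁻¹ᵁ U →
    (2 : ℕ∞) ≤ LocCoh.depth (((Y ↘ Spec (CommRingCat.of A)).fiber t).presheaf.stalk w) (Nt.presheaf.stalk w))
  (hUt : Nonempty (((Scheme.Modules.pullback (((Y ↘ Spec (CommRingCat.of A)).fiberι t) ∣_ U)).obj (N.restrict U.ι)) ≅
    Nt.restrict (((Y ↘ Spec (CommRingCat.of A)).fiberι t) ⁻¹ᵁ U).ι))

include hS hV hzV hcoh hL hcoht hdept hUt in
/-- The fibre of the dual of the dual. -/
theorem nonempty_hom_dual_fibre :
    Nonempty ((((RefHull.dual N).presheaf.stalk (((Y ↘ Spec (CommRingCat.of A)).fiberι t) z))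
        →ₗ[Y.presheaf.stalk (((Y ↘ Spec (CommRingCat.of A)).fiberι t) z)]
          ((Y ↘ Spec (CommRingCat.of A)).fiber t).presheaf.stalk z)
      ≃ₗ[((Y ↘ Spec (CommRingCat.of A)).fiber t).presheaf.stalk z] Nt.presheaf.stalk z) := by
  let f := Y ↘ Spec (CommRingCat.of A)
  haveI := isNoetherian_of_proper A Y
  let K := (Spec (CommRingCat.of A)).residueField t
  letI : (f.fiber t).Over (Spec (CommRingCat.of K)) := ⟨f.fiberToSpecResidueField t⟩
  haveI : IsProper (f.fiber t ↘ Spec (CommRingCat.of K)) :=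
    MorphismProperty.pullback_snd (P := @IsProper) _ _ inferInstance
  haveI := isNoetherian_of_proper K (f.fiber t)
  let Ds := RefHull.dual N
  have hDs : Coh.IsCoh Ds := H29Ref.isCoh_dual N hcoh
  let P := (Scheme.Modules.pullback (f.fiberι t)).obj Ds
  have hP : Coh.IsCoh P := isCohPull _ hDs
  let E := RefHull.dual P
  have hE : Coh.IsCoh E := H29Ref.isCoh_dual P hP
  let U' := f.fiberι t ⁻¹ᵁ U
  let V' := f.fiberι t ⁻¹ᵁ V
  obtain ⟨eV⟩ : Nonempty (E.restrict V'.ι ≅ Nt.restrict V'.ι) := by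
    refine nonempty_restrict_iso_of_restrict U' V' hE hcoht (fun w hw hw' => ?_)
      hdept ?_
    · refine two_le_depth_homSh _ _ hP (H10Coh.isCoh_structureModule' _) w ?_
      rw [← H4Depth.depth_congr (H29Ref.unitEquiv (X := f.fiber t) w)]
      exact two_le_depth_fiber_stalk A Y hS t w (hV _ hw hw')
    · obtain ⟨e₁⟩ := hUt
      obtain ⟨a⟩ := nonempty_restrict_dual U' P
      obtain ⟨b⟩ := nonempty_restrict_pullback (f.fiberι t) U Ds
      obtain ⟨c⟩ := nonempty_restrict_dual U N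
      obtain ⟨a'⟩ := nonempty_dual_congr (b ≪≫ (Scheme.Modules.pullback (f.fiberι t ∣_ U)).mapIso c)
      obtain ⟨q⟩ := H11Div.nonempty_pullback_dual (f.fiberι t ∣_ U) (H8Props.DivisorSection.isInvertible_dual hL)
      obtain ⟨r⟩ := nonempty_ddual_of_isInvertible hL
      exact ⟨a ≪≫ a' ≪≫ q.symm ≪≫ (Scheme.Modules.pullback (f.fiberι t ∣_ U)).mapIso r ≪≫ e₁⟩
  let C := (f.fiber t).presheaf.stalk z
  let uC := H29Ref.unitEquiv (X := f.fiber t) z
  let EP := LinearEquiv.ofBijective _ (H06Mod.pullStalkLin_bijective (f.fiberι t) Ds z)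
  let evC := LinearEquiv.ofBijective (RefHull.evalStalk P (Coh.structureModule (f.fiber t)) z)
    (H29Ref.evalStalk_bijective P (Coh.structureModule (f.fiber t)) (H10Coh.isFP_of_isCoh P hP) z)
  let ΨC : E.presheaf.stalk z ≃ₗ[C] (Ds.presheaf.stalk (f.fiberι t z) →ₗ[Y.presheaf.stalk (f.fiberι t z)] C) :=
    evC.trans ((LinearEquiv.congrLeft _ C EP.symm).trans
      ((LinearEquiv.congrRight uC.symm).trans (LinearMap.liftBaseChangeEquiv C).symm))
  obtain ⟨eEt⟩ := nonempty_stalk_equiv_of_restrict hE hcoht eV (show z ∈ V' from hzV)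
  exact ⟨ΨC.symm.trans eEt⟩

include hS hV hzV hcoh hL hcoht hdept hUt in
set_option maxHeartbeats 4000000 in
/-- The dualizing sheaf is invertible where that of the fibre is, if a suitable power is. -/
theorem invertibleAt_of_root' (hdep : ∀ x ∈ V, x ∉ U → (2 : ℕ∞) ≤ LocCoh.depth (Y.presheaf.stalk x) (N.presheaf.stalk x))
    (hinvt : RelCanon.InvertibleAt Nt z) (k : ℕ)
    (hk : ((k + 1 : ℕ) : (Spec (CommRingCat.of A)).residueField t) ≠ 0)
    (hr : RelCanon.InvertibleAt (RefHull.ddual (CohB1.tensorPow N (k + 1))) (((Y ↘ Spec (CommRingCat.of A)).fiberι t) z)) :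
    RelCanon.InvertibleAt N (((Y ↘ Spec (CommRingCat.of A)).fiberι t) z) := by
  let f := Y ↘ Spec (CommRingCat.of A)
  haveI : Flat f := hS.1
  haveI := isNoetherian_of_proper A Y
  haveI : LocallyOfFinitePresentation f := inferInstance
  haveI := H8Props.FieldDim.locallyOfFiniteType_fiberToSpec f t
  haveI : IsLocallyNoetherian (f.fiber t) := LocallyOfFiniteType.isLocallyNoetherian (f.fiberToSpecResidueField t)
  let y := f.fiberι t z
  by_cases hyU : y ∈ U
  · exact invertibleAt_of_isInvertible_restrict hL hyU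
  -- `N` is its bidual near `y`
  obtain ⟨eV⟩ : Nonempty (N.restrict V.ι ≅ (RefHull.ddual N).restrict V.ι) := by
    refine nonempty_restrict_iso_of_restrict U V hcoh (H29Ref.isCoh_ddual N hcoh)
      hdep (fun x hx hxU => two_le_depth_ddual A Y hS N hcoh x (hV x hx hxU)) ?_
    obtain ⟨e⟩ := nonempty_restrict_ddual U N
    obtain ⟨e'⟩ := nonempty_ddual_of_isInvertible hL
    exact ⟨(e ≪≫ e').symm⟩
  refine invertibleAt_of_restrict_iso ⟨eV⟩ hzV ?_
  let B := Y.presheaf.stalk y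
  let A₀ := (Spec (CommRingCat.of A)).presheaf.stalk (f y)
  letI : Algebra A₀ B := (f.stalkMap y).hom.toAlgebra
  haveI : IsLocalHom (algebraMap A₀ B) := inferInstanceAs (IsLocalHom (f.stalkMap y).hom)
  haveI : Module.Flat A₀ B := Flat.stalkMap f y
  let C := (f.fiber t).presheaf.stalk z
  have hs : Function.Surjective (algebraMap B C) := (f.fiberι t).stalkMap_surjective z
  have hkC : RingHom.ker (algebraMap B C) = (maximalIdeal A₀).map (algebraMap A₀ B) := ker_fiberι_stalkMap f t z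
  haveI : IsLocalHom (algebraMap B C) := inferInstanceAs (IsLocalHom ((f.fiberι t).stalkMap z).hom)
  let M := N.presheaf.stalk y
  haveI : Module.Finite B M := H06Mod.finite_stalk _ hcoh.2 y
  let D := M →ₗ[B] B
  haveI : Module.Finite B D := inferInstance
  let uB := H29Ref.unitEquiv (X := Y) y
  let evD : (RefHull.dual N).presheaf.stalk y ≃ₗ[B] D :=
    (LinearEquiv.ofBijective (RefHull.evalStalk N (Coh.structureModule Y) y)
      (H29Ref.evalStalk_bijective N (Coh.structureModule Y) (H10Coh.isFP_of_isCoh N hcoh) y)).trans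
      (LinearEquiv.congrRight uB.symm)
  -- the unit
  have hty : f y = t := (f.range_fiberι t).subset (Set.mem_range_self z)
  have hunit : IsUnit ((k : B) + 1) := by
    have h : ∀ s, f y = s → ((k + 1 : ℕ) : (Spec (CommRingCat.of A)).residueField s) ≠ 0 →
        IsUnit ((k + 1 : ℕ) : A₀) := fun s hs' hne => by
      subst hs'
      refine (residue_ne_zero_iff_isUnit _).1 fun h0 => hne ?_
      rw [← map_natCast (residue A₀)]
      exact h0
    have := (h t hty hk).map (algebraMap A₀ B)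
    rwa [map_natCast, Nat.cast_add, Nat.cast_one] at this
  -- the ideal of the non-Gorenstein generisations
  let J := PrimeSpectrum.vanishingIdeal (Y.fromSpecStalk y ⁻¹' (U : Set Y)ᶜ)
  have hJ1 : ∀ q : PrimeSpectrum B, ¬ J ≤ q.asIdeal → Y.fromSpecStalk y q ∈ U := fun q hq => by
    by_contra hc
    exact hq fun a ha => (PrimeSpectrum.mem_vanishingIdeal _ _).1 ha q hc
  have hJ2 : ∀ q : PrimeSpectrum B, J ≤ q.asIdeal → Y.fromSpecStalk y q ∉ U := fun q hq => by
    have h : q ∈ PrimeSpectrum.zeroLocus (J : Set B) := hq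
    have hc : IsClosed (Y.fromSpecStalk y ⁻¹' (U : Set Y)ᶜ : Set (PrimeSpectrum B)) :=
      U.2.isClosed_compl.preimage (Y.fromSpecStalk y).continuous
    rw [PrimeSpectrum.zeroLocus_vanishingIdeal_eq_closure] at h
    exact hc.closure_subset h
  have hJm : J ≤ maximalIdeal B := fun a ha => by
    have hc : Y.fromSpecStalk y (closedPoint B) ∉ U := by rw [Scheme.fromSpecStalk_closedPoint]; exact hyU
    exact (PrimeSpectrum.mem_vanishingIdeal _ _).1 ha (closedPoint B) hc
  have hJC : J.map (algebraMap B C) ≠ ⊤ := ne_top_of_le_ne_top (maximalIdeal.isMaximal C).ne_top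
    (Ideal.map_le_iff_le_comap.2 fun a ha => map_nonunit (algebraMap B C) a (hJm ha))
  have hgen : ∀ p : PrimeSpectrum C, J.map (algebraMap B C) ≤ p.asIdeal →
      (f.fiber t).fromSpecStalk z p ⤳ z ∧ f.fiberι t ((f.fiber t).fromSpecStalk z p) ∉ U := by
    intro p hp
    refine ⟨H7CDiv.fromSpecStalk_specializes p, ?_⟩
    rw [← Scheme.Hom.comp_apply, ← Scheme.SpecMap_stalkMap_fromSpecStalk, Scheme.Hom.comp_apply]
    exact hJ2 _ (Ideal.map_le_iff_le_comap.1 hp)
  have hP1 : Lift.powR (A := A₀) (B := B) B 1 = RingHom.ker (algebraMap B C) := by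
    rw [hkC, Lift.powR, pow_one, smul_eq_mul, Ideal.mul_top]
  let eC : Lift.QB B A₀ 1 ≃ₗ[B] C := (Submodule.quotEquivOfEq _ _ hP1).trans
    (Ideal.quotientKerAlgEquivOfSurjective (f := Algebra.ofId B C) hs).toLinearEquiv
  obtain ⟨a, b, ha, hb, hab⟩ : ∃ a b : B, a ∈ J ∧ b ∈ J ∧ Lift.Reg2 a b (Lift.QB B A₀ 1) := by
    obtain ⟨a, b, ha, hb, hab⟩ := exists_reg2_stalk (H10Coh.isCoh_structureModule' (f.fiber t)) z _ hJC
      fun p hp => by
        rw [H4Depth.depth_congr (H29Ref.unitEquiv (X := f.fiber t) _).symm]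
        exact two_le_depth_fiber_stalk A Y hS t _
          (hV _ (((hgen p hp).1.map (f.fiberι t).continuous).mem_open V.2 hzV) (hgen p hp).2)
    obtain ⟨a, ha', rfl⟩ := (Ideal.mem_map_iff_of_surjective _ hs).1 ha
    obtain ⟨b, hb', rfl⟩ := (Ideal.mem_map_iff_of_surjective _ hs).1 hb
    have hC := hab.congr (H29Ref.unitEquiv (X := f.fiber t) z).symm
    refine ⟨a, b, ha', hb', Lift.Reg2.congr ⟨fun v v' hv => hC.reg ?_, fun v v' hv => ?_⟩ eC.symm⟩
    · show algebraMap B C a • v = algebraMap B C a • v'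
      rwa [algebraMap_smul, algebraMap_smul]
    · obtain ⟨c, hc⟩ := hC.reg2 v v' (by rw [algebraMap_smul, algebraMap_smul, hv])
      exact ⟨c, by rw [hc, algebraMap_smul]⟩
  have hBa : IsSMulRegular B a := (Lift.reg2_self hab).reg
  -- local rank one
  have hloc : ∀ q : PrimeSpectrum B, ¬ J ≤ q.asIdeal →
      ∃ (δ : M →ₗ[B] B) (m : M) (s : B), s ∉ q.asIdeal ∧ δ m ∉ q.asIdeal ∧ ∀ v, s • v = δ v • m := fun q hq => by
    let η := Y.fromSpecStalk y q
    have hηy : η ⤳ y := H7CDiv.fromSpecStalk_specializes q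
    obtain ⟨e⟩ := nonempty_stalk_equiv_of_invertibleAt hcoh.1 (invertibleAt_of_isInvertible_restrict hL (hJ1 q hq))
    letI := (Y.presheaf.stalkSpecializes hηy).hom.toAlgebra
    letI := Module.compHom (N.presheaf.stalk η) (Y.presheaf.stalkSpecializes hηy).hom
    haveI : IsScalarTower B (Y.presheaf.stalk η) (N.presheaf.stalk η) := .of_algebraMap_smul fun _ _ => rfl
    haveI := H7CDiv.isLocalization_stalkSpecializes hηy
    haveI := isLocalizedModule_specLin N hcoh.1 hηy
    obtain ⟨δ, m, s, h1, h2, h3⟩ := exists_apply_notMem_loc (H7CDiv.primeOf hηy).asIdeal (Bq := Y.presheaf.stalk η)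
      (specLin N hηy) (e.restrictScalars B)
    rw [H7CDiv.primeOf_fromSpecStalk q hηy] at h1 h2
    exact ⟨δ, m, s, h1, h2, h3⟩
  have hid : ∀ (δ δ' : D) (m : M), δ m • δ' = δ' m • δ := by
    intro δ δ' m
    refine LinearMap.ext fun m' => sub_eq_zero.1 (Lift.eq_zero_of_isTors (J := J) ha hBa (isTors_of_forall J _
      fun q hq => ?_))
    obtain ⟨ψ, m₀, s, hs', -, hsv⟩ := hloc q hq
    refine ⟨s * s, fun h => (q.2.mem_or_mem h).elim hs' hs', ?_⟩
    have e1 : ∀ (η : D) (v : M), s * η v = ψ v * η m₀ := fun η v => by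
      rw [← smul_eq_mul, ← map_smul, hsv, map_smul, smul_eq_mul]
    show s * s * (δ m * δ' m' - δ' m * δ m') = 0
    linear_combination (s * δ' m') * e1 δ m + (ψ m * δ m₀) * e1 δ' m' - (s * δ m') * e1 δ' m -
      (ψ m * δ' m₀) * e1 δ m'
  have hfac : Lift.Fac J D := fac_of_rank_one J fun q hq => by
    obtain ⟨δ, m, s, -, h2, -⟩ := hloc q hq
    exact ⟨LinearMap.applyₗ m, δ, δ m, h2, fun v => hid δ v m⟩
  -- the two evaluations
  have havoid : ∀ (N : Type u) [AddCommGroup N] [Module B N] [Module.Finite B N],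
      (∀ v : N, (∀ g ∈ J, g • v = 0) → v = 0) →
        ∃ (δ : D) (m : M), IsSMulRegular N (δ m) := by
    intro N _ _ _ hN
    have hfin := associatedPrimes.finite B N
    obtain ⟨δ, m, hm⟩ := Lift.exists_apply_notMem (B := B) (M := D) (N := M) LinearMap.id hfin.toFinset
      (fun p hp => (hfin.mem_toFinset.1 hp).1)
      (fun p hp => by
        have hass := hfin.mem_toFinset.1 hp
        have hJp : ¬ J ≤ p := fun hJp => by
          obtain ⟨hp', v, hv⟩ := isAssociatedPrime_iff.1 hass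
          have hv0 : v = 0 := hN v fun g hg => by
            have := hv.le (hJp hg)
            simpa using this
          exact hp'.ne_top (by rw [hv, hv0]; ext; simp)
        obtain ⟨δ, m, s, -, h2, -⟩ := hloc ⟨p, hass.1⟩ hJp
        exact ⟨δ, m, h2⟩)
    refine ⟨δ, m, ?_⟩
    have h := biUnion_associatedPrimes_eq_compl_regular B N
    by_contra hc
    have : δ m ∈ ⋃ p ∈ associatedPrimes B N, (p : Set B) := by rw [h]; exact hc
    obtain ⟨p, hp, hmp⟩ := Set.mem_iUnion₂.1 this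
    exact hm p (hfin.mem_toFinset.2 hp) hmp
  have hQ1 : ∀ v : Lift.QB B A₀ 1, (∀ g ∈ J, g • v = 0) → v = 0 := fun v hv =>
    hab.reg (show a • v = a • 0 by rw [hv a ha, smul_zero])
  obtain ⟨δ, m, hm⟩ := havoid (Lift.QB B A₀ 1) hQ1
  let m₁ := a • m
  have hx : δ m₁ ∈ J := by rw [map_smul]; exact Ideal.mul_mem_right _ _ ha
  have hxreg : IsSMulRegular (Lift.QB B A₀ 1) (δ m₁) := by
    rw [map_smul]
    exact hab.reg.mul hm
  obtain ⟨δ', m', hm'⟩ := havoid (QuotSMulTop (δ m₁) (Lift.QB B A₀ 1)) fun v hv => by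
    obtain ⟨v, rfl⟩ := Submodule.Quotient.mk_surjective _ v
    have h : ∀ g ∈ J, ∃ w, δ m₁ • w = g • v := fun g hg => by
      have := hv g hg
      rw [← Submodule.Quotient.mk_smul, Submodule.Quotient.mk_eq_zero,
        Submodule.mem_smul_pointwise_iff_exists] at this
      obtain ⟨w, -, hw⟩ := this
      exact ⟨w, hw⟩
    obtain ⟨w, hw⟩ := h a ha
    obtain ⟨w', hw'⟩ := h b hb
    obtain ⟨c, hc⟩ := hab.reg2 w w' (hxreg (show δ m₁ • b • w = δ m₁ • a • w' by
      rw [smul_comm (δ m₁) b, smul_comm (δ m₁) a, hw, hw', smul_comm]))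
    rw [Submodule.Quotient.mk_eq_zero]
    refine Submodule.mem_smul_pointwise_iff_exists _ _ _ |>.2 ⟨c, trivial, hab.reg ?_⟩
    show a • δ m₁ • c = a • v
    rw [smul_comm, ← hc, hw]
  have hreg : Lift.Reg2 (δ m₁) (δ' m') (Lift.QB B A₀ 1) := by
    refine ⟨hxreg, fun v w hvw => ?_⟩
    have h0 : (Submodule.Quotient.mk v : QuotSMulTop (δ m₁) (Lift.QB B A₀ 1)) = 0 := by
      refine hm' ?_
      show δ' m' • (Submodule.Quotient.mk v : QuotSMulTop (δ m₁) (Lift.QB B A₀ 1)) = δ' m' • 0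
      rw [smul_zero, ← Submodule.Quotient.mk_smul, hvw, Submodule.Quotient.mk_eq_zero]
      exact Submodule.smul_mem_pointwise_smul _ _ _ trivial
    rw [Submodule.Quotient.mk_eq_zero, Submodule.mem_smul_pointwise_iff_exists] at h0
    obtain ⟨c, -, hc⟩ := h0
    exact ⟨c, hc.symm⟩
  -- the generator on the fibre
  obtain ⟨L⟩ := nonempty_hom_dual_fibre A Y hS U V hV t z hzV hcoh hL hcoht hdept hUt
  obtain ⟨et⟩ := nonempty_stalk_equiv_of_invertibleAt hcoht.1 hinvt
  let Ψ : (D →ₗ[B] C) ≃ₗ[C] C := ((LinearEquiv.congrLeft C C evD.symm).trans L).trans et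
  obtain ⟨e, he⟩ : ∃ e : D →ₗ[B] Lift.QB B A₀ 1, ∀ θ, ∃ c : B, θ = c • e := by
    refine ⟨eC.symm.toLinearMap ∘ₗ Ψ.symm 1, fun θ => ?_⟩
    obtain ⟨c, hc⟩ := hs (Ψ (eC.toLinearMap ∘ₗ θ))
    refine ⟨c, LinearMap.ext fun v => eC.injective ?_⟩
    have h : eC.toLinearMap ∘ₗ θ = algebraMap B C c • Ψ.symm 1 := Ψ.injective (by
      rw [map_smul, Ψ.apply_symm_apply, hc, smul_eq_mul, mul_one])
    have := LinearMap.congr_fun h v
    simp only [LinearMap.comp_apply, LinearEquiv.coe_coe, LinearMap.smul_apply, algebraMap_smul] at this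
    simp only [LinearMap.smul_apply, LinearMap.comp_apply, LinearEquiv.coe_coe, map_smul, eC.apply_symm_apply, this]
  -- the generator of the power
  obtain ⟨eR⟩ := nonempty_stalk_equiv_of_invertibleAt (X := Y)
    (F := RefHull.ddual (CohB1.tensorPow N (k + 1))) (H29Ref.isCoh_ddual _ (isCoh_tensorPow hcoh (k + 1))).1 hr
  obtain ⟨eT⟩ := nonempty_stalk_tensorPow N y (k + 1)
  let T := (tPow (B := B) M (k + 1) : Type u)
  let G := CohB1.tensorPow N (k + 1)
  have hG : Coh.IsCoh G := isCoh_tensorPow hcoh (k + 1)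
  let eP : ((T →ₗ[B] B) →ₗ[B] B) ≃ₗ[B] B :=
    ((((LinearEquiv.ofBijective (RefHull.evalStalk (RefHull.dual G) (Coh.structureModule Y) y)
      (H29Ref.evalStalk_bijective (RefHull.dual G) (Coh.structureModule Y)
        (H10Coh.isFP_of_isCoh _ (H29Ref.isCoh_dual G hG)) y)).trans (LinearEquiv.congrRight uB.symm)).trans
      (LinearEquiv.congrLeft B B
        (((LinearEquiv.ofBijective (RefHull.evalStalk G (Coh.structureModule Y) y)
          (H29Ref.evalStalk_bijective G (Coh.structureModule Y) (H10Coh.isFP_of_isCoh G hG) y)).trans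
          (LinearEquiv.congrRight uB.symm)).trans (LinearEquiv.congrLeft B B eT)))).symm).trans eR
  let π : D → B := fun v => eP.symm 1 (tPowForm v (k + 1))
  have hπ : ∀ (c : B) v, π (c • v) = c ^ (k + 1) * π v := fun c v => by
    show eP.symm 1 (tPowForm (c • v) (k + 1)) = _
    rw [tPowForm_smul, map_smul, smul_eq_mul]
  have hρ : ∀ (v : D) (n : M), π v ∣ v n ^ (k + 1) := fun v n => by
    let Φ : (T →ₗ[B] B) →ₗ[B] B := LinearMap.applyₗ (tPowElem n (k + 1))
    refine ⟨eP Φ, ?_⟩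
    have h : Φ = eP Φ • eP.symm 1 := eP.injective (by rw [map_smul, eP.apply_symm_apply, smul_eq_mul, mul_one])
    have := LinearMap.congr_fun h (tPowForm v (k + 1))
    rw [LinearMap.smul_apply, smul_eq_mul, mul_comm] at this
    rw [← tPowForm_elem v n (k + 1)]
    exact this
  have hsurj := Lift.trans_surjective_of_root (A := A₀) (φ := LinearMap.applyₗ m₁) (ψ := LinearMap.applyₗ m')
    (d := δ) (d' := δ') (hJm hx) hreg (fun v => hid δ v m₁) (fun v => hid δ' v m') e he k hunit π hπ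
    (hρ δ m₁) (hρ δ' m')
  obtain ⟨hflat, hsur, hker⟩ := Lift.flat_of_hom_surjective hfac ha hb hab hsurj
  let φ := (LinearEquiv.congrRight eC).toLinearMap ∘ₗ Lift.red (B := B) A₀ D 1
  have hφs : Function.Surjective φ := (LinearEquiv.congrRight eC).surjective.comp hsur
  have hφk : ∀ v, φ v = 0 ↔ v ∈ Lift.powR (A := A₀) (B := B) (D →ₗ[B] B) 1 := fun v => by
    rw [← hker v]
    exact (LinearEquiv.congrRight eC).map_eq_zero_iff
  let Φ : C ⊗[B] (D →ₗ[B] B) ≃ₗ[B] (D →ₗ[B] C) :=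
    (Lift.fibreQuot (A := A₀) hs hkC).trans
      ((Submodule.quotEquivOfEq _ _ (Submodule.ext fun v => (hφk v).symm)).trans
        (LinearMap.quotKerEquivOfSurjective φ hφs))
  obtain ⟨n, j, hj⟩ := Lift.exists_embed_dual (B := B) (D := D)
  haveI : Module.Finite B (D →ₗ[B] B) := Module.Finite.of_injective j hj
  obtain ⟨bs⟩ := basis_of_fibre_equiv A₀ B (D →ₗ[B] B) C hs hkC
    ((LinearEquiv.extendScalarsOfSurjective hs Φ).trans Ψ)
  let eDD : (RefHull.ddual N).presheaf.stalk y ≃ₗ[B] (D →ₗ[B] B) :=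
    ((LinearEquiv.ofBijective (RefHull.evalStalk (RefHull.dual N) (Coh.structureModule Y) y)
      (H29Ref.evalStalk_bijective (RefHull.dual N) (Coh.structureModule Y)
        (H10Coh.isFP_of_isCoh _ (H29Ref.isCoh_dual N hcoh)) y)).trans
      (LinearEquiv.congrRight uB.symm)).trans (LinearEquiv.congrLeft B B evD)
  exact H29Ref.exists_iso_of_isFreeOfRankNear_one _ _
    (H8Props.FunDescent.isFreeOfRankNear_of_stalkFree_of_isFP _
      (H10Coh.isFP_of_isCoh _ (H29Ref.isCoh_ddual N hcoh)) ⟨bs.map eDD.symm⟩)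

end Generic

section Powers

variable (A : Type u) [CommRing A] [IsNoetherianRing A] (Y : Scheme.{u}) [Y.Over (Spec (CommRingCat.of A))]
  [IsProper (Y ↘ Spec (CommRingCat.of A))] (d : ℕ)
  (hd : Cyc.HasRelDim (Y ↘ Spec (CommRingCat.of A)) d) {ω : Y.Modules}
  (hω : RelCanon.IsDualizingSheaf A Y d ω)
  (hS : RelCanon.IsSkMor (Y ↘ Spec (CommRingCat.of A)) 2)
  (V : Y.Opens) (hV : ∀ x ∈ V, x ∉ RelCanon.gorLocus (Y ↘ Spec (CommRingCat.of A)) → 2 ≤ fibDim A Y x)
  (t : Spec (CommRingCat.of A)) (z : (Y ↘ Spec (CommRingCat.of A)).fiber t)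
  (hzV : ((Y ↘ Spec (CommRingCat.of A)).fiberι t) z ∈ V)
  {ωt : ((Y ↘ Spec (CommRingCat.of A)).fiber t).Modules}
  (hωt : @RelCanon.IsDualizingSheaf ((Spec (CommRingCat.of A)).residueField t) _
    ((Y ↘ Spec (CommRingCat.of A)).fiber t) ⟨(Y ↘ Spec (CommRingCat.of A)).fiberToSpecResidueField t⟩ d ωt)

include hd hω hS hV hzV hωt in
/-- A reflexive power is invertible where the one of the fibre is, if a suitable multiple is. -/
theorem invertibleAt_refPowZ_of_root (r k : ℕ) (hinvt : RelCanon.InvertibleAt (RelCanon.refPowZ ωt r) z)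
    (hk : ((k + 1 : ℕ) : (Spec (CommRingCat.of A)).residueField t) ≠ 0)
    (hr : RelCanon.InvertibleAt (RelCanon.refPowZ ω ((r * (k + 1) : ℕ) : ℤ))
      (((Y ↘ Spec (CommRingCat.of A)).fiberι t) z)) :
    RelCanon.InvertibleAt (RelCanon.refPowZ ω r) (((Y ↘ Spec (CommRingCat.of A)).fiberι t) z) := by
  let f := Y ↘ Spec (CommRingCat.of A)
  haveI : Flat f := hS.1
  haveI := isNoetherian_of_proper A Y
  haveI : LocallyOfFinitePresentation f := inferInstance
  let K := (Spec (CommRingCat.of A)).residueField t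
  letI : (f.fiber t).Over (Spec (CommRingCat.of K)) := ⟨f.fiberToSpecResidueField t⟩
  haveI : IsProper (f.fiber t ↘ Spec (CommRingCat.of K)) :=
    MorphismProperty.pullback_snd (P := @IsProper) _ _ inferInstance
  haveI := isNoetherian_of_proper K (f.fiber t)
  have hsq : IsPullback (f.fiberι t) (f.fiber t ↘ Spec (CommRingCat.of K)) f
      ((Spec (CommRingCat.of A)).fromSpecResidueField t) := IsPullback.of_hasPullback _ _
  let U : Y.Opens := ⟨_, S3617.result Y _ f⟩
  have hL : PicF.IsInvertible (ω.restrict U.ι) := isInvertible_restrict_gor A Y d hd hω hS.1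
  obtain ⟨hcoh, -⟩ := isCoh_and_two_le_depth A Y d hd hω
  obtain ⟨G, hG, eG⟩ := exists_refPowZ_eq hcoh (r : ℤ)
  obtain ⟨Gt, hGt, eGt⟩ := exists_refPowZ_eq
    (isCoh_and_two_le_depth K (f.fiber t) d (hasRelDim_of_isPullback hsq hd) hωt).1 (r : ℤ)
  have hN : Coh.IsCoh (RelCanon.refPowZ ω r) := eG.symm ▸ H29Ref.isCoh_ddual G hG
  have hNd : ∀ x ∈ V, x ∉ U → (2 : ℕ∞) ≤ LocCoh.depth (Y.presheaf.stalk x)
      ((RelCanon.refPowZ ω r).presheaf.stalk x) := fun x hx hxU => by
    rw [eG]; exact two_le_depth_ddual A Y hS G hG x (hV x hx hxU)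
  obtain ⟨e₆⟩ := nonempty_restrict_refPowZ U ω (r : ℤ)
  have hNU : PicF.IsInvertible ((RelCanon.refPowZ ω r).restrict U.ι) :=
    H11Tilde.isInvertible_of_iso e₆.symm (isInvertible_refPowZ hL r)
  refine invertibleAt_of_root' A Y hS U V hV t z hzV hN hNU (eGt.symm ▸ H29Ref.isCoh_ddual Gt hGt)
    (fun w hw hw' => by rw [eGt]; exact two_le_depth_ddual' Gt hGt w (two_le_depth_fiber_stalk A Y hS t w (hV _ hw hw')))
    ?_ hNd hinvt k hk ?_
  · have hCMU : ∀ y ∈ U, MoreMor.IsCMAt f y := fun y hy => by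
      haveI := (show Dual3.IsGorensteinAt f y from hy).2
      exact ⟨(show Dual3.IsGorensteinAt f y from hy).1, H4Goren.isCohenMacaulayLocalRing _⟩
    obtain ⟨e₁⟩ := nonempty_restrict_bc A Y d hS.1 hd hω hsq U hCMU hωt
    obtain ⟨e₂⟩ := nonempty_restrict_pullback (f.fiberι t) U ω
    obtain ⟨e₃⟩ := nonempty_pullback_refPowZ (f.fiberι t ∣_ U) hL (r : ℤ)
    obtain ⟨e₄⟩ := nonempty_refPowZ_congr (e₂.symm ≪≫ e₁) (r : ℤ)
    obtain ⟨e₅⟩ := nonempty_restrict_refPowZ (f.fiberι t ⁻¹ᵁ U) ωt (r : ℤ)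
    exact ⟨(Scheme.Modules.pullback (f.fiberι t ∣_ U)).mapIso e₆ ≪≫ e₃ ≪≫ e₄ ≪≫ e₅.symm⟩
  · let T := CohB1.tensorPow (RelCanon.refPowZ ω r) (k + 1)
    have hT : Coh.IsCoh T := isCoh_tensorPow hN (k + 1)
    obtain ⟨G', hG', eG'⟩ := exists_refPowZ_eq hcoh ((r * (k + 1) : ℕ) : ℤ)
    obtain ⟨eV⟩ : Nonempty ((RefHull.ddual T).restrict V.ι ≅
        (RelCanon.refPowZ ω ((r * (k + 1) : ℕ) : ℤ)).restrict V.ι) := by
      refine nonempty_restrict_iso_of_restrict U V (H29Ref.isCoh_ddual T hT) (eG'.symm ▸ H29Ref.isCoh_ddual G' hG')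
        (fun x hx hxU => two_le_depth_ddual A Y hS T hT x (hV x hx hxU))
        (fun x hx hxU => by rw [eG']; exact two_le_depth_ddual A Y hS G' hG' x (hV x hx hxU)) ?_
      obtain ⟨a⟩ := nonempty_restrict_ddual U T
      obtain ⟨b⟩ := nonempty_restrict_tensorPow U (RelCanon.refPowZ ω r) (k + 1)
      obtain ⟨s⟩ := nonempty_ddual_of_isInvertible (H11Ample.isInvertible_tensorPow hL r)
      obtain ⟨c⟩ := nonempty_tensorPow_congr (e₆ ≪≫ s) (k + 1)
      obtain ⟨m⟩ := H22Alg.NakaiGen.nonempty_tensorPow_mul (ω.restrict U.ι) r (k + 1)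
      obtain ⟨a'⟩ := nonempty_ddual_congr ⟨b ≪≫ c ≪≫ m⟩
      obtain ⟨e⟩ := nonempty_restrict_refPowZ U ω ((r * (k + 1) : ℕ) : ℤ)
      exact ⟨a ≪≫ a' ≪≫ e.symm⟩
    exact invertibleAt_of_restrict_iso ⟨eV⟩ hzV hr

include hd hω hS hV hzV hωt in
/-- The dualizing sheaf is invertible where that of the fibre is, if a suitable power is. -/
theorem invertibleAt_of_root (hinvt : RelCanon.InvertibleAt ωt z) (k : ℕ)
    (hk : ((k + 1 : ℕ) : (Spec (CommRingCat.of A)).residueField t) ≠ 0)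
    (hr : RelCanon.InvertibleAt (RelCanon.refPowZ ω ((k + 1 : ℕ) : ℤ)) (((Y ↘ Spec (CommRingCat.of A)).fiberι t) z)) :
    RelCanon.InvertibleAt ω (((Y ↘ Spec (CommRingCat.of A)).fiberι t) z) := by
  let f := Y ↘ Spec (CommRingCat.of A)
  haveI : Flat f := hS.1
  haveI := isNoetherian_of_proper A Y
  haveI : LocallyOfFinitePresentation f := inferInstance
  let K := (Spec (CommRingCat.of A)).residueField t
  letI : (f.fiber t).Over (Spec (CommRingCat.of K)) := ⟨f.fiberToSpecResidueField t⟩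
  haveI : IsProper (f.fiber t ↘ Spec (CommRingCat.of K)) :=
    MorphismProperty.pullback_snd (P := @IsProper) _ _ inferInstance
  haveI := isNoetherian_of_proper K (f.fiber t)
  have hsq : IsPullback (f.fiberι t) (f.fiber t ↘ Spec (CommRingCat.of K)) f
      ((Spec (CommRingCat.of A)).fromSpecResidueField t) := IsPullback.of_hasPullback _ _
  let U : Y.Opens := ⟨_, S3617.result Y _ f⟩
  obtain ⟨hcoh, hdep⟩ := isCoh_and_two_le_depth A Y d hd hω
  obtain ⟨hcoht, hdept⟩ := isCoh_and_two_le_depth K (f.fiber t) d (hasRelDim_of_isPullback hsq hd) hωt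
  refine invertibleAt_of_root' A Y hS U V hV t z hzV hcoh (isInvertible_restrict_gor A Y d hd hω hS.1) hcoht
    (fun w hw hw' => hdept w (le_of_le_of_eq (hV _ hw hw') (fibDim_fiber A Y t w).symm)) ?_
    (fun x hx hxU => hdep x (hV x hx hxU)) hinvt k hk hr
  have hCMU : ∀ y ∈ U, MoreMor.IsCMAt f y := fun y hy => by
    haveI := (show Dual3.IsGorensteinAt f y from hy).2
    exact ⟨(show Dual3.IsGorensteinAt f y from hy).1, H4Goren.isCohenMacaulayLocalRing _⟩
  obtain ⟨e₁⟩ := nonempty_restrict_bc A Y d hS.1 hd hω hsq U hCMU hωt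
  obtain ⟨e₂⟩ := nonempty_restrict_pullback (f.fiberι t) U ω
  exact ⟨e₂.symm ≪≫ e₁⟩

end Powers

end Groth.Agent.H4Rel
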