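import Groth.Agent.H4Rel.LocalBC
import Groth.Agent.H4Rel.QGorBC
import Groth.Agent.H4Rel.RootScheme

/-!
# Duals of duals and base change of reflexive powers
-/

set_option autoImplicit false
set_option linter.style.haveILetI false
set_option linter.unusedSectionVars false
set_option backward.isDefEq.respectTransparency false
set_option maxHeartbeats 1000000
set_option synthInstance.maxHeartbeats 400000

universe u

open CategoryTheory CategoryTheory.Limits AlgebraicGeometry IsLocalRing TensorProduct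
open Groth.Agent.H16Derived

attribute [local instance] HasDerivedCategory.standard

namespace Groth.Agent.H4Rel

attribute [local instance] H06Mod.stalkAlgebra

variable (A : Type u) [CommRing A] [IsNoetherianRing A] (Y : Scheme.{u}) [Y.Over (Spec (CommRingCat.of A))]
  [IsProper (Y ↘ Spec (CommRingCat.of A))] (d : ℕ)
  (hd : Cyc.HasRelDim (Y ↘ Spec (CommRingCat.of A)) d) {ω : Y.Modules}
  (hω : RelCanon.IsDualizingSheaf A Y d ω)
  (hS : RelCanon.IsSkMor (Y ↘ Spec (CommRingCat.of A)) 2)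
  (hG : ∀ y : Y, y ∉ RelCanon.gorLocus (Y ↘ Spec (CommRingCat.of A)) → 2 ≤ fibDim A Y y)
  {B : Type u} [CommRing B] [IsNoetherianRing B] {g : Spec (CommRingCat.of B) ⟶ Spec (CommRingCat.of A)}
  {Y' : Scheme.{u}} [Y'.Over (Spec (CommRingCat.of B))] {p : Y' ⟶ Y}
  (hp : IsPullback p (Y' ↘ Spec (CommRingCat.of B)) (Y ↘ Spec (CommRingCat.of A)) g)
  {ω' : Y'.Modules} (hω' : RelCanon.IsDualizingSheaf B Y' d ω')

include hd hω hS hp hω' in
/-- Reflexive powers commute with base change over the Gorenstein locus. -/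
theorem nonempty_restrict_refPowZ_bc (U : Y.Opens) (hU : (U : Set Y) = RelCanon.gorLocus (Y ↘ Spec (CommRingCat.of A)))
    (m : ℤ) :
    Nonempty ((Scheme.Modules.pullback (p ∣_ U)).obj ((RelCanon.refPowZ ω m).restrict U.ι) ≅
      (RelCanon.refPowZ ω' m).restrict (p ⁻¹ᵁ U).ι) := by
  let f := Y ↘ Spec (CommRingCat.of A)
  haveI : Flat f := hS.1
  haveI := isNoetherian_of_proper A Y
  haveI : LocallyOfFinitePresentation f := inferInstance
  obtain rfl : U = ⟨_, S3617.result Y _ f⟩ := TopologicalSpace.Opens.ext hU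
  let U : Y.Opens := ⟨_, S3617.result Y _ f⟩
  have hCMU : ∀ y ∈ U, MoreMor.IsCMAt f y := fun y hy => by
    haveI := (show Dual3.IsGorensteinAt f y from hy).2
    exact ⟨(show Dual3.IsGorensteinAt f y from hy).1, H4Goren.isCohenMacaulayLocalRing _⟩
  have hL : PicF.IsInvertible (ω.restrict U.ι) := isInvertible_restrict_gor A Y d hd hω hS.1
  obtain ⟨e₁⟩ := nonempty_restrict_bc A Y d hS.1 hd hω hp U hCMU hω'
  obtain ⟨e₂⟩ := nonempty_restrict_pullback p U ω
  obtain ⟨e₃⟩ := nonempty_pullback_refPowZ (p ∣_ U) hL m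
  obtain ⟨e₄⟩ := nonempty_refPowZ_congr (e₂.symm ≪≫ e₁) m
  obtain ⟨e₅⟩ := nonempty_restrict_refPowZ (p ⁻¹ᵁ U) ω' m
  obtain ⟨e₆⟩ := nonempty_restrict_refPowZ U ω m
  exact ⟨(Scheme.Modules.pullback (p ∣_ U)).mapIso e₆ ≪≫ e₃ ≪≫ e₄ ≪≫ e₅.symm⟩

include hd hω hS hG hp hω' in
/-- The reflexive powers of the base change are the duals of the inverse images of the duals. -/
theorem nonempty_dual_pullback_dual (m : ℤ) :
    Nonempty (RefHull.dual ((Scheme.Modules.pullback p).obj (RefHull.dual (RelCanon.refPowZ ω m))) ≅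
      RelCanon.refPowZ ω' m) := by
  let f := Y ↘ Spec (CommRingCat.of A)
  let f' := Y' ↘ Spec (CommRingCat.of B)
  haveI : Flat f := hS.1
  haveI : IsProper f' := MorphismProperty.of_isPullback (P := @IsProper) hp inferInstance
  haveI := isNoetherian_of_proper A Y
  haveI := isNoetherian_of_proper B Y'
  haveI : LocallyOfFinitePresentation f := inferInstance
  let U : Y.Opens := ⟨_, S3617.result Y _ f⟩
  let U' := p ⁻¹ᵁ U
  obtain ⟨G₀, hG₀, eG₀⟩ := exists_refPowZ_eq (isCoh_and_two_le_depth A Y d hd hω).1 m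
  obtain ⟨G', hG', eG'⟩ := exists_refPowZ_eq
    (isCoh_and_two_le_depth B Y' d (hasRelDim_of_isPullback hp hd) hω').1 m
  let N := RelCanon.refPowZ ω m
  have hN : Coh.IsCoh (RelCanon.refPowZ ω m) := eG₀.symm ▸ H29Ref.isCoh_ddual G₀ hG₀
  have hR' : Coh.IsCoh (RelCanon.refPowZ ω' m) := eG'.symm ▸ H29Ref.isCoh_ddual G' hG'
  have hP : Coh.IsCoh ((Scheme.Modules.pullback p).obj (RefHull.dual N)) := isCohPull p (H29Ref.isCoh_dual N hN)
  have hdO : ∀ w, w ∉ U' → (2 : ℕ∞) ≤ LocCoh.depth (Y'.presheaf.stalk w) (Y'.presheaf.stalk w) :=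
    fun w hw => two_le_depth_stalk_bc A Y hS hp w (hG _ hw)
  refine nonempty_iso_of_restrict U' (H29Ref.isCoh_dual _ hP) hR' (fun w hw => ?_)
    (fun w hw => by rw [eG']; exact two_le_depth_ddual' G' hG' w (hdO w hw)) ?_
  · refine two_le_depth_homSh _ _ hP (H10Coh.isCoh_structureModule' Y') w ?_
    rw [← H4Depth.depth_congr (H29Ref.unitEquiv (X := Y') w)]
    exact hdO w hw
  · obtain ⟨e⟩ := nonempty_restrict_refPowZ_bc A Y d hd hω hS hp hω' U rfl m
    obtain ⟨e₆⟩ := nonempty_restrict_refPowZ U ω m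
    have hL : PicF.IsInvertible (N.restrict U.ι) :=
      H11Tilde.isInvertible_of_iso e₆.symm (isInvertible_refPowZ (isInvertible_restrict_gor A Y d hd hω hS.1) m)
    obtain ⟨a⟩ := nonempty_restrict_dual U' ((Scheme.Modules.pullback p).obj (RefHull.dual N))
    obtain ⟨b⟩ := nonempty_restrict_pullback p U (RefHull.dual N)
    obtain ⟨c⟩ := nonempty_restrict_dual U N
    obtain ⟨a'⟩ := nonempty_dual_congr (b ≪≫ (Scheme.Modules.pullback (p ∣_ U)).mapIso c)
    obtain ⟨q⟩ := H11Div.nonempty_pullback_dual (p ∣_ U) (H8Props.DivisorSection.isInvertible_dual hL)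
    obtain ⟨r⟩ := nonempty_ddual_of_isInvertible hL
    exact ⟨a ≪≫ a' ≪≫ q.symm ≪≫ (Scheme.Modules.pullback (p ∣_ U)).mapIso r ≪≫ e⟩

include hd hω hS hG hp hω' in
/-- The stalks of the reflexive powers of the base change. -/
theorem nonempty_hom_dual_bc (m : ℤ) (y' : Y') :
    Nonempty (((RefHull.dual (RelCanon.refPowZ ω m)).presheaf.stalk (p y')
        →ₗ[Y.presheaf.stalk (p y')] Y'.presheaf.stalk y')
      ≃ₗ[Y'.presheaf.stalk y'] (RelCanon.refPowZ ω' m).presheaf.stalk y') := by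
  haveI := isNoetherian_of_proper A Y
  haveI : IsProper (Y' ↘ Spec (CommRingCat.of B)) := MorphismProperty.of_isPullback (P := @IsProper) hp inferInstance
  haveI := isNoetherian_of_proper B Y'
  obtain ⟨G₀, hG₀, eG₀⟩ := exists_refPowZ_eq (isCoh_and_two_le_depth A Y d hd hω).1 m
  let Ds := RefHull.dual (RelCanon.refPowZ ω m)
  have hDs : Coh.IsCoh Ds := H29Ref.isCoh_dual _ (eG₀.symm ▸ H29Ref.isCoh_ddual G₀ hG₀)
  let P := (Scheme.Modules.pullback p).obj Ds
  obtain ⟨i⟩ := nonempty_dual_pullback_dual A Y d hd hω hS hG hp hω' m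
  let C := Y'.presheaf.stalk y'
  let uC := H29Ref.unitEquiv (X := Y') y'
  let EP := LinearEquiv.ofBijective _ (H06Mod.pullStalkLin_bijective p Ds y')
  let evC := LinearEquiv.ofBijective (RefHull.evalStalk P (Coh.structureModule Y') y')
    (H29Ref.evalStalk_bijective P (Coh.structureModule Y') (H10Coh.isFP_of_isCoh P (isCohPull p hDs)) y')
  let ΨC : (RefHull.dual P).presheaf.stalk y' ≃ₗ[C] (Ds.presheaf.stalk (p y') →ₗ[Y.presheaf.stalk (p y')] C) :=
    evC.trans ((LinearEquiv.congrLeft _ C EP.symm).trans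
      ((LinearEquiv.congrRight uC.symm).trans (LinearMap.liftBaseChangeEquiv C).symm))
  exact ⟨ΨC.symm.trans (H06EGA9.stalkIso i y')⟩

end Groth.Agent.H4Rel
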