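import Groth.Agent.H4Rel.HomLift

/-!
# Surjectivity of transition maps of duals from depth three of the closed fibre
-/

set_option autoImplicit false
set_option linter.style.haveILetI false
set_option linter.unusedSectionVars false
set_option maxHeartbeats 800000

universe u

open TensorProduct IsLocalRing
open TensorProduct (AlgebraTensorModule.lTensor)

namespace Groth.Agent.H4Rel.Lift

variable {B : Type u} [CommRing B]

/-- Reindexing of a regular triple along a linear equivalence. -/
theorem Reg3.congr {P Q : Type u} [AddCommGroup P] [Module B P] [AddCommGroup Q] [Module B Q] {x y w : B}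
    (h : Reg3 x y w P) (e : P ≃ₗ[B] Q) : Reg3 x y w Q where
  toReg2 := h.toReg2.congr e
  reg3 := fun v a b hv => by
    obtain ⟨a', b', h'⟩ := h.reg3 (e.symm v) (e.symm a) (e.symm b)
      (by rw [← map_smul, ← map_smul, ← map_smul, ← map_add, hv])
    exact ⟨e a', e b', by rw [← map_smul, ← map_smul, ← map_add, ← h', e.apply_symm_apply]⟩

section Extend

variable {D C : Type u} [AddCommGroup D] [Module B D] [AddCommGroup C] [Module B C] {J : Ideal B} {k : ℕ}

/-- The relations of a module, after multiplying by a power of an element of `J`, extend to the free module. -/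
theorem exists_extend_pow (hfac : Fac J D) (s : (Fin k → B) →ₗ[B] D) (hs : Function.Surjective s)
    (θ : LinearMap.ker s →ₗ[B] C) {g : B} (hg : g ∈ J) :
    ∃ (K : ℕ) (e : (Fin k → B) →ₗ[B] C), ∀ v : LinearMap.ker s, e v = g ^ K • θ v := by
  obtain ⟨K, t, α, β, hαβ⟩ := hfac g hg
  obtain ⟨β', hβ'⟩ := Module.projective_lifting_property s β hs
  have hmem : ∀ v, (g ^ K • (LinearMap.id : (Fin k → B) →ₗ[B] _) - β' ∘ₗ α ∘ₗ s) v ∈ LinearMap.ker s := fun v => by
    rw [LinearMap.mem_ker]
    have h := LinearMap.congr_fun hβ' (α (s v))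
    simp only [LinearMap.comp_apply] at h
    simp only [LinearMap.sub_apply, LinearMap.smul_apply, LinearMap.id_apply, LinearMap.comp_apply, map_sub, map_smul,
      h, hαβ, sub_self]
  refine ⟨K, θ ∘ₗ LinearMap.codRestrict _ _ hmem, fun v => ?_⟩
  rw [LinearMap.comp_apply, ← map_smul]
  congr 1
  refine Subtype.ext ?_
  simp [LinearMap.mem_ker.1 v.2]

/-- Homomorphisms on relations extend under a condition of depth three. -/
theorem exists_extend (hfac : Fac J D) {x y w : B} (hx : x ∈ J) (hy : y ∈ J) (hw : w ∈ J) (hC : Reg2 x y C)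
    (hN : Reg3 x y w (D →ₗ[B] C)) (s : (Fin k → B) →ₗ[B] D) (hs : Function.Surjective s)
    (θ : LinearMap.ker s →ₗ[B] C) :
    ∃ e : (Fin k → B) →ₗ[B] C, ∀ v : LinearMap.ker s, e v = θ v := by
  obtain ⟨K, a, ha⟩ := exists_extend_pow hfac s hs θ hx
  obtain ⟨L, b, hb⟩ := exists_extend_pow hfac s hs θ hy
  obtain ⟨M, c, hc⟩ := exists_extend_pow hfac s hs θ hw
  have hF : Reg2 x y ((Fin k → B) →ₗ[B] C) := hC.hom
  have desc : ∀ φ : (Fin k → B) →ₗ[B] C, (∀ v : LinearMap.ker s, φ v = 0) →
      ∃ ψ : D →ₗ[B] C, ψ ∘ₗ s = φ := fun φ hφ =>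
    ⟨(LinearMap.ker s).liftQ φ (fun v hv => hφ ⟨v, hv⟩) ∘ₗ
      (LinearMap.quotKerEquivOfSurjective s hs).symm.toLinearMap, LinearMap.ext fun v => by
      have : (LinearMap.quotKerEquivOfSurjective s hs).symm (s v) = Submodule.Quotient.mk v :=
        (LinearEquiv.symm_apply_eq _).2 rfl
      simp [this]⟩
  obtain ⟨p₁, hp₁⟩ := desc (y ^ L • a - x ^ K • b) fun v => by
    rw [LinearMap.sub_apply, LinearMap.smul_apply, LinearMap.smul_apply, ha v, hb v, smul_comm, sub_self]
  obtain ⟨p₂, hp₂⟩ := desc (w ^ M • a - x ^ K • c) fun v => by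
    rw [LinearMap.sub_apply, LinearMap.smul_apply, LinearMap.smul_apply, ha v, hc v, smul_comm, sub_self]
  obtain ⟨p₃, hp₃⟩ := desc (w ^ M • b - y ^ L • c) fun v => by
    rw [LinearMap.sub_apply, LinearMap.smul_apply, LinearMap.smul_apply, hb v, hc v, smul_comm, sub_self]
  have e : w ^ M • p₁ = x ^ K • (-p₃) + y ^ L • p₂ := by
    refine LinearMap.ext fun d => ?_
    obtain ⟨v, rfl⟩ := hs d
    have h₁ := LinearMap.congr_fun hp₁ v
    have h₂ := LinearMap.congr_fun hp₂ v
    have h₃ := LinearMap.congr_fun hp₃ v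
    simp only [LinearMap.comp_apply, LinearMap.sub_apply, LinearMap.smul_apply] at h₁ h₂ h₃
    simp only [LinearMap.add_apply, LinearMap.smul_apply, LinearMap.neg_apply, h₁, h₂, h₃]
    module
  obtain ⟨p, q, hpq⟩ := hN.pow M K L _ _ _ e
  have e' : y ^ L • (a - q ∘ₗ s) = x ^ K • (b + p ∘ₗ s) := by
    rw [smul_sub, smul_add, sub_eq_iff_eq_add, add_assoc, ← LinearMap.smul_comp, ← LinearMap.smul_comp,
      ← LinearMap.add_comp, ← hpq, hp₁, add_sub_cancel]
  obtain ⟨d, hd⟩ := hF.pow K L _ _ e'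
  refine ⟨d, fun v => hC.reg.pow K ?_⟩
  show x ^ K • d v = x ^ K • θ v
  rw [← LinearMap.smul_apply, ← hd, LinearMap.sub_apply, LinearMap.comp_apply, LinearMap.mem_ker.1 v.2, map_zero,
    sub_zero, ha]

end Extend

variable {A : Type u} [CommRing A] [Algebra A B] [IsLocalRing A]

/-- A module killed by the maximal ideal, tensored with a finite module killed by it, is free on it. -/
theorem nonempty_tensor_equiv_pi {N : Type u} [AddCommGroup N] [Module A N] [Module B N] [IsScalarTower A B N]
    (hN : ∀ a ∈ maximalIdeal A, ∀ v : N, a • v = 0) (V : Type u) [AddCommGroup V] [Module A V] [Module.Finite A V] :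
    ∃ r : ℕ, Nonempty ((N ⊗[A] (V ⧸ maximalIdeal A • (⊤ : Submodule A V))) ≃ₗ[B] (Fin r → N)) := by
  letI := Ideal.Quotient.field (maximalIdeal A)
  let W := V ⧸ maximalIdeal A • (⊤ : Submodule A V)
  haveI : Module.Finite (A ⧸ maximalIdeal A) W := Module.Finite.of_restrictScalars_finite A _ _
  let b := Module.finBasis (A ⧸ maximalIdeal A) W
  refine ⟨Module.finrank (A ⧸ maximalIdeal A) W, ?_⟩
  let g : (Fin (Module.finrank (A ⧸ maximalIdeal A) W) → A) →ₗ[A] W :=
    Fintype.linearCombination A (fun i => b i)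
  have hgc : ∀ c, g c = ∑ i, (Ideal.Quotient.mk (maximalIdeal A) (c i)) • b i := fun c => by
    simp [g, Fintype.linearCombination_apply]
  have hg : Function.Surjective g := fun q => by
    choose c hc using fun i => Ideal.Quotient.mk_surjective (b.repr q i)
    refine ⟨c, ?_⟩
    rw [hgc]
    simp [hc, b.sum_repr]
  have hk : ∀ c, g c = 0 → ∀ i, c i ∈ maximalIdeal A := fun c hc i => by
    rw [hgc] at hc
    exact Ideal.Quotient.eq_zero_iff_mem.1 (Fintype.linearIndependent_iff.1 b.linearIndependent _ hc i)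
  have hinj : Function.Injective (AlgebraTensorModule.lTensor B N g) := by
    refine LinearMap.ker_eq_bot.1 (LinearMap.ker_eq_bot'.2 fun z hz => ?_)
    obtain ⟨u, rfl⟩ := ((lTensor_exact N (LinearMap.exact_subtype_ker_map g) hg) z).1 hz
    refine (TensorProduct.piScalarRight A A N _).injective ?_
    rw [map_zero]
    clear hz
    induction u with
    | zero => simp
    | tmul v c =>
      funext i
      simp [hN _ (hk _ c.2 i)]
    | add p q hp hq => rw [map_add, map_add, hp, hq, add_zero]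
  exact ⟨(LinearEquiv.ofBijective _ ⟨hinj, LinearMap.lTensor_surjective N hg⟩).symm.trans
    (TensorProduct.piScalarRight A B N _)⟩

variable [IsNoetherianRing A] [Module.Flat A B] {D : Type u} [AddCommGroup D] [Module B D] [Module.Finite B D]
  {J : Ideal B} {x y w : B}

/-- The transition maps of duals are surjective if the dual on the closed fibre has depth three. -/
theorem trans_surjective (hfac : Fac J D) (hx : x ∈ J) (hy : y ∈ J) (hw : w ∈ J) (hC : Reg2 x y (QB B A 1))
    (hN : Reg3 x y w (D →ₗ[B] QB B A 1)) (n : ℕ) : Function.Surjective (trans (B := B) A D n) := by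
  intro θ
  obtain ⟨k, s, hs⟩ := Module.Finite.exists_fin' B D
  let π : QB B A (n + 1) →ₗ[B] QB B A n :=
    Submodule.factor (powR_antitone (A := A) (B := B) (M := B) (Nat.le_succ n))
  have hπ : Function.Surjective π := Submodule.factor_surjective _
  obtain ⟨ψ, hψ⟩ := Module.projective_lifting_property π (θ ∘ₗ s) hπ
  obtain ⟨f, hf, hfg⟩ := exists_gr (A := A) (M := B) hC.reg n
  have hmem : ∀ v : LinearMap.ker s, (ψ ∘ₗ (LinearMap.ker s).subtype) v ∈ LinearMap.range f := fun v =>
    (hfg _).1 (by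
      show π (ψ v) = 0
      have h := LinearMap.congr_fun hψ (v : Fin k → B)
      simp only [LinearMap.comp_apply] at h
      rw [h, LinearMap.mem_ker.1 v.2, map_zero])
  let η := (LinearEquiv.ofInjective f hf).symm.toLinearMap ∘ₗ LinearMap.codRestrict _ _ hmem
  have hη : ∀ v : LinearMap.ker s, f (η v) = ψ v := fun v =>
    congrArg Subtype.val ((LinearEquiv.ofInjective f hf).apply_symm_apply ⟨_, hmem v⟩)
  haveI : Module.Finite A ↥(maximalIdeal A ^ n) := Module.Finite.iff_fg.2 (IsNoetherian.noetherian _)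
  obtain ⟨r, ⟨e⟩⟩ := nonempty_tensor_equiv_pi (B := B) (N := QB B A 1) smul_eq_zero_quot ↥(maximalIdeal A ^ n)
  choose E hE using fun i : Fin r => exists_extend hfac hx hy hw hC hN s hs ((LinearMap.proj i ∘ₗ e.toLinearMap) ∘ₗ η)
  let G := f ∘ₗ e.symm.toLinearMap ∘ₗ LinearMap.pi E
  have hG : ∀ v : LinearMap.ker s, G v = ψ v := fun v => by
    rw [← hη v]
    show f (e.symm (LinearMap.pi E v)) = f (η v)
    congr 1
    refine (LinearEquiv.symm_apply_eq e).2 (funext fun i => ?_)
    exact hE i v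
  let φ := (LinearMap.ker s).liftQ (ψ - G) (fun v hv => by
      rw [LinearMap.mem_ker, LinearMap.sub_apply, sub_eq_zero]
      exact (hG ⟨v, hv⟩).symm) ∘ₗ (LinearMap.quotKerEquivOfSurjective s hs).symm.toLinearMap
  refine ⟨φ, LinearMap.ext fun d => ?_⟩
  obtain ⟨v, rfl⟩ := hs d
  have hsv : (LinearMap.quotKerEquivOfSurjective s hs).symm (s v) = Submodule.Quotient.mk v :=
    (LinearEquiv.symm_apply_eq _).2 rfl
  show π (φ (s v)) = θ (s v)
  have hGv : π (G v) = 0 := (hfg _).2 ⟨_, rfl⟩
  have hψv : π (ψ v) = θ (s v) := LinearMap.congr_fun hψ v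
  simp only [φ, LinearMap.comp_apply, LinearEquiv.coe_coe, hsv, Submodule.liftQ_apply, LinearMap.sub_apply, map_sub,
    hGv, hψv, sub_zero]

variable [IsLocalRing B] [IsLocalHom (algebraMap A B)] [IsNoetherianRing B]

/-- A dual whose closed fibre has depth three is flat, with that closed fibre. -/
theorem flat_of_depth_three (hfac : Fac J D) (hx : x ∈ J) (hy : y ∈ J) (hw : w ∈ J) (hC : Reg2 x y (QB B A 1))
    (hN : Reg3 x y w (D →ₗ[B] QB B A 1)) :
    Module.Flat A (D →ₗ[B] B) ∧ Function.Surjective (red (B := B) A D 1) ∧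
      ∀ φ : D →ₗ[B] B, red A D 1 φ = 0 ↔ φ ∈ powR (A := A) (B := B) (D →ₗ[B] B) 1 :=
  flat_of_hom_surjective hfac hx hy hC (trans_surjective hfac hx hy hw hC hN)

end Groth.Agent.H4Rel.Lift
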