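import Groth.Agent.H4Rel.Lift
import Groth.Agent.H05EGA4.FlatRegular
import Mathlib.LinearAlgebra.FreeModule.Finite.Basic

/-!
# Flatness of duals from lifting along the closed fibre
-/

set_option autoImplicit false
set_option linter.style.haveILetI false
set_option linter.unusedSectionVars false
set_option maxHeartbeats 800000

universe u

open TensorProduct IsLocalRing
open TensorProduct (AlgebraTensorModule.lTensor)

namespace Groth.Agent.H4Rel.Lift

variable {B : Type u} [CommRing B]

section Reg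

variable {P Q S : Type u} [AddCommGroup P] [Module B P] [AddCommGroup Q] [Module B Q] [AddCommGroup S] [Module B S]
  {x y : B}

/-- An element whose multiples by powers of `x` and `y` come from a module of depth two comes from it. -/
theorem Reg2.mem_range (h : Reg2 x y P) (f : P →ₗ[B] Q) (hf : Function.Injective f) (hx : IsSMulRegular Q x)
    {q : Q} (k l : ℕ) (ha : x ^ k • q ∈ LinearMap.range f) (hb : y ^ l • q ∈ LinearMap.range f) :
    q ∈ LinearMap.range f := by
  obtain ⟨a, ha⟩ := ha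
  obtain ⟨b, hb⟩ := hb
  obtain ⟨c, rfl⟩ := h.pow k l a b (hf (by rw [map_smul, map_smul, ha, hb, smul_comm]))
  exact ⟨c, (hx.pow k) (show x ^ k • f c = x ^ k • q by rw [← map_smul, ha])⟩

/-- Regular pairs on homomorphism modules. -/
theorem Reg2.hom (h : Reg2 x y Q) : Reg2 x y (P →ₗ[B] Q) where
  reg := fun _ _ e => LinearMap.ext fun v => h.reg (LinearMap.congr_fun e v)
  reg2 := fun a b e => by
    have hc : ∀ v, ∃ c, a v = x • c := fun v => h.reg2 (a v) (b v) (LinearMap.congr_fun e v)
    choose c hc using hc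
    refine ⟨{ toFun := c, map_add' := fun v w => h.reg ?_, map_smul' := fun r v => h.reg ?_ },
      LinearMap.ext hc⟩
    · show x • c (v + w) = x • (c v + c w)
      rw [smul_add, ← hc, ← hc, ← hc, map_add]
    · show x • c (r • v) = x • (r • c v)
      rw [smul_comm, ← hc, ← hc, map_smul]

/-- Regular pairs transfer along linear equivalences. -/
theorem Reg2.congr (h : Reg2 x y P) (e : P ≃ₗ[B] Q) : Reg2 x y Q where
  reg := fun a b hab => e.symm.injective (h.reg (show x • e.symm a = x • e.symm b by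
    rw [← map_smul, ← map_smul]; exact congrArg e.symm hab))
  reg2 := fun a b hab => by
    obtain ⟨c, hc⟩ := h.reg2 (e.symm a) (e.symm b) (by rw [← map_smul, ← map_smul, hab])
    exact ⟨e c, e.symm.injective (by rw [map_smul, e.symm_apply_apply, hc])⟩

/-- Regular pairs of an extension. -/
theorem Reg2.mid (f : P →ₗ[B] Q) (g : Q →ₗ[B] S) (hf : Function.Injective f) (hfg : Function.Exact f g)
    (hg : Function.Surjective g) (hP : Reg2 x y P) (hS : Reg2 x y S) : Reg2 x y Q := by
  have hreg : IsSMulRegular Q x := by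
    intro a b hab
    have h1 : g (a - b) = 0 := by
      rw [map_sub, sub_eq_zero]
      exact hS.reg (show x • g a = x • g b by rw [← map_smul, ← map_smul]; exact congrArg g hab)
    obtain ⟨c, hc⟩ := (hfg _).1 h1
    have : c = 0 := hP.reg (show x • c = x • 0 from hf (by
      rw [smul_zero, map_zero, map_smul, hc, smul_sub, sub_eq_zero]; exact hab))
    rw [this, map_zero] at hc
    exact sub_eq_zero.1 hc.symm
  refine ⟨hreg, fun a b hab => ?_⟩
  obtain ⟨c, hc⟩ := hS.reg2 (g a) (g b) (by rw [← map_smul, ← map_smul, hab])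
  obtain ⟨c, rfl⟩ := hg c
  obtain ⟨a', ha'⟩ := (hfg (a - x • c)).1 (by rw [map_sub, map_smul, hc, sub_self])
  obtain ⟨b', hb'⟩ := (hfg (b - y • c)).1 (hS.reg (show x • g (b - y • c) = x • 0 by
    rw [smul_zero, map_sub, map_smul, smul_sub, ← map_smul g x b, ← hab, map_smul, hc, smul_comm, sub_self]))
  obtain ⟨d, rfl⟩ := hP.reg2 a' b' (hf (by rw [map_smul, map_smul, ha', hb', smul_sub, smul_sub, hab, smul_comm]))
  exact ⟨c + f d, by rw [smul_add, ← map_smul, ha', add_sub_cancel]⟩

/-- `x, y, w` is a regular sequence for `P`. -/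
structure Reg3 (x y w : B) (P : Type u) [AddCommGroup P] [Module B P] : Prop extends Reg2 x y P where
  reg3 : ∀ v a b : P, w • v = x • a + y • b → ∃ a' b', v = x • a' + y • b'

theorem Reg3.pow {w : B} (h : Reg3 x y w P) : ∀ (j k l : ℕ) (v a b : P),
    w ^ j • v = x ^ k • a + y ^ l • b → ∃ a' b', v = x ^ k • a' + y ^ l • b' := by
  have h1 : ∀ (k : ℕ) (v a b : P), w • v = x ^ k • a + y • b → ∃ a' b', v = x ^ k • a' + y • b' := by
    intro k
    induction k with
    | zero => exact fun v a b _ => ⟨v, 0, by simp⟩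
    | succ k ih =>
      intro v a b e
      obtain ⟨a₁, b₁, rfl⟩ := h.reg3 v (x ^ k • a) b (by rwa [smul_smul, ← pow_succ'])
      have e1 : y • (b - w • b₁) = x • (w • a₁ - x ^ k • a) := by
        rw [smul_sub, smul_sub, smul_smul x (x ^ k), ← pow_succ', sub_eq_sub_iff_add_eq_add, smul_comm x w,
          smul_comm y w, ← smul_add, e, add_comm]
      obtain ⟨c, hc⟩ := h.reg2 _ _ e1
      have e2 : w • a₁ = x ^ k • a + y • c := by
        rw [← sub_eq_iff_eq_add']
        exact h.reg (show x • (w • a₁ - x ^ k • a) = x • y • c by rw [← e1, hc, smul_comm])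
      obtain ⟨a', b', rfl⟩ := ih a₁ a c e2
      refine ⟨a', x • b' + b₁, ?_⟩
      rw [smul_add, smul_add, smul_smul x (x ^ k), ← pow_succ', smul_comm x y, add_assoc]
  have h2 : ∀ (k l : ℕ) (v a b : P), w • v = x ^ k • a + y ^ l • b → ∃ a' b', v = x ^ k • a' + y ^ l • b' := by
    intro k l
    induction l with
    | zero => exact fun v a b _ => ⟨0, v, by simp⟩
    | succ l ih =>
      intro v a b e
      obtain ⟨a₁, b₁, rfl⟩ := h1 k v a (y ^ l • b) (by rwa [smul_smul, ← pow_succ'])
      have e1 : y ^ 1 • (w • b₁ - y ^ l • b) = x ^ k • (a - w • a₁) := by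
        rw [pow_one, smul_sub, smul_sub, smul_smul y (y ^ l), ← pow_succ', sub_eq_sub_iff_add_eq_add, smul_comm y w,
          smul_comm (x ^ k) w, ← smul_add, add_comm (y • b₁), e]
      obtain ⟨c, hc⟩ := h.toReg2.pow k 1 _ _ e1
      obtain ⟨a', b', rfl⟩ := ih b₁ c b (by rw [← sub_eq_iff_eq_add, hc])
      refine ⟨a₁ + y • a', b', ?_⟩
      rw [smul_add, smul_add, smul_smul y (y ^ l), ← pow_succ', smul_comm y (x ^ k), add_assoc]
  intro j k l
  induction j with
  | zero => exact fun v a b e => ⟨a, b, by simpa using e⟩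
  | succ j ih =>
    intro v a b e
    obtain ⟨a₁, b₁, e₁⟩ := ih (w • v) a b (by rwa [smul_smul, ← pow_succ])
    exact h2 k l v a₁ b₁ e₁

end Reg

/-- Every element of `J` has a power which factors through a free module on `D`. -/
def Fac (J : Ideal B) (D : Type u) [AddCommGroup D] [Module B D] : Prop :=
  ∀ g ∈ J, ∃ (K s : ℕ) (α : D →ₗ[B] Fin s → B) (β : (Fin s → B) →ₗ[B] D), ∀ v, β (α v) = g ^ K • v

variable {A : Type u} [CommRing A] [Algebra A B] [IsLocalRing A]

section Tower

variable {M : Type u} [AddCommGroup M] [Module A M] [Module B M] [IsScalarTower A B M]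

theorem smul_eq_zero_quot (a : A) (ha : a ∈ maximalIdeal A) (v : M ⧸ powR (A := A) (B := B) M 1) : a • v = 0 := by
  obtain ⟨v, rfl⟩ := Submodule.Quotient.mk_surjective _ v
  rw [← Submodule.Quotient.mk_smul, Submodule.Quotient.mk_eq_zero, powR, pow_one, ← algebraMap_smul B a]
  exact Submodule.smul_mem_smul (Ideal.mem_map_of_mem _ ha) trivial

theorem powR_antitone {n m : ℕ} (h : n ≤ m) : powR (A := A) (B := B) M m ≤ powR (A := A) (B := B) M n :=
  Submodule.smul_mono_left (Ideal.map_mono (Ideal.pow_le_pow_right h))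

variable (A) in
/-- `(M / m M) ⊗ (m ^ n / m ^ (n + 1)) → M / m ^ (n + 1) M`, an isomorphism onto `m ^ n M / m ^ (n + 1) M`. -/
theorem exists_gr [Module.Flat A M] {x : B} (hreg : IsSMulRegular (M ⧸ powR (A := A) (B := B) M 1) x) (n : ℕ) :
    ∃ f : (M ⧸ powR (A := A) (B := B) M 1) ⊗[A]
        (↥(maximalIdeal A ^ n) ⧸ maximalIdeal A • (⊤ : Submodule A ↥(maximalIdeal A ^ n))) →ₗ[B]
        M ⧸ powR (A := A) (B := B) M (n + 1),
      Function.Injective f ∧ Function.Exact f
        (Submodule.factor (powR_antitone (A := A) (B := B) (M := M) (Nat.le_succ n))) := by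
  let π : M →ₗ[B] M ⧸ powR (A := A) (B := B) M 1 := Submodule.mkQ _
  have hflat : FlatOff (A := A) (Ideal.span {x}) M := fun m z hz g _ => ⟨0, by
    have : z = 0 := by
      refine Module.Flat.lTensor_preserves_injective_linearMap (M := M) (maximalIdeal A ^ m).subtype
        Subtype.val_injective ?_
      rw [map_zero]
      exact (AlgebraTensorModule.rid A B M).injective (by rw [map_zero]; exact hz)
    simp [this]⟩
  let μ' : M ⊗[A] ↥(maximalIdeal A ^ n) →ₗ[B] M ⧸ powR (A := A) (B := B) M (n + 1) :=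
    (Submodule.mkQ _) ∘ₗ mu (B := B) M n
  have hker : LinearMap.ker (theta (A := A) π n) = LinearMap.ker μ' := by
    ext z
    simp only [LinearMap.mem_ker]
    refine ⟨fun hz => ?_, fun hz => ?_⟩
    · obtain ⟨w, rfl⟩ := exists_incl_of_theta_eq_zero π (Submodule.mkQ_surjective _)
        (fun v hv => (Submodule.Quotient.mk_eq_zero _).1 hv) n z hz
      show Submodule.Quotient.mk (mu (B := B) M n ((incl n).lTensor M w)) = 0
      rw [mu_lTensor_incl, Submodule.Quotient.mk_eq_zero]
      exact mu_mem M (n + 1) w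
    · exact theta_eq_zero (J := Ideal.span {x}) (Ideal.mem_span_singleton_self x) hflat π smul_eq_zero_quot hreg n z
        fun g _ => ⟨0, by rw [pow_zero, one_smul]; exact (Submodule.Quotient.mk_eq_zero _).1 hz⟩
  let e := LinearMap.quotKerEquivOfSurjective (theta (A := A) π n) (theta_surjective π (Submodule.mkQ_surjective _) n)
  refine ⟨(LinearMap.ker (theta (A := A) π n)).liftQ μ' hker.le ∘ₗ e.symm.toLinearMap,
    fun u v h => e.symm.injective (LinearMap.ker_eq_bot.1 (Submodule.ker_liftQ_eq_bot _ _ hker.le hker.ge) h),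
    fun q => ?_⟩
  obtain ⟨v, rfl⟩ := Submodule.Quotient.mk_surjective _ q
  show Submodule.Quotient.mk v = (0 : M ⧸ powR (A := A) (B := B) M n) ↔ _
  rw [Submodule.Quotient.mk_eq_zero]
  refine ⟨fun hv => ?_, fun ⟨w, hw⟩ => ?_⟩
  · obtain ⟨z, rfl⟩ := exists_mu_eq M n hv
    refine ⟨e (Submodule.Quotient.mk z), ?_⟩
    rw [LinearMap.comp_apply, LinearEquiv.coe_coe, e.symm_apply_apply, Submodule.liftQ_apply]
    rfl
  · obtain ⟨z, rfl⟩ := e.surjective w
    obtain ⟨z, rfl⟩ := Submodule.Quotient.mk_surjective _ z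
    rw [LinearMap.comp_apply, LinearEquiv.coe_coe, e.symm_apply_apply, Submodule.liftQ_apply] at hw
    have := powR_antitone (A := A) (B := B) (M := M) (Nat.le_succ n) ((Submodule.Quotient.eq _).1 hw)
    simpa using (Submodule.sub_mem_iff_right _ (mu_mem M n z)).1 this

/-- A regular pair on the closed fibre of a flat module is regular modulo every power. -/
theorem reg2_powR [Module.Flat A M] {x y : B} (h : Reg2 x y (M ⧸ powR (A := A) (B := B) M 1)) :
    ∀ n, Reg2 x y (M ⧸ powR (A := A) (B := B) M n)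
  | 0 => by
    haveI : Subsingleton (M ⧸ powR (A := A) (B := B) M 0) :=
      Submodule.Quotient.subsingleton_iff.2 (by simp [powR, Ideal.map_top])
    exact ⟨fun _ _ _ => Subsingleton.elim _ _, fun _ _ _ => ⟨0, Subsingleton.elim _ _⟩⟩
  | n + 1 => by
    obtain ⟨f, hf, hfg⟩ := exists_gr (A := A) h.reg n
    exact Reg2.mid f _ hf hfg (Submodule.factor_surjective _) (reg2_tensor smul_eq_zero_quot h _) (reg2_powR h n)

end Tower

section Dual

variable (B) in
/-- `B / m ^ n B`. -/
abbrev QB (A : Type u) [CommRing A] [Algebra A B] [IsLocalRing A] (n : ℕ) : Type u :=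
  B ⧸ powR (A := A) (B := B) B n

variable {D : Type u} [AddCommGroup D] [Module B D] {J : Ideal B} {x y : B}

/-- Reduction of a homomorphism. -/
noncomputable def red (A : Type u) [CommRing A] [Algebra A B] [IsLocalRing A]
    (D : Type u) [AddCommGroup D] [Module B D] (n : ℕ) : (D →ₗ[B] B) →ₗ[B] (D →ₗ[B] QB B A n) :=
  LinearMap.compRight B (Submodule.mkQ _)

/-- The transition map. -/
noncomputable def trans (A : Type u) [CommRing A] [Algebra A B] [IsLocalRing A]
    (D : Type u) [AddCommGroup D] [Module B D] (n : ℕ) : (D →ₗ[B] QB B A (n + 1)) →ₗ[B] (D →ₗ[B] QB B A n) :=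
  LinearMap.compRight B (Submodule.factor (powR_antitone (A := A) (B := B) (M := B) (Nat.le_succ n)))

theorem trans_red (n : ℕ) (φ : D →ₗ[B] B) : trans A D n (red A D (n + 1) φ) = red A D n φ :=
  LinearMap.ext fun _ => rfl

/-- Homomorphisms out of a free module have values in a submodule of multiples. -/
theorem mem_smul_top_of_forall {s : ℕ} (I : Ideal B) (φ : (Fin s → B) →ₗ[B] B) (h : ∀ v, φ v ∈ I) :
    φ ∈ I • (⊤ : Submodule B ((Fin s → B) →ₗ[B] B)) := by
  classical
  have e : φ = ∑ i, φ (Pi.single i 1) • (LinearMap.proj i : (Fin s → B) →ₗ[B] B) := by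
    refine LinearMap.pi_ext' fun i => LinearMap.ext_ring ?_
    simp [LinearMap.proj_apply, Pi.single_apply]
  rw [e]
  exact sum_mem fun i _ => Submodule.smul_mem_smul (h _) trivial

theorem exists_pow_mem_powR (hfac : Fac J D) (g : B) (hg : g ∈ J) (n : ℕ) : ∃ K : ℕ, ∀ φ : D →ₗ[B] B,
    red A D n φ = 0 → g ^ K • φ ∈ powR (A := A) (B := B) (D →ₗ[B] B) n := by
  obtain ⟨K, s, α, β, hαβ⟩ := hfac g hg
  refine ⟨K, fun φ hφ => ?_⟩
  have hφ' : ∀ v, φ v ∈ ((maximalIdeal A ^ n).map (algebraMap A B)) := fun v => by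
    have := (Submodule.Quotient.mk_eq_zero _).1 (LinearMap.congr_fun hφ v)
    rwa [powR, smul_eq_mul, Ideal.mul_top] at this
  have e : g ^ K • φ = LinearMap.lcomp B B α (φ ∘ₗ β) := LinearMap.ext fun v => by simp [hαβ]
  rw [e]
  have h := Submodule.mem_map_of_mem (f := LinearMap.lcomp B B α)
    (mem_smul_top_of_forall ((maximalIdeal A ^ n).map (algebraMap A B)) (φ ∘ₗ β) fun v => hφ' _)
  rw [Submodule.map_smul''] at h
  exact Submodule.smul_mono le_rfl le_top h

theorem flatOff_dual [Module.Flat A B] (hfac : Fac J D) : FlatOff (A := A) J (D →ₗ[B] B) := by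
  intro n z hz g hg
  obtain ⟨K, s, α, β, hαβ⟩ := hfac g hg
  refine ⟨K, ?_⟩
  let αs : ((Fin s → B) →ₗ[B] B) →ₗ[B] (D →ₗ[B] B) := LinearMap.lcomp B B α
  let βs : (D →ₗ[B] B) →ₗ[B] ((Fin s → B) →ₗ[B] B) := LinearMap.lcomp B B β
  let Tα := AlgebraTensorModule.rTensor A ↥(maximalIdeal A ^ n) αs
  let Tβ := AlgebraTensorModule.rTensor A ↥(maximalIdeal A ^ n) βs
  have hcomp : ∀ z, Tα (Tβ z) = g ^ K • z := fun z => by
    induction z with
    | zero => simp
    | tmul φ a =>
      rw [TensorProduct.smul_tmul']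
      show αs (βs φ) ⊗ₜ[A] a = (g ^ K • φ) ⊗ₜ[A] a
      congr 1
      exact LinearMap.ext fun v => by simp [αs, βs, hαβ]
    | add p q hp hq => rw [map_add, map_add, hp, hq, smul_add]
  haveI : Module.Flat A ((Fin s → B) →ₗ[B] B) :=
    haveI : Module.Flat A (Fin s → B) := Module.Flat.trans A B _
    Module.Flat.of_linearEquiv (((Pi.basisFun B (Fin s)).constr B).symm.restrictScalars A)
  have hmu : mu (B := B) _ n (Tβ z) = βs (mu (B := B) _ n z) := by
    clear hz
    induction z with
    | zero => simp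
    | tmul φ a => simp [Tβ, LinearMap.map_smul_of_tower]
    | add p q hp hq => simp only [map_add, hp, hq]
  have h0 : Tβ z = 0 := by
    refine Module.Flat.lTensor_preserves_injective_linearMap (M := (Fin s → B) →ₗ[B] B)
      (maximalIdeal A ^ n).subtype Subtype.val_injective ?_
    rw [map_zero]
    refine (AlgebraTensorModule.rid A B _).injective ?_
    rw [map_zero]
    exact hmu.trans (by rw [hz, map_zero])
  rw [← hcomp, h0, map_zero]

variable [IsLocalRing B] [IsLocalHom (algebraMap A B)] [IsNoetherianRing A] [IsNoetherianRing B] [Module.Flat A B]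
  [Module.Finite B D]

/-- Regular pairs of `B`. -/
theorem reg2_self (h : Reg2 x y (QB B A 1)) : Reg2 x y B := by
  have hP : powR (A := A) (B := B) B 1 = (maximalIdeal A).map (algebraMap A B) • (⊤ : Submodule B B) := by
    rw [powR, pow_one]
  have h' : Reg2 x y (B ⧸ (maximalIdeal A).map (algebraMap A B) • (⊤ : Submodule B B)) :=
    h.congr (Submodule.quotEquivOfEq _ _ hP)
  obtain ⟨hx, hflat⟩ := H05EGA4.isSMulRegular_and_flat_of_fibre (A := A) (M := B) x h'.reg
  haveI := hflat
  have hy : IsSMulRegular (QuotSMulTop x B ⧸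
      (maximalIdeal A).map (algebraMap A B) • (⊤ : Submodule B (QuotSMulTop x B))) y := by
    let e := H05EGA4.quotSMulTopSwap (M := B) x ((maximalIdeal A).map (algebraMap A B))
    refine (e.isSMulRegular_congr y).2 ?_
    intro a b hab
    obtain ⟨a, rfl⟩ := Submodule.Quotient.mk_surjective _ a
    obtain ⟨b, rfl⟩ := Submodule.Quotient.mk_surjective _ b
    replace hab : (Submodule.Quotient.mk (y • a) : QuotSMulTop x _) = Submodule.Quotient.mk (y • b) := hab
    rw [Submodule.Quotient.eq, Submodule.mem_smul_pointwise_iff_exists] at hab ⊢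
    obtain ⟨c, -, hc⟩ := hab
    obtain ⟨d, hd⟩ := h'.reg2 (a - b) c (by rw [hc, smul_sub])
    exact ⟨d, trivial, hd.symm⟩
  have hy' := (H05EGA4.isSMulRegular_and_flat_of_fibre (A := A) (M := QuotSMulTop x B) y hy).1
  refine ⟨hx, fun a b hab => ?_⟩
  have h0 : (Submodule.Quotient.mk a : QuotSMulTop x B) = 0 := hy' (by
    show y • (Submodule.Quotient.mk a : QuotSMulTop x B) = y • 0
    rw [smul_zero, ← Submodule.Quotient.mk_smul, Submodule.Quotient.mk_eq_zero, hab]
    exact Submodule.smul_mem_pointwise_smul _ _ _ trivial)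
  rw [Submodule.Quotient.mk_eq_zero, Submodule.mem_smul_pointwise_iff_exists] at h0
  obtain ⟨c, -, hc⟩ := h0
  exact ⟨c, hc.symm⟩

theorem mem_powR_pi {ι : Type u} [Finite ι] {n : ℕ} {v : ι → B} (h : ∀ i, v i ∈ powR (A := A) (B := B) B n) :
    v ∈ powR (A := A) (B := B) (ι → B) n := by
  classical
  haveI := Fintype.ofFinite ι
  rw [← Finset.univ_sum_single v]
  refine sum_mem fun i _ => ?_
  have h' := Submodule.mem_map_of_mem (f := LinearMap.single B (fun _ : ι => B) i) (h i)
  rw [powR, Submodule.map_smul''] at h'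
  exact Submodule.smul_mono le_rfl le_top h'

/-- Duals embed in free modules. -/
theorem exists_embed_dual : ∃ (k : ℕ) (j : (D →ₗ[B] B) →ₗ[B] (ULift.{u} (Fin k) → B)), Function.Injective j := by
  obtain ⟨k, s, hs⟩ := Module.Finite.exists_fin (R := B) (M := D)
  refine ⟨k, { toFun := fun θ i => θ (s i.down), map_add' := fun _ _ => rfl, map_smul' := fun _ _ => rfl },
    fun θ θ' h => LinearMap.ext_on hs ?_⟩
  rintro _ ⟨i, rfl⟩
  exact congrFun h ⟨i⟩

variable (hfac : Fac J D) (hx : x ∈ J) (hy : y ∈ J) (hreg : Reg2 x y (QB B A 1))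

include hfac hx hy hreg in
/-- A dual is flat with closed fibre the dual on the fibre if the sections lift level by level. -/
theorem flat_of_hom_surjective (hsurj : ∀ n, Function.Surjective (trans (B := B) A D n)) :
    Module.Flat A (D →ₗ[B] B) ∧ Function.Surjective (red (B := B) A D 1) ∧
      ∀ φ : D →ₗ[B] B, red A D 1 φ = 0 ↔ φ ∈ powR (A := A) (B := B) (D →ₗ[B] B) 1 := by
  obtain ⟨k, j, hj⟩ := exists_embed_dual (B := B) (D := D)
  haveI : Module.Finite B (D →ₗ[B] B) := Module.Finite.of_injective j hj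
  let I : Ideal B := (maximalIdeal A).map (algebraMap A B)
  obtain ⟨c, hc⟩ := Ideal.exists_pow_inf_eq_pow_smul I (LinearMap.range j)
  have hAR : ∀ (n : ℕ) (φ : D →ₗ[B] B), red A D (n + c) φ = 0 → φ ∈ I ^ n • (⊤ : Submodule B (D →ₗ[B] B)) := by
    intro n φ hφ
    have hq : ∀ v, φ v ∈ powR (A := A) (B := B) B (n + c) := fun v =>
      (Submodule.Quotient.mk_eq_zero _).1 (LinearMap.congr_fun hφ v)
    have hjφ : j φ ∈ powR (A := A) (B := B) (ULift.{u} (Fin k) → B) (n + c) := mem_powR_pi fun i => by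
      let pr : (D →ₗ[B] B) →ₗ[B] B := (LinearMap.proj i) ∘ₗ j
      obtain ⟨m, hm⟩ := exists_pow_mem_powR (A := A) hfac x hx (n + c)
      have h := Submodule.mem_map_of_mem (f := pr) (hm φ hφ)
      rw [powR, Submodule.map_smul'', map_smul] at h
      exact mem_powR_of_pow_smul_mem hreg.reg m (n + c) _ (Submodule.smul_mono le_rfl le_top h)
    have hmem : j φ ∈ I ^ (n + c) • (⊤ : Submodule B (ULift.{u} (Fin k) → B)) ⊓ LinearMap.range j := by
      refine ⟨?_, ⟨φ, rfl⟩⟩
      have := hjφ
      rwa [powR, Ideal.map_pow] at this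
    rw [hc (n + c) (Nat.le_add_left c n), Nat.add_sub_cancel] at hmem
    have hmem' : j φ ∈ I ^ n • LinearMap.range j := Submodule.smul_mono le_rfl inf_le_right hmem
    rw [← Submodule.map_top, ← Submodule.map_smul''] at hmem'
    obtain ⟨u, hu, hju⟩ := hmem'
    rwa [hj hju] at hu
  have hregR : Reg2 x y (D →ₗ[B] B) := (reg2_self hreg).hom
  have hregN : Reg2 x y (D →ₗ[B] QB B A 1) := hreg.hom
  have hπ : Function.Surjective (red (B := B) A D 1) := by
    intro e
    let es : ∀ n : ℕ, D →ₗ[B] QB B A (n + 1) := fun n =>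
      Nat.rec e (fun n ih => (hsurj (n + 1) ih).choose) n
    have hes : ∀ n, trans A D (n + 1) (es (n + 1)) = es n := fun n => (hsurj (n + 1) (es n)).choose_spec
    have hes0 : ∀ (n : ℕ) (φ : D →ₗ[B] B) (g : B), red A D (n + 1) φ = g • es n → red A D 1 φ = g • e := by
      intro n
      induction n with
      | zero => exact fun φ g h => h
      | succ n ih =>
        intro φ g h
        refine ih φ g ?_
        rw [← trans_red, h, map_smul, hes]
    obtain ⟨K, s, α, β, hαβ⟩ := hfac x hx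
    obtain ⟨L, s', α', β', hαβ'⟩ := hfac y hy
    have lift : ∀ (s : ℕ) (n : ℕ) (θ : (Fin s → B) →ₗ[B] QB B A n),
        ∃ θ' : (Fin s → B) →ₗ[B] B, Submodule.mkQ _ ∘ₗ θ' = θ :=
      fun s n θ => Module.projective_lifting_property (Submodule.mkQ _) θ (Submodule.mkQ_surjective _)
    let F : (D →ₗ[B] B) × (D →ₗ[B] B) →ₗ[B] (D →ₗ[B] B) :=
      (LinearMap.lsmul B _ (y ^ L)) ∘ₗ LinearMap.fst B _ _ - (LinearMap.lsmul B _ (x ^ K)) ∘ₗ LinearMap.snd B _ _
    obtain ⟨c', hc'⟩ := Ideal.exists_pow_inf_eq_pow_smul I (LinearMap.range F)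
    obtain ⟨u, hu⟩ := lift s _ (es (c' + c) ∘ₗ β)
    obtain ⟨v, hv⟩ := lift s' _ (es (c' + c) ∘ₗ β')
    let a := u ∘ₗ α
    let b := v ∘ₗ α'
    have ha : red A D (c' + c + 1) a = x ^ K • es (c' + c) := LinearMap.ext fun w => by
      show Submodule.Quotient.mk (u (α w)) = x ^ K • es (c' + c) w
      rw [← map_smul, ← hαβ]
      exact LinearMap.congr_fun hu (α w)
    have hb : red A D (c' + c + 1) b = y ^ L • es (c' + c) := LinearMap.ext fun w => by
      show Submodule.Quotient.mk (v (α' w)) = y ^ L • es (c' + c) w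
      rw [← map_smul, ← hαβ']
      exact LinearMap.congr_fun hv (α' w)
    have hδ : F (a, b) ∈ I ^ (c' + 1) • (⊤ : Submodule B (D →ₗ[B] B)) ⊓ LinearMap.range F := by
      refine ⟨hAR (c' + 1) _ ?_, ⟨_, rfl⟩⟩
      rw [show c' + 1 + c = c' + c + 1 by omega]
      show red A D (c' + c + 1) (y ^ L • a - x ^ K • b) = 0
      rw [map_sub, map_smul, map_smul, ha, hb, smul_comm, sub_self]
    rw [hc' (c' + 1) (Nat.le_succ c'), Nat.add_sub_cancel_left, pow_one] at hδ
    have hδ' : F (a, b) ∈ I • LinearMap.range F := Submodule.smul_mono le_rfl inf_le_right hδ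
    rw [← Submodule.map_top, ← Submodule.map_smul''] at hδ'
    obtain ⟨⟨a', b'⟩, hab', hF⟩ := hδ'
    have ha' : a' ∈ I • (⊤ : Submodule B (D →ₗ[B] B)) := by
      have h := Submodule.mem_map_of_mem (f := LinearMap.fst B (D →ₗ[B] B) (D →ₗ[B] B)) hab'
      rw [Submodule.map_smul''] at h
      exact Submodule.smul_mono le_rfl le_top h
    have hFe : y ^ L • (a - a') = x ^ K • (b - b') := by
      have h : F (a, b) - F (a', b') = 0 := by rw [hF, sub_self]
      rw [← map_sub] at h
      exact sub_eq_zero.1 h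
    obtain ⟨r, hr⟩ := hregR.pow K L _ _ hFe
    refine ⟨r, hregN.reg.pow K ?_⟩
    show x ^ K • red A D 1 r = x ^ K • e
    rw [← map_smul, ← hr, map_sub, hes0 _ a _ ha, sub_eq_self]
    refine LinearMap.ext fun w => (Submodule.Quotient.mk_eq_zero _).2 ?_
    have h := Submodule.mem_map_of_mem (f := LinearMap.applyₗ (R := B) w) ha'
    rw [Submodule.map_smul''] at h
    rw [powR, pow_one]
    exact Submodule.smul_mono le_rfl le_top h
  have hN : ∀ a ∈ maximalIdeal A, ∀ φ : D →ₗ[B] QB B A 1, a • φ = 0 := fun a ha φ =>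
    LinearMap.ext fun v => smul_eq_zero_quot a ha _
  obtain ⟨hF, hK⟩ := flat_of_lift j hj hx hy hx hreg.reg (flatOff_dual hfac) (red A D 1) hπ hN hregN
    fun φ hφ g hg => by
      obtain ⟨m, hm⟩ := exists_pow_mem_powR (A := A) hfac g hg 1
      exact ⟨m, hm φ hφ⟩
  exact ⟨hF, hπ, hK⟩

end Dual

end Groth.Agent.H4Rel.Lift
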