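import Mathlib.AlgebraicGeometry.Stalk
import Mathlib.AlgebraicGeometry.Morphisms.Preimmersion
import Mathlib.AlgebraicGeometry.Morphisms.ClosedImmersion

/-!
# Local rings of infinitesimal neighbourhoods of fibres
-/

set_option autoImplicit false
set_option linter.style.haveILetI false

universe u

open AlgebraicGeometry CategoryTheory Limits IsLocalRing

namespace Groth.Agent.H4Rel

variable {X S : Scheme.{u}}

/-- The `k`-th infinitesimal neighbourhood of the closed point of a local ring of `S`, mapped to `S`. -/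
noncomputable def thickMap (s : S) (k : ℕ) :
    Spec (CommRingCat.of (S.presheaf.stalk s ⧸ maximalIdeal (S.presheaf.stalk s) ^ k)) ⟶ S :=
  Spec.map (CommRingCat.ofHom (Ideal.Quotient.mk (maximalIdeal (S.presheaf.stalk s) ^ k))) ≫ S.fromSpecStalk s

instance (s : S) (k : ℕ) : IsPreimmersion (thickMap s k) := by
  haveI : IsClosedImmersion (Spec.map (CommRingCat.ofHom (Ideal.Quotient.mk (maximalIdeal (S.presheaf.stalk s) ^ k)))) :=
    IsClosedImmersion.spec_of_surjective _ Ideal.Quotient.mk_surjective
  delta thickMap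
  infer_instance

variable {f : X ⟶ S} {s : S} {k : ℕ} {X' : Scheme.{u}} {p : X' ⟶ X}
  {f' : X' ⟶ Spec (CommRingCat.of (S.presheaf.stalk s ⧸ maximalIdeal (S.presheaf.stalk s) ^ k))}

/-- The neighbourhood maps by a preimmersion. -/
theorem isPreimmersion_thick (hp : IsPullback p f' f (thickMap s k)) : IsPreimmersion p :=
  MorphismProperty.of_isPullback (P := @IsPreimmersion) hp.flip inferInstance

/-- The local rings of an infinitesimal neighbourhood are surjective images. -/
theorem stalkMap_thick_surjective (hp : IsPullback p f' f (thickMap s k)) (z : X') :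
    Function.Surjective (p.stalkMap z).hom := by
  haveI := isPreimmersion_thick hp
  exact p.stalkMap_surjective z

/-- The local rings of the infinitesimal neighbourhoods of a fibre. -/
theorem ker_stalkMap_thick (hp : IsPullback p f' f (thickMap s k)) (z : X') (hs : f (p z) = s) :
    RingHom.ker (p.stalkMap z).hom =
      (maximalIdeal (S.presheaf.stalk (f (p z))) ^ k).map (f.stalkMap (p z)).hom := by
  subst hs
  haveI := isPreimmersion_thick hp
  set J := (maximalIdeal (S.presheaf.stalk (f (p z))) ^ k).map (f.stalkMap (p z)).hom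
  refine le_antisymm ?_ ?_
  · intro b hb
    by_cases hJ : J = ⊤
    · rw [hJ]; trivial
    haveI : Nontrivial (X.presheaf.stalk (p z) ⧸ J) := Ideal.Quotient.nontrivial_iff.mpr hJ
    haveI : IsLocalRing (X.presheaf.stalk (p z) ⧸ J) := .of_surjective' _ Ideal.Quotient.mk_surjective
    let R := CommRingCat.of (X.presheaf.stalk (p z) ⧸ J)
    let q : X.presheaf.stalk (p z) ⟶ R := CommRingCat.ofHom (Ideal.Quotient.mk J)
    haveI : IsLocalHom q.hom := .of_surjective _ Ideal.Quotient.mk_surjective
    let g : Spec R ⟶ X := Spec.map q ≫ X.fromSpecStalk (p z)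
    let c : CommRingCat.of (S.presheaf.stalk (f (p z)) ⧸ maximalIdeal (S.presheaf.stalk (f (p z))) ^ k) ⟶ R :=
      CommRingCat.ofHom (Ideal.Quotient.lift _ ((Ideal.Quotient.mk J).comp (f.stalkMap (p z)).hom)
        fun a ha => Ideal.Quotient.eq_zero_iff_mem.mpr (Ideal.mem_map_of_mem _ ha))
    have hc : CommRingCat.ofHom (Ideal.Quotient.mk (maximalIdeal (S.presheaf.stalk (f (p z))) ^ k)) ≫ c =
        f.stalkMap (p z) ≫ q := CommRingCat.hom_ext (RingHom.ext fun _ => rfl)
    have hsq : g ≫ f = Spec.map c ≫ thickMap (f (p z)) k := by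
      rw [thickMap, ← Spec.map_comp_assoc, hc, Spec.map_comp_assoc, Scheme.SpecMap_stalkMap_fromSpecStalk,
        Category.assoc]
    let t : Spec R ⟶ X' := hp.lift g (Spec.map c) hsq
    have htg : t ≫ p = g := hp.lift_fst _ _ _
    have htz : t (closedPoint R) = z := by
      apply p.isEmbedding.injective
      show (t ≫ p) (closedPoint R) = p z
      rw [htg]
      show X.fromSpecStalk (p z) (Spec.map q (closedPoint R)) = p z
      rw [Spec_closedPoint]
      exact Scheme.fromSpecStalk_closedPoint
    have key : ∀ w, t (closedPoint R) = w → ∃ v : X'.presheaf.stalk w ⟶ R, Spec.map v ≫ X'.fromSpecStalk w = t := by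
      rintro w rfl
      exact ⟨_, Scheme.Spec_stalkClosedPointTo_fromSpecStalk t⟩
    obtain ⟨v, hv⟩ := key z htz
    have hq : p.stalkMap z ≫ v = q := by
      apply Spec.map_injective
      rw [← cancel_mono (X.fromSpecStalk (p z)), Spec.map_comp, Category.assoc,
        Scheme.SpecMap_stalkMap_fromSpecStalk, reassoc_of% hv, htg]
    have h := congr($(hq).hom b)
    rw [CommRingCat.hom_comp, RingHom.comp_apply, RingHom.mem_ker.1 hb, map_zero] at h
    exact Ideal.Quotient.eq_zero_iff_mem.mp h.symm
  · rw [Ideal.map_le_iff_le_comap]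
    intro a ha
    obtain ⟨u, hu⟩ : ∃ u, Spec.map u = X'.fromSpecStalk z ≫ f' := ⟨_, Spec.map_preimage _⟩
    have h : CommRingCat.ofHom (Ideal.Quotient.mk (maximalIdeal (S.presheaf.stalk (f (p z))) ^ k)) ≫ u =
        f.stalkMap (p z) ≫ p.stalkMap z := by
      apply Spec.map_injective
      rw [← cancel_mono (S.fromSpecStalk (f (p z))), Spec.map_comp, Spec.map_comp, hu, Category.assoc,
        Category.assoc, Category.assoc, Scheme.SpecMap_stalkMap_fromSpecStalk,
        Scheme.SpecMap_stalkMap_fromSpecStalk_assoc, hp.w]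
      rfl
    have h' := congr($(h).hom a)
    rw [CommRingCat.hom_comp, RingHom.comp_apply, CommRingCat.hom_ofHom, Ideal.Quotient.eq_zero_iff_mem.mpr ha,
      map_zero] at h'
    exact RingHom.mem_ker.2 h'.symm

end Groth.Agent.H4Rel
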