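import Groth.Agent.H4Rel.ThickLevels

/-!
# Relative `(S₂)` and invertibility from the Artinian base changes
-/

set_option autoImplicit false
set_option linter.style.haveILetI false
set_option linter.unusedSectionVars false
set_option backward.isDefEq.respectTransparency false
set_option maxHeartbeats 2000000
set_option synthInstance.maxHeartbeats 400000

universe u

open CategoryTheory CategoryTheory.Limits AlgebraicGeometry IsLocalRing TensorProduct
open Groth.Agent.H16Derived

attribute [local instance] HasDerivedCategory.standard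

namespace Groth.Agent.H4Rel

attribute [local instance] H06Mod.stalkAlgebra

theorem isArtinianRing_quot_pow {R : Type u} [CommRing R] [IsLocalRing R] [IsNoetherianRing R] (n : ℕ) :
    IsArtinianRing (R ⧸ maximalIdeal R ^ (n + 1)) := by
  refine IsLocalRing.quotient_artinian_of_mem_minimalPrimes_of_isLocalRing _
    ⟨⟨Ideal.IsMaximal.isPrime inferInstance, Ideal.pow_le_self (Nat.succ_ne_zero n)⟩, fun J hJ _ x hx =>
      hJ.1.mem_of_pow_mem (n + 1) (hJ.2 (Ideal.pow_mem_pow hx (n + 1)))⟩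

variable (A : Type u) [CommRing A] [IsNoetherianRing A] (Y : Scheme.{u}) [Y.Over (Spec (CommRingCat.of A))]
  [IsProper (Y ↘ Spec (CommRingCat.of A))] (d : ℕ)
  (hd : Cyc.HasRelDim (Y ↘ Spec (CommRingCat.of A)) d) {ω : Y.Modules}
  (hω : RelCanon.IsDualizingSheaf A Y d ω)
  (hS : RelCanon.IsSkMor (Y ↘ Spec (CommRingCat.of A)) 2)
  (hG : ∀ y : Y, y ∉ RelCanon.gorLocus (Y ↘ Spec (CommRingCat.of A)) → 2 ≤ fibDim A Y y)

/-- `P` holds for the reflexive power on every Artinian base change of `Y` at `x`, the base rings being quotients of the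
local ring at `t`. -/
def AtLevels (t : Spec (CommRingCat.of A)) (x : Y)
    (P : ∀ (B : Type u) [CommRing B] [IsArtinianRing B] (Y' : Scheme.{u}) [Y'.Over (Spec (CommRingCat.of B))],
      Y'.Modules → Y' → Prop) : Prop :=
  ∀ (B : Type u) [CommRing B] [IsArtinianRing B] [IsLocalRing B]
    (φ : (Spec (CommRingCat.of A)).presheaf.stalk t →+* B), Function.Surjective φ →
    ∀ (Y' : Scheme.{u}) [Y'.Over (Spec (CommRingCat.of B))] (p : Y' ⟶ Y),
      IsPullback p (Y' ↘ Spec (CommRingCat.of B)) (Y ↘ Spec (CommRingCat.of A))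
        (Spec.map (CommRingCat.ofHom φ) ≫ (Spec (CommRingCat.of A)).fromSpecStalk t) →
      ∀ (ω' : Y'.Modules), RelCanon.IsDualizingSheaf B Y' d ω' → ∀ y' : Y', p y' = x → P B Y' ω' y'

include hd hω hS hG in
/-- The reflexive power is flat with fibre the reflexive power of the fibre if the
transition maps are surjective. -/
theorem flat_and_fibre_of_surjective (m : ℤ) (t : Spec (CommRingCat.of A)) (z : (Y ↘ Spec (CommRingCat.of A)).fiber t)
    (U : Y.Opens) (hU : (U : Set Y) = RelCanon.gorLocus (Y ↘ Spec (CommRingCat.of A)))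
    (hy : ((Y ↘ Spec (CommRingCat.of A)).fiberι t) z ∉ RelCanon.gorLocus (Y ↘ Spec (CommRingCat.of A)))
    (hsurj : letI := ((Y ↘ Spec (CommRingCat.of A)).stalkMap (((Y ↘ Spec (CommRingCat.of A)).fiberι t) z)).hom.toAlgebra
      ∀ c c' : Y.presheaf.stalk (((Y ↘ Spec (CommRingCat.of A)).fiberι t) z),
        c ∈ offIdeal U (((Y ↘ Spec (CommRingCat.of A)).fiberι t) z) →
        Lift.Reg2 c c' (Lift.QB (Y.presheaf.stalk (((Y ↘ Spec (CommRingCat.of A)).fiberι t) z))
          ((Spec (CommRingCat.of A)).presheaf.stalk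
            ((Y ↘ Spec (CommRingCat.of A)) (((Y ↘ Spec (CommRingCat.of A)).fiberι t) z))) 1) →
        ∀ n, Function.Surjective (Lift.trans (B := Y.presheaf.stalk (((Y ↘ Spec (CommRingCat.of A)).fiberι t) z))
          ((Spec (CommRingCat.of A)).presheaf.stalk
            ((Y ↘ Spec (CommRingCat.of A)) (((Y ↘ Spec (CommRingCat.of A)).fiberι t) z)))
          ((RefHull.dual (RelCanon.refPowZ ω m)).presheaf.stalk (((Y ↘ Spec (CommRingCat.of A)).fiberι t) z)) n))
    {ωt : ((Y ↘ Spec (CommRingCat.of A)).fiber t).Modules}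
    (hωt : @RelCanon.IsDualizingSheaf ((Spec (CommRingCat.of A)).residueField t) _
      ((Y ↘ Spec (CommRingCat.of A)).fiber t) ⟨(Y ↘ Spec (CommRingCat.of A)).fiberToSpecResidueField t⟩ d ωt) :
    FlatMod.IsFlatOverAt (Y ↘ Spec (CommRingCat.of A)) (RelCanon.refPowZ ω m)
        (((Y ↘ Spec (CommRingCat.of A)).fiberι t) z) ∧
      Nonempty (((Scheme.Modules.pullback ((Y ↘ Spec (CommRingCat.of A)).fiberι t)).obj
          (RelCanon.refPowZ ω m)).presheaf.stalk z ≃ₗ[((Y ↘ Spec (CommRingCat.of A)).fiber t).presheaf.stalk z]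
        (RelCanon.refPowZ ωt m).presheaf.stalk z) := by
  let f := Y ↘ Spec (CommRingCat.of A)
  haveI : Flat f := hS.1
  haveI := isNoetherian_of_proper A Y
  haveI : LocallyOfFinitePresentation f := inferInstance
  let K := (Spec (CommRingCat.of A)).residueField t
  letI : (f.fiber t).Over (Spec (CommRingCat.of K)) := ⟨f.fiberToSpecResidueField t⟩
  haveI : IsProper (f.fiber t ↘ Spec (CommRingCat.of K)) :=
    MorphismProperty.pullback_snd (P := @IsProper) _ _ inferInstance
  haveI := isNoetherian_of_proper K (f.fiber t)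
  have hsq : IsPullback (f.fiberι t) (f.fiber t ↘ Spec (CommRingCat.of K)) f
      ((Spec (CommRingCat.of A)).fromSpecResidueField t) := IsPullback.of_hasPullback _ _
  obtain rfl : U = ⟨_, S3617.result Y _ f⟩ := TopologicalSpace.Opens.ext hU
  let U : Y.Opens := ⟨_, S3617.result Y _ f⟩
  let y := f.fiberι t z
  have hty : f y = t := (f.range_fiberι t).subset (Set.mem_range_self z)
  let B := Y.presheaf.stalk y
  let A₀ := (Spec (CommRingCat.of A)).presheaf.stalk (f y)
  letI : Algebra A₀ B := (f.stalkMap y).hom.toAlgebra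
  haveI : IsLocalHom (algebraMap A₀ B) := inferInstanceAs (IsLocalHom (f.stalkMap y).hom)
  haveI : Module.Flat A₀ B := Flat.stalkMap f y
  let C := (f.fiber t).presheaf.stalk z
  have hs : Function.Surjective (algebraMap B C) := (f.fiberι t).stalkMap_surjective z
  have hkC : RingHom.ker (algebraMap B C) = (maximalIdeal A₀).map (algebraMap A₀ B) := ker_fiberι_stalkMap f t z
  haveI : IsLocalHom (algebraMap B C) := inferInstanceAs (IsLocalHom ((f.fiberι t).stalkMap z).hom)
  let J := offIdeal U y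
  have hJC : J.map (algebraMap B C) ≠ ⊤ := ne_top_of_le_ne_top (maximalIdeal.isMaximal C).ne_top
    (Ideal.map_le_iff_le_comap.2 fun a ha =>
      map_nonunit (algebraMap B C) a (offIdeal_le_maximalIdeal U hy ha))
  have hP1 : Lift.powR (A := A₀) (B := B) B 1 = RingHom.ker (algebraMap B C) := by
    rw [hkC, Lift.powR, pow_one, smul_eq_mul, Ideal.mul_top]
  let eC : Lift.QB B A₀ 1 ≃ₗ[B] C := (Submodule.quotEquivOfEq _ _ hP1).trans
    (Ideal.quotientKerAlgEquivOfSurjective (f := Algebra.ofId B C) hs).toLinearEquiv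
  obtain ⟨c, c', hc, hc', hcc⟩ : ∃ a b : B, a ∈ J ∧ b ∈ J ∧ Lift.Reg2 a b (Lift.QB B A₀ 1) := by
    obtain ⟨a, b, ha, hb, hab⟩ := exists_reg2_stalk (H10Coh.isCoh_structureModule' (f.fiber t)) z _ hJC
      fun p hp => by
        rw [H4Depth.depth_congr (H29Ref.unitEquiv (X := f.fiber t) _).symm]
        refine two_le_depth_fiber_stalk A Y hS t _ (hG _ ?_)
        rw [← Scheme.Hom.comp_apply, ← Scheme.SpecMap_stalkMap_fromSpecStalk, Scheme.Hom.comp_apply]
        exact notMem_of_offIdeal_le U y (Ideal.map_le_iff_le_comap.1 hp)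
    obtain ⟨a, ha', rfl⟩ := (Ideal.mem_map_iff_of_surjective _ hs).1 ha
    obtain ⟨b, hb', rfl⟩ := (Ideal.mem_map_iff_of_surjective _ hs).1 hb
    have hC := hab.congr (H29Ref.unitEquiv (X := f.fiber t) z).symm
    refine ⟨a, b, ha', hb', Lift.Reg2.congr ⟨fun v v' hv => hC.reg ?_, fun v v' hv => ?_⟩ eC.symm⟩
    · show algebraMap B C a • v = algebraMap B C a • v'
      rwa [algebraMap_smul, algebraMap_smul]
    · obtain ⟨r, hr⟩ := hC.reg2 v v' (by rw [algebraMap_smul, algebraMap_smul, hv])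
      exact ⟨r, by rw [hr, algebraMap_smul]⟩
  obtain ⟨G, hG', eG⟩ := exists_refPowZ_eq (isCoh_and_two_le_depth A Y d hd hω).1 m
  have hRd : ∀ x, x ∉ U → (2 : ℕ∞) ≤ LocCoh.depth (Y.presheaf.stalk x) ((RelCanon.refPowZ ω m).presheaf.stalk x) :=
    fun x hx => by rw [eG]; exact two_le_depth_ddual A Y hS G hG' x (hG x hx)
  let R := RelCanon.refPowZ ω m
  have hR : Coh.IsCoh (RelCanon.refPowZ ω m) := eG.symm ▸ H29Ref.isCoh_ddual G hG'
  let D := (RefHull.dual R).presheaf.stalk y
  haveI : Module.Finite B D := H06Mod.finite_stalk _ (H29Ref.isCoh_dual R hR).2 y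
  -- the transition maps
  have hsurj' := hsurj c c' hc hcc
  obtain ⟨hflat, hsur, hker⟩ := Lift.flat_of_hom_surjective (fac_dual_refPowZ A Y d hd hω hS m U rfl y) hc hc' hcc hsurj'
  -- the stalk is the dual of `D`
  obtain ⟨i⟩ : Nonempty (RefHull.ddual R ≅ R) := by
    refine nonempty_iso_of_restrict U (H29Ref.isCoh_ddual R hR) hR
      (fun x hx => two_le_depth_ddual A Y hS R hR x (hG x hx))
      hRd ?_
    obtain ⟨e⟩ := nonempty_restrict_ddual U R
    obtain ⟨e₆⟩ := nonempty_restrict_refPowZ U ω m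
    obtain ⟨e'⟩ := nonempty_ddual_of_isInvertible (H11Tilde.isInvertible_of_iso e₆.symm
      (isInvertible_refPowZ (isInvertible_restrict_gor A Y d hd hω hS.1) m))
    exact ⟨e ≪≫ e'⟩
  let eR : R.presheaf.stalk y ≃ₗ[B] (D →ₗ[B] B) := (H06EGA9.stalkIso i y).symm.trans
    ((LinearEquiv.ofBijective (RefHull.evalStalk (RefHull.dual R) (Coh.structureModule Y) y)
      (H29Ref.evalStalk_bijective (RefHull.dual R) (Coh.structureModule Y)
        (H10Coh.isFP_of_isCoh _ (H29Ref.isCoh_dual R hR)) y)).trans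
      (LinearEquiv.congrRight (H29Ref.unitEquiv (X := Y) y).symm))
  refine ⟨?_, ?_⟩
  · letI : Module A₀ (R.presheaf.stalk y) := FlatMod.moduleStalkOver f R y
    haveI : IsScalarTower A₀ B (R.presheaf.stalk y) := .of_algebraMap_smul fun _ _ => rfl
    exact Module.Flat.of_linearEquiv (eR.restrictScalars A₀)
  · let φ := (LinearEquiv.congrRight eC).toLinearMap ∘ₗ Lift.red (B := B) A₀ D 1
    have hφs : Function.Surjective φ := (LinearEquiv.congrRight eC).surjective.comp hsur
    have hφk : ∀ v, φ v = 0 ↔ v ∈ Lift.powR (A := A₀) (B := B) (D →ₗ[B] B) 1 := fun v => by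
      rw [← hker v]
      exact (LinearEquiv.congrRight eC).map_eq_zero_iff
    let Φ : C ⊗[B] (D →ₗ[B] B) ≃ₗ[B] (D →ₗ[B] C) :=
      (Lift.fibreQuot (A := A₀) hs hkC).trans
        ((Submodule.quotEquivOfEq _ _ (Submodule.ext fun v => (hφk v).symm)).trans
          (LinearMap.quotKerEquivOfSurjective φ hφs))
    obtain ⟨L⟩ := nonempty_hom_dual_bc A Y d hd hω hS hG hsq hωt m z
    exact ⟨(LinearEquiv.ofBijective _ (H06Mod.pullStalkLin_bijective (f.fiberι t) R z)).symm.trans
      ((TensorProduct.AlgebraTensorModule.congr (LinearEquiv.refl C C) eR).trans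
        ((LinearEquiv.extendScalarsOfSurjective hs Φ).trans L))⟩

include hd hω hS hG in
/-- The reflexive power is flat with fibre the reflexive power of the fibre if it is relatively `(S₂)` on the
infinitesimal neighbourhoods. -/
theorem flat_and_fibre_of_levels (m : ℤ) (t : Spec (CommRingCat.of A)) (z : (Y ↘ Spec (CommRingCat.of A)).fiber t)
    (hy : ((Y ↘ Spec (CommRingCat.of A)).fiberι t) z ∉ RelCanon.gorLocus (Y ↘ Spec (CommRingCat.of A)))
    (hlev : AtLevels A Y d t (((Y ↘ Spec (CommRingCat.of A)).fiberι t) z)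
      fun B _ _ Y' _ ω' y' => RelCanon.RelSkAt (Y' ↘ Spec (CommRingCat.of B)) 2 (RelCanon.refPowZ ω' m) y')
    {ωt : ((Y ↘ Spec (CommRingCat.of A)).fiber t).Modules}
    (hωt : @RelCanon.IsDualizingSheaf ((Spec (CommRingCat.of A)).residueField t) _
      ((Y ↘ Spec (CommRingCat.of A)).fiber t) ⟨(Y ↘ Spec (CommRingCat.of A)).fiberToSpecResidueField t⟩ d ωt) :
    FlatMod.IsFlatOverAt (Y ↘ Spec (CommRingCat.of A)) (RelCanon.refPowZ ω m)
        (((Y ↘ Spec (CommRingCat.of A)).fiberι t) z) ∧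
      Nonempty (((Scheme.Modules.pullback ((Y ↘ Spec (CommRingCat.of A)).fiberι t)).obj
          (RelCanon.refPowZ ω m)).presheaf.stalk z ≃ₗ[((Y ↘ Spec (CommRingCat.of A)).fiber t).presheaf.stalk z]
        (RelCanon.refPowZ ωt m).presheaf.stalk z) := by
  let f := Y ↘ Spec (CommRingCat.of A)
  haveI : Flat f := hS.1
  haveI := isNoetherian_of_proper A Y
  haveI : LocallyOfFinitePresentation f := inferInstance
  let U : Y.Opens := ⟨_, S3617.result Y _ f⟩
  let y := f.fiberι t z
  have hty : f y = t := (f.range_fiberι t).subset (Set.mem_range_self z)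
  refine flat_and_fibre_of_surjective A Y d hd hω hS hG m t z U rfl hy ?_ hωt
  intro c c' hc hcc n
  let S₀ := (Spec (CommRingCat.of A)).presheaf.stalk t
  let Ak := S₀ ⧸ maximalIdeal S₀ ^ (n + 1)
  haveI : IsArtinianRing Ak := isArtinianRing_quot_pow n
  haveI : Nontrivial Ak := Ideal.Quotient.nontrivial_iff.mpr
    (ne_top_of_le_ne_top (maximalIdeal.isMaximal S₀).ne_top (Ideal.pow_le_self (Nat.succ_ne_zero n)))
  haveI : IsLocalRing Ak := .of_surjective' _ Ideal.Quotient.mk_surjective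
  letI : (pullback f (thickMap t (n + 1))).Over (Spec (CommRingCat.of Ak)) := ⟨pullback.snd _ _⟩
  have hp : IsPullback (pullback.fst f (thickMap t (n + 1)))
      (pullback f (thickMap t (n + 1)) ↘ Spec (CommRingCat.of Ak)) f (thickMap t (n + 1)) :=
    IsPullback.of_hasPullback _ _
  haveI : IsProper (pullback f (thickMap t (n + 1)) ↘ Spec (CommRingCat.of Ak)) :=
    MorphismProperty.pullback_snd (P := @IsProper) _ _ inferInstance
  obtain ⟨ω', hω'⟩ := exists_isDualizingSheaf Ak (pullback f (thickMap t (n + 1))) d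
    (hasRelDim_of_isPullback hp hd)
  obtain ⟨y', hy', -⟩ := Scheme.Pullback.exists_preimage_pullback (f := f) (g := thickMap t (n + 1)) y
    (closedPoint Ak) (by
      rw [hty, thickMap, Scheme.Hom.comp_apply]
      haveI : IsLocalHom (CommRingCat.ofHom (Ideal.Quotient.mk (maximalIdeal S₀ ^ (n + 1)))).hom :=
        IsLocalHom.of_surjective _ Ideal.Quotient.mk_surjective
      erw [Spec_closedPoint]
      exact Scheme.fromSpecStalk_closedPoint.symm)
  exact trans_surjective_level A Y d hd hω hS hG m U rfl y hy n t hty hp hω' y' hy'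
    (hlev Ak (Ideal.Quotient.mk _) Ideal.Quotient.mk_surjective _ _ hp ω' hω' y' hy') hc hcc

include hd hω hS hG in
/-- Relative `(S₂)` from the Artinian base changes. -/
theorem relSkAt_of_levels (m : ℤ) (y : Y)
    (hlev : AtLevels A Y d ((Y ↘ Spec (CommRingCat.of A)) y) y
      fun B _ _ Y' _ ω' y' => RelCanon.RelSkAt (Y' ↘ Spec (CommRingCat.of B)) 2 (RelCanon.refPowZ ω' m) y') :
    RelCanon.RelSkAt (Y ↘ Spec (CommRingCat.of A)) 2 (RelCanon.refPowZ ω m) y := by
  let f := Y ↘ Spec (CommRingCat.of A)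
  haveI : Flat f := hS.1
  haveI := isNoetherian_of_proper A Y
  obtain ⟨G, hG', eG⟩ := exists_refPowZ_eq (isCoh_and_two_le_depth A Y d hd hω).1 m
  have hR : Coh.IsCoh (RelCanon.refPowZ ω m) := eG.symm ▸ H29Ref.isCoh_ddual G hG'
  by_cases hy : y ∈ RelCanon.gorLocus f
  · exact relSkAt_of_invertibleAt A Y hS hR.1 y (invertibleAt_refPowZ_of_gor A Y d hd hω hS m y hy)
  let t := f y
  let z := f.asFiber y
  let K := (Spec (CommRingCat.of A)).residueField t
  letI : (f.fiber t).Over (Spec (CommRingCat.of K)) := ⟨f.fiberToSpecResidueField t⟩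
  haveI : IsProper (f.fiber t ↘ Spec (CommRingCat.of K)) :=
    MorphismProperty.pullback_snd (P := @IsProper) _ _ inferInstance
  haveI := isNoetherian_of_proper K (f.fiber t)
  have hsq : IsPullback (f.fiberι t) (f.fiber t ↘ Spec (CommRingCat.of K)) f
      ((Spec (CommRingCat.of A)).fromSpecResidueField t) := IsPullback.of_hasPullback _ _
  have hdt := hasRelDim_of_isPullback hsq hd
  obtain ⟨ωt, hωt⟩ := exists_isDualizingSheaf K (f.fiber t) d hdt
  have hyz : f.fiberι t z = y := f.fiberι_asFiber y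
  obtain ⟨hflat, ⟨L⟩⟩ := flat_and_fibre_of_levels A Y d hd hω hS hG m t z (by rw [hyz]; exact hy)
    (by rw [hyz]; exact hlev) hωt
  refine ⟨hyz ▸ hflat, ?_⟩
  obtain ⟨Gt, hGt, eGt⟩ := exists_refPowZ_eq (isCoh_and_two_le_depth K (f.fiber t) d hdt hωt).1 m
  have hsk : RelCanon.SkAt 2 (RelCanon.refPowZ ωt m) z := by
    rw [eGt]
    exact hasSk_two_homSh (RefHull.dual Gt) (Coh.structureModule (f.fiber t)) (H29Ref.isCoh_dual Gt hGt)
      (H10Coh.isCoh_structureModule' (f.fiber t)) z (skAt_fiber A Y hS t z)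
  exact (H06EGA12.hasSk_iff_of_semilinear (RingHom.id _) Function.surjective_id L.symm.toAddEquiv
    (fun r v => map_smul L.symm r v) 2).2 hsk

include hd hω hS hG in
/-- Invertibility from the Artinian base changes. -/
theorem invertibleAt_of_levels (m : ℤ) (y : Y)
    (hlev : AtLevels A Y d ((Y ↘ Spec (CommRingCat.of A)) y) y
      fun _ _ _ _ _ ω' y' => RelCanon.InvertibleAt (RelCanon.refPowZ ω' m) y') :
    RelCanon.InvertibleAt (RelCanon.refPowZ ω m) y := by
  let f := Y ↘ Spec (CommRingCat.of A)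
  haveI : Flat f := hS.1
  haveI := isNoetherian_of_proper A Y
  obtain ⟨G, hG', eG⟩ := exists_refPowZ_eq (isCoh_and_two_le_depth A Y d hd hω).1 m
  have hR : Coh.IsCoh (RelCanon.refPowZ ω m) := eG.symm ▸ H29Ref.isCoh_ddual G hG'
  by_cases hy : y ∈ RelCanon.gorLocus f
  · exact invertibleAt_refPowZ_of_gor A Y d hd hω hS m y hy
  let t := f y
  let z := f.asFiber y
  let K := (Spec (CommRingCat.of A)).residueField t
  letI : (f.fiber t).Over (Spec (CommRingCat.of K)) := ⟨f.fiberToSpecResidueField t⟩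
  haveI : IsProper (f.fiber t ↘ Spec (CommRingCat.of K)) :=
    MorphismProperty.pullback_snd (P := @IsProper) _ _ inferInstance
  haveI := isNoetherian_of_proper K (f.fiber t)
  have hsq : IsPullback (f.fiberι t) (f.fiber t ↘ Spec (CommRingCat.of K)) f
      ((Spec (CommRingCat.of A)).fromSpecResidueField t) := IsPullback.of_hasPullback _ _
  have hdt := hasRelDim_of_isPullback hsq hd
  obtain ⟨ωt, hωt⟩ := exists_isDualizingSheaf K (f.fiber t) d hdt
  have hyz : f.fiberι t z = y := f.fiberι_asFiber y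
  have hlev' : AtLevels A Y d t (f.fiberι t z)
      fun B _ _ Y' _ ω' y' => RelCanon.RelSkAt (Y' ↘ Spec (CommRingCat.of B)) 2 (RelCanon.refPowZ ω' m) y' := by
    intro B _ _ _ φ hφ Y' _ p hp ω' hω' y' hy'
    haveI : IsProper (Y' ↘ Spec (CommRingCat.of B)) := MorphismProperty.of_isPullback (P := @IsProper) hp inferInstance
    haveI := isNoetherian_of_proper B Y'
    obtain ⟨G', hG'', eG'⟩ := exists_refPowZ_eq
      (isCoh_and_two_le_depth B Y' d (hasRelDim_of_isPullback hp hd) hω').1 m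
    exact relSkAt_of_invertibleAt B Y' (isSkMor_bc A Y hp hS)
      ((eG'.symm ▸ H29Ref.isCoh_ddual G' hG'' : Coh.IsCoh (RelCanon.refPowZ ω' m)).1)
      y' (hlev B φ hφ Y' p hp ω' hω' y' (hy'.trans hyz))
  obtain ⟨hflat, ⟨L⟩⟩ := flat_and_fibre_of_levels A Y d hd hω hS hG m t z (by rw [hyz]; exact hy) hlev' hωt
  have hinvt : RelCanon.InvertibleAt (RelCanon.refPowZ ωt m) z :=
    hlev K ((Spec (CommRingCat.of A)).residue t).hom IsLocalRing.residue_surjective (f.fiber t) (f.fiberι t) hsq ωt hωt z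
      hyz
  obtain ⟨Gt, hGt, eGt⟩ := exists_refPowZ_eq (isCoh_and_two_le_depth K (f.fiber t) d hdt hωt).1 m
  obtain ⟨e⟩ := nonempty_stalk_equiv_of_invertibleAt
    (eGt.symm ▸ H29Ref.isCoh_ddual Gt hGt : Coh.IsCoh (RelCanon.refPowZ ωt m)).1 hinvt
  refine invertibleAt_of_fibre f hR y (hyz ▸ hflat) t z hyz ?_
  exact H29Ref.exists_iso_of_isFreeOfRankNear_one _ _ (H8Props.FunDescent.isFreeOfRankNear_of_stalkFree_of_isFP _
    (H10Coh.isFP_of_isCoh _ (isCohPull _ hR)) ⟨(Module.Basis.singleton (Fin 1) _).map (L.trans e).symm⟩)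

/-- The local ring of `Spec A` at `t` as a localisation of `A`. -/
noncomputable def stalkLocEquiv (t : Spec (CommRingCat.of A)) :
    Localization.AtPrime t.asIdeal ≃+* (Spec (CommRingCat.of A)).presheaf.stalk t :=
  (StructureSheaf.stalkIso A t).toRingEquiv

theorem specMap_stalkLocEquiv (t : Spec (CommRingCat.of A)) {B : Type u} [CommRing B]
    (φ : (Spec (CommRingCat.of A)).presheaf.stalk t →+* B) :
    Spec.map (CommRingCat.ofHom ((φ.comp (stalkLocEquiv A t).toRingHom).comp
        (algebraMap A (Localization.AtPrime t.asIdeal)))) =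
      Spec.map (CommRingCat.ofHom φ) ≫ (Spec (CommRingCat.of A)).fromSpecStalk t := by
  rw [Spec.fromSpecStalk_eq', ← Spec.map_comp]
  congr 1
  ext a
  exact congrArg φ ((StructureSheaf.stalkIso A t).commutes a)

/-- The Artinian base changes through the localisation. -/
theorem atLevels_iff (t : Spec (CommRingCat.of A)) (x : Y)
    (P : ∀ (B : Type u) [CommRing B] [IsArtinianRing B] (Y' : Scheme.{u}) [Y'.Over (Spec (CommRingCat.of B))],
      Y'.Modules → Y' → Prop) :
    AtLevels A Y d t x P ↔ ∀ (B : Type u) [CommRing B] [IsArtinianRing B] [IsLocalRing B]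
      (ψ : Localization.AtPrime t.asIdeal →+* B), Function.Surjective ψ →
      ∀ (Y' : Scheme.{u}) [Y'.Over (Spec (CommRingCat.of B))] (p : Y' ⟶ Y),
        IsPullback p (Y' ↘ Spec (CommRingCat.of B)) (Y ↘ Spec (CommRingCat.of A))
          (Spec.map (CommRingCat.ofHom (ψ.comp (algebraMap A (Localization.AtPrime t.asIdeal))))) →
        ∀ (ω' : Y'.Modules), RelCanon.IsDualizingSheaf B Y' d ω' → ∀ y' : Y', p y' = x → P B Y' ω' y' := by
  constructor
  · intro h B _ _ _ ψ hψ Y' _ p hp
    refine h B (ψ.comp (stalkLocEquiv A t).symm.toRingHom) (hψ.comp (stalkLocEquiv A t).symm.surjective) Y' p ?_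
    rw [← specMap_stalkLocEquiv]
    convert hp using 4
    exact RingHom.ext fun a => congrArg ψ ((stalkLocEquiv A t).symm_apply_apply a)
  · intro h B _ _ _ φ hφ Y' _ p hp
    refine h B (φ.comp (stalkLocEquiv A t).toRingHom) (hφ.comp (stalkLocEquiv A t).surjective) Y' p ?_
    rw [specMap_stalkLocEquiv]
    exact hp

end Groth.Agent.H4Rel
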