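import Groth.Agent.H4Rel.TwistAlg

/-!
# Surjectivity of the transition maps from depth two level by level
-/

set_option autoImplicit false
set_option linter.style.haveILetI false
set_option linter.unusedSectionVars false
set_option maxHeartbeats 800000

universe u

open IsLocalRing

namespace Groth.Agent.H4Rel.Lift

variable {A B : Type u} [CommRing A] [CommRing B] [Algebra A B] [IsLocalRing A]
  {D : Type u} [AddCommGroup D] [Module B D] {J : Ideal B} {a b : B}

/-- Homomorphisms out of a free module of finite rank with values in a submodule of multiples. -/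
theorem mem_smul_top_of_forall' {Q : Type u} [AddCommGroup Q] [Module B Q] {s : ℕ} (I : Ideal B)
    (φ : (Fin s → B) →ₗ[B] Q) (h : ∀ v, φ v ∈ I • (⊤ : Submodule B Q)) :
    φ ∈ I • (⊤ : Submodule B ((Fin s → B) →ₗ[B] Q)) := by
  classical
  have e : φ = ∑ j, (LinearMap.proj j : (Fin s → B) →ₗ[B] B).smulRight (φ (Pi.single j 1)) := by
    refine LinearMap.pi_ext' fun i => LinearMap.ext_ring ?_
    simp [Pi.single_apply]
  rw [e]
  refine sum_mem fun j _ => ?_
  have h' := Submodule.mem_map_of_mem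
    (f := LinearMap.smulRightₗ (R := B) (M := Q) (LinearMap.proj j : (Fin s → B) →ₗ[B] B)) (h (Pi.single j 1))
  rw [Submodule.map_smul''] at h'
  exact Submodule.smul_mono le_rfl le_top h'

/-- The kernel of a transition map is, off `V(J)`, the multiples of `m ^ n`. -/
theorem exists_smul_mem_powR_of_trans_eq_zero (hfac : Fac J D) (n : ℕ) {g : B} (hg : g ∈ J)
    (φ : D →ₗ[B] QB B A (n + 1)) (hφ : trans A D n φ = 0) :
    ∃ K : ℕ, g ^ K • φ ∈ powR (A := A) (B := B) (D →ₗ[B] QB B A (n + 1)) n := by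
  obtain ⟨K, s, α, β, hαβ⟩ := hfac g hg
  refine ⟨K, ?_⟩
  have hv : ∀ v, φ v ∈ powR (A := A) (B := B) (QB B A (n + 1)) n := fun v => by
    obtain ⟨c, hc⟩ := Submodule.Quotient.mk_surjective _ (φ v)
    have h0 : (Submodule.Quotient.mk c : QB B A n) = 0 := by
      have := LinearMap.congr_fun hφ v
      rwa [trans, LinearMap.compRight_apply, LinearMap.comp_apply, ← hc] at this
    have h1 := Submodule.mem_map_of_mem (f := (powR (A := A) (B := B) B (n + 1)).mkQ)
      ((Submodule.Quotient.mk_eq_zero _).1 h0)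
    have h2 : (powR (A := A) (B := B) B (n + 1)).mkQ c ∈
        Submodule.map (powR (A := A) (B := B) B (n + 1)).mkQ
          ((maximalIdeal A ^ n).map (algebraMap A B) • (⊤ : Submodule B B)) := h1
    rw [Submodule.map_smul''] at h2
    rw [← hc]
    exact Submodule.smul_mono le_rfl le_top h2
  have e : g ^ K • φ = LinearMap.lcomp B (QB B A (n + 1)) α (φ ∘ₗ β) := LinearMap.ext fun v => by simp [hαβ]
  rw [e]
  have h := Submodule.mem_map_of_mem (f := LinearMap.lcomp B (QB B A (n + 1)) α)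
    (mem_smul_top_of_forall' ((maximalIdeal A ^ n).map (algebraMap A B)) (φ ∘ₗ β) fun v => hv _)
  rw [Submodule.map_smul''] at h
  exact Submodule.smul_mono le_rfl le_top h

/-- Transition maps are surjective off `V(J)`. -/
theorem exists_smul_mem_range_trans (hfac : Fac J D) (n : ℕ) {g : B} (hg : g ∈ J) (w : D →ₗ[B] QB B A n) :
    ∃ K : ℕ, g ^ K • w ∈ LinearMap.range (trans A D n) := by
  obtain ⟨K, s, α, β, hαβ⟩ := hfac g hg
  obtain ⟨θ, hθ⟩ := Module.projective_lifting_property
    (Submodule.factor (powR_antitone (A := A) (B := B) (M := B) (Nat.le_succ n))) (w ∘ₗ β)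
    (Submodule.factor_surjective _)
  refine ⟨K, θ ∘ₗ α, LinearMap.ext fun v => ?_⟩
  rw [trans, LinearMap.compRight_apply, LinearMap.comp_apply, LinearMap.comp_apply, LinearMap.smul_apply,
    ← map_smul, ← hαβ]
  exact LinearMap.congr_fun hθ (α v)

variable [Module.Flat A B]

/-- A transition map is surjective when its source has depth two modulo `m ^ n`. -/
theorem trans_surjective_of_reg2 (hfac : Fac J D) {c c' : B} (hc : c ∈ J) (hcc : Reg2 c c' (QB B A 1)) (n : ℕ)
    (ha : a ∈ J) (hb : b ∈ J)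
    (h : Reg2 a b ((D →ₗ[B] QB B A (n + 1)) ⧸ powR (A := A) (B := B) (D →ₗ[B] QB B A (n + 1)) n)) :
    Function.Surjective (trans (B := B) A D n) := by
  let N := powR (A := A) (B := B) (D →ₗ[B] QB B A (n + 1)) n
  have hker : N ≤ LinearMap.ker (trans (B := B) A D n) := Submodule.smul_le.2 fun r hr φ _ => by
    refine LinearMap.mem_ker.2 (LinearMap.ext fun v => ?_)
    rw [map_smul, LinearMap.smul_apply, LinearMap.zero_apply]
    obtain ⟨d, hd⟩ := Submodule.Quotient.mk_surjective _ (trans A D n φ v)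
    rw [← hd, ← Submodule.Quotient.mk_smul, Submodule.Quotient.mk_eq_zero]
    exact Submodule.smul_mem_smul hr trivial
  let ψ := N.liftQ (trans (B := B) A D n) hker
  have hcW := ((reg2_powR hcc n).hom (P := D)).reg
  have hinj : ∀ q : PrimeSpectrum B, ¬ J ≤ q.asIdeal → ∀ v, ψ v = 0 → ∃ s, s ∉ q.asIdeal ∧ s • v = 0 :=
    fun q hq v hv => by
      obtain ⟨g, hgJ, hgq⟩ := SetLike.not_le_iff_exists.1 hq
      obtain ⟨φ, rfl⟩ := Submodule.Quotient.mk_surjective _ v
      obtain ⟨K, hK⟩ := exists_smul_mem_powR_of_trans_eq_zero hfac n hgJ φ hv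
      exact ⟨g ^ K, fun hh => hgq (q.2.mem_of_pow_mem K hh),
        by rwa [← Submodule.Quotient.mk_smul, Submodule.Quotient.mk_eq_zero]⟩
  have hsur : ∀ q : PrimeSpectrum B, ¬ J ≤ q.asIdeal → ∀ w, ∃ s, s ∉ q.asIdeal ∧ s • w ∈ LinearMap.range ψ :=
    fun q hq w => by
      obtain ⟨g, hgJ, hgq⟩ := SetLike.not_le_iff_exists.1 hq
      obtain ⟨K, φ, hφ⟩ := exists_smul_mem_range_trans hfac n hgJ w
      exact ⟨g ^ K, fun hh => hgq (q.2.mem_of_pow_mem K hh), Submodule.Quotient.mk φ, hφ⟩
  have haW : IsSMulRegular (D →ₗ[B] QB B A n) a := by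
    refine isSMulRegular_iff_right_eq_zero_of_smul.2 fun w hw =>
      Lift.eq_zero_of_isTors hc hcW (isTors_of_forall J w fun q hq => ?_)
    obtain ⟨s, hs, v, hv⟩ := hsur q hq w
    obtain ⟨r, hr, hrv⟩ := hinj q hq _ (show ψ (a • v) = 0 by rw [map_smul, hv, smul_comm, hw, smul_zero])
    have h0 : r • v = 0 := h.reg (show a • r • v = a • 0 by rw [smul_zero, smul_comm, hrv])
    exact ⟨r * s, fun hm => (q.2.mem_or_mem hm).elim hr hs, by rw [mul_smul, ← hv, ← map_smul, h0, map_zero]⟩
  have hb' : Function.Bijective ψ := bijective_of_locally ψ J ha hb h haW hinj hsur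
  intro w
  obtain ⟨v, hv⟩ := hb'.2 w
  obtain ⟨φ, rfl⟩ := Submodule.Quotient.mk_surjective _ v
  exact ⟨φ, hv⟩

end Groth.Agent.H4Rel.Lift
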