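import Groth.Agent.H7Flat.LocalCriterion
import Groth.Agent.H7Flat.InjectiveModMax
import Mathlib.RingTheory.Ideal.Quotient.Operations
import Mathlib.LinearAlgebra.TensorProduct.Tower

/-!
# Lifting criterion for flatness with depth two on the closed fibre
-/

set_option autoImplicit false
set_option linter.style.haveILetI false
set_option linter.unusedSectionVars false
set_option maxHeartbeats 800000

universe u

open TensorProduct IsLocalRing
open TensorProduct (AlgebraTensorModule.lTensor)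

namespace Groth.Agent.H4Rel.Lift

variable {B : Type u} [CommRing B]

/-- `z` is torsion with respect to `J`. -/
def IsTors (J : Ideal B) {P : Type u} [AddCommGroup P] [Module B P] (z : P) : Prop :=
  ∀ g ∈ J, ∃ k : ℕ, g ^ k • z = 0

/-- `x, y` is a regular sequence for `P`. -/
structure Reg2 (x y : B) (P : Type u) [AddCommGroup P] [Module B P] : Prop where
  reg : IsSMulRegular P x
  reg2 : ∀ a b : P, y • a = x • b → ∃ c, a = x • c

theorem Reg2.pow {x y : B} {P : Type u} [AddCommGroup P] [Module B P] (h : Reg2 x y P) :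
    ∀ (k l : ℕ) (a b : P), y ^ l • a = x ^ k • b → ∃ c, a = x ^ k • c
  | k, 0, a, b, e => ⟨b, by simpa using e⟩
  | 0, _ + 1, a, _, _ => ⟨a, by simp⟩
  | k + 1, l + 1, a, b, e => by
    rw [pow_succ y l, mul_smul] at e
    obtain ⟨c, hc⟩ := Reg2.pow h (k + 1) l (y • a) b e
    rw [pow_succ', mul_smul] at hc
    obtain ⟨d, rfl⟩ := h.reg2 a _ hc
    have h' : y ^ 1 • d = x ^ k • c := by
      rw [pow_one]
      exact h.reg (show x • y • d = x • x ^ k • c by rw [smul_comm, hc])
    obtain ⟨f, rfl⟩ := Reg2.pow h k 1 d c h'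
    exact ⟨f, by rw [pow_succ', mul_smul]⟩

theorem eq_zero_of_isTors {J : Ideal B} {x : B} (hx : x ∈ J) {P : Type u} [AddCommGroup P] [Module B P]
    (h : IsSMulRegular P x) {z : P} (hz : IsTors J z) : z = 0 := by
  obtain ⟨k, hk⟩ := hz x hx
  exact (h.pow k) (show x ^ k • z = x ^ k • 0 by rw [hk, smul_zero])

variable {A : Type u} [CommRing A] [Algebra A B]

section Mu

variable (R : Type u) [AddCommGroup R] [Module A R] [Module B R] [IsScalarTower A B R] (n : ℕ)
  [IsLocalRing A]

/-- `R ⊗ m ^ n → R`. -/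
noncomputable def mu : R ⊗[A] ↥(maximalIdeal A ^ n) →ₗ[B] R :=
  (AlgebraTensorModule.rid A B R).toLinearMap ∘ₗ
    AlgebraTensorModule.lTensor B R (maximalIdeal A ^ n).subtype

@[simp] theorem mu_tmul (r : R) (a : ↥(maximalIdeal A ^ n)) : mu (B := B) R n (r ⊗ₜ a) = (a : A) • r := by
  simp [mu]

/-- The submodule `m ^ n R`. -/
def powR : Submodule B R := ((maximalIdeal A ^ n).map (algebraMap A B)) • ⊤

theorem mu_mem (z : R ⊗[A] ↥(maximalIdeal A ^ n)) : mu (B := B) R n z ∈ powR (A := A) (B := B) R n := by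
  induction z with
  | zero => simp
  | tmul r a =>
    rw [mu_tmul, ← algebraMap_smul B]
    exact Submodule.smul_mem_smul (Ideal.mem_map_of_mem _ a.2) trivial
  | add a b ha hb => rw [map_add]; exact add_mem ha hb

theorem exists_mu_eq {v : R} (hv : v ∈ powR (A := A) (B := B) R n) :
    ∃ z : R ⊗[A] ↥(maximalIdeal A ^ n), mu (B := B) R n z = v := by
  refine Submodule.smul_induction_on (p := fun v => ∃ z : R ⊗[A] ↥(maximalIdeal A ^ n), mu (B := B) R n z = v) hv (fun b hb r _ => ?_) ?_
  · induction hb using Submodule.span_induction generalizing r with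
    | mem b hb =>
      obtain ⟨a, ha, rfl⟩ := hb
      exact ⟨r ⊗ₜ ⟨a, ha⟩, by simp⟩
    | zero => exact ⟨0, by simp⟩
    | add b c _ _ ih ih' =>
      obtain ⟨z, hz⟩ := ih r trivial
      obtain ⟨z', hz'⟩ := ih' r trivial
      exact ⟨z + z', by rw [map_add, hz, hz', add_smul]⟩
    | smul b c _ ih =>
      obtain ⟨z, hz⟩ := ih (b • r) trivial
      exact ⟨z, by rw [hz, smul_eq_mul, mul_comm, mul_smul]⟩
  · rintro _ _ ⟨z, rfl⟩ ⟨z', rfl⟩
    exact ⟨z + z', map_add _ _ _⟩

end Mu

section Theta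

variable [IsLocalRing A] {R N : Type u} [AddCommGroup R] [Module A R] [Module B R] [IsScalarTower A B R]
  [AddCommGroup N] [Module A N] [Module B N] [IsScalarTower A B N]

/-- `R ⊗ m ^ n → N ⊗ (m ^ n / m ^ (n + 1))`. -/
noncomputable def theta (π : R →ₗ[B] N) (n : ℕ) :
    R ⊗[A] ↥(maximalIdeal A ^ n) →ₗ[B]
      N ⊗[A] (↥(maximalIdeal A ^ n) ⧸ maximalIdeal A • (⊤ : Submodule A ↥(maximalIdeal A ^ n))) :=
  AlgebraTensorModule.map π (Submodule.mkQ _)

theorem theta_surjective (π : R →ₗ[B] N) (hπ : Function.Surjective π) (n : ℕ) :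
    Function.Surjective (theta (A := A) π n) := by
  intro w
  induction w with
  | zero => exact ⟨0, map_zero _⟩
  | tmul v q =>
    obtain ⟨r, rfl⟩ := hπ v
    obtain ⟨a, rfl⟩ := Submodule.Quotient.mk_surjective _ q
    exact ⟨r ⊗ₜ a, rfl⟩
  | add a b ha hb =>
    obtain ⟨z, rfl⟩ := ha
    obtain ⟨z', rfl⟩ := hb
    exact ⟨z + z', map_add _ _ _⟩

/-- The inclusion `m ^ (n + 1) ⊆ m ^ n`. -/
noncomputable def incl (n : ℕ) : ↥(maximalIdeal A ^ (n + 1)) →ₗ[A] ↥(maximalIdeal A ^ n) :=
  Submodule.inclusion (Ideal.pow_le_pow_right n.le_succ)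

theorem exact_incl (n : ℕ) : Function.Exact (incl (A := A) n)
    (Submodule.mkQ (maximalIdeal A • (⊤ : Submodule A ↥(maximalIdeal A ^ n)))) := by
  have key : (maximalIdeal A • (⊤ : Submodule A ↥(maximalIdeal A ^ n))).map (maximalIdeal A ^ n).subtype =
      maximalIdeal A ^ (n + 1) := by
    rw [Submodule.map_smul'', Submodule.map_top, Submodule.range_subtype, smul_eq_mul, pow_succ']
  intro a
  rw [Submodule.mkQ_apply, Submodule.Quotient.mk_eq_zero]
  refine ⟨fun ha => ⟨⟨a, key.le ⟨a, ha, rfl⟩⟩, rfl⟩, ?_⟩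
  rintro ⟨b, rfl⟩
  obtain ⟨c, hc, hcb⟩ := key.ge b.2
  rwa [show incl n b = c from Subtype.ext hcb.symm]

theorem theta_lTensor_incl (π : R →ₗ[B] N) (n : ℕ) (w : R ⊗[A] ↥(maximalIdeal A ^ (n + 1))) :
    theta (A := A) π n ((incl n).lTensor R w) = 0 := by
  induction w with
  | zero => simp
  | tmul r a =>
    show π r ⊗ₜ[A] Submodule.Quotient.mk (incl n a) = 0
    rw [show (Submodule.Quotient.mk (incl n a) : _ ⧸ _) = 0 from (exact_incl n).apply_apply_eq_zero a, tmul_zero]
  | add a b ha hb => rw [map_add, map_add, ha, hb, add_zero]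

theorem mu_lTensor_incl (n : ℕ) (w : R ⊗[A] ↥(maximalIdeal A ^ (n + 1))) :
    mu (B := B) R n ((incl n).lTensor R w) = mu (B := B) R (n + 1) w := by
  induction w with
  | zero => simp
  | tmul r a => simp [incl]
  | add a b ha hb => rw [map_add, map_add, map_add, ha, hb]

/-- An injective map of vector spaces stays injective after tensoring. -/
theorem rTensor_injective_of_killed {P Q : Type u} [AddCommGroup P] [Module A P] [AddCommGroup Q] [Module A Q]
    (hP : Module.IsTorsionBySet A P (maximalIdeal A : Set A)) (hQ : Module.IsTorsionBySet A Q (maximalIdeal A : Set A))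
    (f : P →ₗ[A] Q) (hf : Function.Injective f) (V : Type u) [AddCommGroup V] [Module A V] :
    Function.Injective (f.rTensor V) := by
  letI := hP.module
  letI := hQ.module
  letI : Field (A ⧸ maximalIdeal A) := Ideal.Quotient.field _
  haveI : IsScalarTower A (A ⧸ maximalIdeal A) P := hP.isScalarTower
  haveI : IsScalarTower A (A ⧸ maximalIdeal A) Q := hQ.isScalarTower
  let f' : P →ₗ[A ⧸ maximalIdeal A] Q :=
    LinearMap.extendScalarsOfSurjective Ideal.Quotient.mk_surjective f
  obtain ⟨g, hg⟩ := f'.exists_leftInverse_of_injective (LinearMap.ker_eq_bot.2 hf)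
  refine Function.LeftInverse.injective (g := (g.restrictScalars A).rTensor V) fun z => ?_
  rw [← LinearMap.rTensor_comp_apply,
    show g.restrictScalars A ∘ₗ f = LinearMap.id from LinearMap.ext fun p => LinearMap.congr_fun hg p,
    LinearMap.rTensor_id, LinearMap.id_apply]

/-- Regular elements stay regular on `N ⊗ V`. -/
theorem reg_tensor (hN : ∀ a ∈ maximalIdeal A, ∀ v : N, a • v = 0) {x : B} (hx : IsSMulRegular N x)
    (V : Type u) [AddCommGroup V] [Module A V] : IsSMulRegular (N ⊗[A] V) x := by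
  let l : N →ₗ[A] N := (LinearMap.lsmul B N x).restrictScalars A
  have h := rTensor_injective_of_killed (fun v a => hN a.1 a.2 v) (fun v a => hN a.1 a.2 v) l hx V
  have hl : ∀ z : N ⊗[A] V, l.rTensor V z = x • z := fun z => by
    induction z with
    | zero => simp
    | tmul v w => rfl
    | add a b ha hb => rw [map_add, ha, hb, smul_add]
  intro a b hab
  exact h (by rw [hl, hl]; exact hab)

/-- Regular sequences stay regular on `N ⊗ V`. -/
theorem reg2_tensor (hN : ∀ a ∈ maximalIdeal A, ∀ v : N, a • v = 0) {x y : B} (h : Reg2 x y N)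
    (V : Type u) [AddCommGroup V] [Module A V] : Reg2 x y (N ⊗[A] V) := by
  refine ⟨reg_tensor hN h.reg V, fun a b e => ?_⟩
  let L : Submodule B N := LinearMap.range (LinearMap.lsmul B N x)
  let Q := N ⧸ L
  let q : N →ₗ[A] Q := (Submodule.mkQ L).restrictScalars A
  have hQ : ∀ a ∈ maximalIdeal A, ∀ v : Q, a • v = 0 := fun a ha v => by
    obtain ⟨v, rfl⟩ := Submodule.Quotient.mk_surjective _ v
    rw [← Submodule.Quotient.mk_smul, hN a ha, Submodule.Quotient.mk_zero]
  have hyQ : IsSMulRegular Q y := by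
    intro v w hvw
    obtain ⟨v, rfl⟩ := Submodule.Quotient.mk_surjective _ v
    obtain ⟨w, rfl⟩ := Submodule.Quotient.mk_surjective _ w
    refine (Submodule.Quotient.eq L).2 ?_
    obtain ⟨c, hc⟩ := (Submodule.Quotient.eq L).1 hvw
    obtain ⟨d, hd⟩ := h.reg2 (v - w) c (by rw [smul_sub]; exact hc.symm)
    exact ⟨d, hd.symm⟩
  let l : N →ₗ[A] N := (LinearMap.lsmul B N x).restrictScalars A
  have hex : Function.Exact l q := fun v => by
    show Submodule.Quotient.mk v = (0 : Q) ↔ _
    rw [Submodule.Quotient.mk_eq_zero]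
    exact Iff.rfl
  have hl : ∀ z : N ⊗[A] V, l.rTensor V z = x • z := fun z => by
    induction z with
    | zero => simp
    | tmul v w => rfl
    | add a b ha hb => rw [map_add, ha, hb, smul_add]
  have hq : ∀ (c : B) (z : N ⊗[A] V), q.rTensor V (c • z) = c • q.rTensor V z := fun c z => by
    induction z with
    | zero => simp
    | tmul v w => rfl
    | add a b ha hb => rw [smul_add, map_add, ha, hb, map_add, smul_add]
  have hex' := rTensor_exact V hex (Submodule.Quotient.mk_surjective L)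
  have h0 : q.rTensor V a = 0 := by
    refine (reg_tensor hQ hyQ V) ?_
    show y • q.rTensor V a = y • 0
    rw [smul_zero, ← hq, e, ← hl]
    exact hex'.apply_apply_eq_zero b
  obtain ⟨c, hc⟩ := (hex' a).1 h0
  exact ⟨c, by rw [← hc, hl]⟩

variable (J : Ideal B)

/-- The saturation of `m ^ n R`. -/
def sat (R : Type u) [AddCommGroup R] [Module A R] [Module B R] [IsScalarTower A B R] (n : ℕ) (v : R) : Prop :=
  ∀ g ∈ J, ∃ k : ℕ, g ^ k • v ∈ powR (A := A) (B := B) R n

/-- The hypothesis that `R` is flat outside `J`, in the form used here. -/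
def FlatOff (R : Type u) [AddCommGroup R] [Module A R] [Module B R] [IsScalarTower A B R] : Prop :=
  ∀ (n : ℕ) (z : R ⊗[A] ↥(maximalIdeal A ^ n)), mu (B := B) R n z = 0 → IsTors J z

variable {J}

/-- A tensor whose image is saturated one step deeper dies in `N ⊗ gr`. -/
theorem theta_eq_zero {x : B} (hx : x ∈ J) (hflat : FlatOff (A := A) J R) (π : R →ₗ[B] N)
    (hN : ∀ a ∈ maximalIdeal A, ∀ v : N, a • v = 0) (hreg : IsSMulRegular N x) (n : ℕ)
    (z : R ⊗[A] ↥(maximalIdeal A ^ n)) (hz : sat (A := A) J R (n + 1) (mu (B := B) R n z)) :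
    theta (A := A) π n z = 0 := by
  obtain ⟨k, hk⟩ := hz x hx
  obtain ⟨w, hw⟩ := exists_mu_eq R (n + 1) hk
  have ht : IsTors J (x ^ k • z - (incl n).lTensor R w) :=
    hflat n _ (by rw [map_sub, map_smul, mu_lTensor_incl, hw, sub_self])
  have h0 : theta (A := A) π n (x ^ k • z - (incl n).lTensor R w) = 0 := by
    refine eq_zero_of_isTors hx (reg_tensor hN hreg _) fun g hg => ?_
    obtain ⟨l, hl⟩ := ht g hg
    exact ⟨l, by rw [← map_smul, hl, map_zero]⟩
  rw [map_sub, map_smul, theta_lTensor_incl, sub_zero] at h0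
  exact ((reg_tensor hN hreg _).pow k) (show x ^ k • _ = x ^ k • 0 by rw [h0, smul_zero])

/-- The kernel of `R ⊗ m ^ n → N ⊗ gr`. -/
theorem exists_of_theta_eq_zero (π : R →ₗ[B] N) (hπ : Function.Surjective π) (n : ℕ)
    (z : R ⊗[A] ↥(maximalIdeal A ^ n)) (hz : theta (A := A) π n z = 0) :
    ∃ (z₁ : ↥(LinearMap.ker π) ⊗[A] ↥(maximalIdeal A ^ n)) (w : R ⊗[A] ↥(maximalIdeal A ^ (n + 1))),
      z = ((LinearMap.ker π).subtype.restrictScalars A).rTensor _ z₁ + (incl n).lTensor R w := by
  have he : Function.Exact ((LinearMap.ker π).subtype.restrictScalars A) (π.restrictScalars A) := fun v =>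
    ⟨fun hv => ⟨⟨v, hv⟩, rfl⟩, fun ⟨w, hw⟩ => hw ▸ w.2⟩
  have hk := TensorProduct.map_ker (g := π.restrictScalars A) he hπ
    (exact_incl (A := A) n) (Submodule.mkQ_surjective _)
  have hz' : z ∈ LinearMap.ker (TensorProduct.map (π.restrictScalars A)
      (Submodule.mkQ (maximalIdeal A • (⊤ : Submodule A ↥(maximalIdeal A ^ n))))) := hz
  rw [hk] at hz'
  obtain ⟨_, ⟨w, rfl⟩, _, ⟨z₁, rfl⟩, rfl⟩ := Submodule.mem_sup.1 hz'
  exact ⟨z₁, w, add_comm _ _⟩

variable {x y : B}

/-- Saturation steps: an element saturated at level `n` is one saturated at level `n + 1` modulo `m ^ n R`. -/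
theorem exists_sat_succ (hx : x ∈ J) (hy : y ∈ J) (hflat : FlatOff (A := A) J R) (π : R →ₗ[B] N)
    (hπ : Function.Surjective π) (hN : ∀ a ∈ maximalIdeal A, ∀ v : N, a • v = 0) (hreg : Reg2 x y N)
    (hker : ∀ v, π v = 0 → sat (A := A) J R 1 v) (n : ℕ) (r : R) (hr : sat (A := A) J R n r) :
    ∃ s ∈ powR (A := A) (B := B) R n, sat (A := A) J R (n + 1) (r - s) := by
  obtain ⟨k, hk⟩ := hr x hx
  obtain ⟨za, hza⟩ := exists_mu_eq R n hk
  obtain ⟨l, hl⟩ := hr y hy
  obtain ⟨zb, hzb⟩ := exists_mu_eq R n hl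
  have hP := reg2_tensor hN hreg
    (↥(maximalIdeal A ^ n) ⧸ maximalIdeal A • (⊤ : Submodule A ↥(maximalIdeal A ^ n)))
  have hmu0 : ∀ v : R, v = 0 → sat (A := A) J R (n + 1) v := fun v hv g _ => ⟨0, by simp [hv]⟩
  have h1 : theta (A := A) π n (y ^ l • za - x ^ k • zb) = 0 :=
    theta_eq_zero hx hflat π hN hreg.reg n _
      (hmu0 _ (by rw [map_sub, map_smul, map_smul, hza, hzb, smul_comm, sub_self]))
  rw [map_sub, map_smul, map_smul, sub_eq_zero] at h1
  obtain ⟨c, hc⟩ := hP.pow k l _ _ h1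
  obtain ⟨zc, rfl⟩ := theta_surjective π hπ n c
  refine ⟨mu (B := B) R n zc, mu_mem R n zc, fun g hg => ?_⟩
  obtain ⟨e, he⟩ := hr g hg
  obtain ⟨zg, hzg⟩ := exists_mu_eq R n he
  let z' := zg - g ^ e • zc
  have hz'r : mu (B := B) R n z' = g ^ e • (r - mu (B := B) R n zc) := by
    rw [map_sub, map_smul, hzg, smul_sub]
  clear_value z'
  have hθ : theta (A := A) π n z' = 0 := by
    have h2 : theta (A := A) π n (x ^ k • z' - g ^ e • (za - x ^ k • zc)) = 0 :=
      theta_eq_zero hx hflat π hN hreg.reg n _ (hmu0 _ (by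
        rw [map_sub, map_smul, map_smul, hz'r, map_sub, map_smul, hza, ← smul_sub (x ^ k), smul_comm (g ^ e),
          sub_self]))
    rw [map_sub, map_smul, map_smul, map_sub, map_smul, hc, sub_self, smul_zero, sub_zero] at h2
    exact (hP.reg.pow k) (show x ^ k • _ = x ^ k • 0 by rw [h2, smul_zero])
  obtain ⟨z₁, w, hzw⟩ := exists_of_theta_eq_zero π hπ n z' hθ
  have hsat : ∀ z₁ : ↥(LinearMap.ker π) ⊗[A] ↥(maximalIdeal A ^ n),
      ∃ t : ℕ, g ^ t • mu (B := B) R n (((LinearMap.ker π).subtype.restrictScalars A).rTensor _ z₁) ∈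
        powR (A := A) (B := B) R (n + 1) := by
    intro z₁
    induction z₁ with
    | zero => exact ⟨0, by simp⟩
    | tmul v a =>
      obtain ⟨t, ht⟩ := hker v.1 v.2 g hg
      refine ⟨t, ?_⟩
      rw [LinearMap.rTensor_tmul, mu_tmul, smul_comm]
      show (a : A) • (g ^ t • (v : R)) ∈ _
      rw [powR, pow_succ', mul_comm, Ideal.map_mul, Submodule.mul_smul, ← algebraMap_smul B (a : A)]
      rw [powR, pow_one] at ht
      exact Submodule.smul_mem_smul (Ideal.mem_map_of_mem _ a.2) ht
    | add a b ha hb =>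
      obtain ⟨ta, ha⟩ := ha
      obtain ⟨tb, hb⟩ := hb
      refine ⟨ta + tb, ?_⟩
      rw [map_add, map_add, smul_add]
      refine add_mem ?_ ?_
      · rw [Nat.add_comm ta tb, pow_add, mul_smul]; exact Submodule.smul_mem _ _ ha
      · rw [pow_add, mul_smul]; exact Submodule.smul_mem _ _ hb
  obtain ⟨t, ht⟩ := hsat z₁
  refine ⟨t + e, ?_⟩
  rw [pow_add, mul_smul, ← hz'r, hzw, map_add, smul_add, mu_lTensor_incl]
  exact add_mem ht (Submodule.smul_mem _ _ (mu_mem R (n + 1) w))

omit J in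
/-- Saturation conditions weaken with the level. -/
theorem sat_mono {J : Ideal B} {n m : ℕ} (hnm : n ≤ m) {v : R} (hv : sat (A := A) J R m v) :
    sat (A := A) J R n v := fun g hg => by
  obtain ⟨k, hk⟩ := hv g hg
  exact ⟨k, Submodule.smul_mono_left (Ideal.map_mono (Ideal.pow_le_pow_right hnm)) hk⟩

/-- If `ker π = m R`, a tensor dying in `N ⊗ gr` comes from `R ⊗ m ^ (n + 1)`. -/
theorem exists_incl_of_theta_eq_zero (π : R →ₗ[B] N) (hπ : Function.Surjective π)
    (hker : ∀ v, π v = 0 → v ∈ powR (A := A) (B := B) R 1) (n : ℕ)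
    (z : R ⊗[A] ↥(maximalIdeal A ^ n)) (hz : theta (A := A) π n z = 0) :
    ∃ w : R ⊗[A] ↥(maximalIdeal A ^ (n + 1)), z = (incl n).lTensor R w := by
  obtain ⟨z₁, w, rfl⟩ := exists_of_theta_eq_zero π hπ n z hz
  suffices h : ∀ z₁ : ↥(LinearMap.ker π) ⊗[A] ↥(maximalIdeal A ^ n),
      ((LinearMap.ker π).subtype.restrictScalars A).rTensor _ z₁ ∈ LinearMap.range ((incl n).lTensor R) by
    obtain ⟨w₁, hw₁⟩ := h z₁
    exact ⟨w₁ + w, by rw [map_add, hw₁]⟩
  intro z₁
  induction z₁ with
  | zero => simp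
  | add a b ha hb => rw [map_add]; exact add_mem ha hb
  | tmul v a =>
    obtain ⟨z, hz'⟩ := exists_mu_eq R 1 (hker v.1 v.2)
    rw [LinearMap.rTensor_tmul]
    show (v : R) ⊗ₜ[A] a ∈ _
    rw [← hz']
    clear hz'
    induction z with
    | zero => simp
    | add p q hp hq => rw [map_add, TensorProduct.add_tmul]; exact add_mem hp hq
    | tmul r c =>
      rw [mu_tmul, TensorProduct.smul_tmul]
      refine ⟨r ⊗ₜ ⟨(c : A) * a, ?_⟩, rfl⟩
      rw [pow_succ']
      exact Ideal.mul_mem_mul (by simpa using c.2) a.2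

omit J in
theorem smul_eq_zero_quotient (a : A) (ha : a ∈ maximalIdeal A)
    (v : B ⧸ powR (A := A) (B := B) B 1) : a • v = 0 := by
  obtain ⟨v, rfl⟩ := Submodule.Quotient.mk_surjective _ v
  rw [← Submodule.Quotient.mk_smul, Submodule.Quotient.mk_eq_zero, powR, pow_one, ← algebraMap_smul B a]
  exact Submodule.smul_mem_smul (Ideal.mem_map_of_mem _ ha) trivial

omit J in
/-- An element regular on the closed fibre of a flat algebra is regular modulo every `m ^ n`. -/
theorem mem_powR_of_pow_smul_mem [Module.Flat A B] {x : B}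
    (hx : IsSMulRegular (B ⧸ powR (A := A) (B := B) B 1) x) (k : ℕ) :
    ∀ (n : ℕ) (b : B), x ^ k • b ∈ powR (A := A) (B := B) B n → b ∈ powR (A := A) (B := B) B n := by
  intro n
  induction n with
  | zero => intro b _; simp [powR, Ideal.map_top]
  | succ n ih =>
    intro b hb
    have hmem : x ^ k • b ∈ powR (A := A) (B := B) B n :=
      Submodule.smul_mono_left (Ideal.map_mono (Ideal.pow_le_pow_right n.le_succ)) hb
    obtain ⟨z, rfl⟩ := exists_mu_eq B n (ih b hmem)
    have hinj : ∀ (m : ℕ) (z : B ⊗[A] ↥(maximalIdeal A ^ m)), mu (B := B) B m z = 0 → z = 0 := fun m z hz => by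
      refine Module.Flat.lTensor_preserves_injective_linearMap (M := B) (maximalIdeal A ^ m).subtype
        Subtype.val_injective ?_
      rw [map_zero]
      exact (AlgebraTensorModule.rid A B B).injective (by rw [map_zero]; exact hz)
    have hflat : FlatOff (A := A) (Ideal.span {x}) B := fun m z hz => fun g _ => ⟨0, by simp [hinj m z hz]⟩
    have h0 := theta_eq_zero (J := Ideal.span {x}) (Ideal.mem_span_singleton_self x) hflat
      (powR (A := A) (B := B) B 1).mkQ smul_eq_zero_quotient hx n z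
      (fun g hg => ⟨k, by
        obtain ⟨c, rfl⟩ := Ideal.mem_span_singleton'.1 hg
        rw [mul_pow, mul_smul]
        exact Submodule.smul_mem _ _ hb⟩)
    obtain ⟨w, rfl⟩ := exists_incl_of_theta_eq_zero (powR (A := A) (B := B) B 1).mkQ (Submodule.mkQ_surjective _)
      (fun v hv => (Submodule.Quotient.mk_eq_zero _).1 hv) n z h0
    rw [mu_lTensor_incl]
    exact mu_mem B (n + 1) w

omit J in
/-- Coordinates of elements of `m ^ n (ι → B)`. -/
theorem pi_apply_mem {ι : Type u} {n : ℕ} {v : ι → B} (hv : v ∈ powR (A := A) (B := B) (ι → B) n) (i : ι) :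
    v i ∈ powR (A := A) (B := B) B n := by
  have h := Submodule.mem_map_of_mem (f := (LinearMap.proj i : (ι → B) →ₗ[B] B)) hv
  rw [powR, Submodule.map_smul''] at h
  exact Submodule.smul_mono le_rfl le_top h

/-- The lifting criterion: a submodule of a free module, flat off `J`, whose image in a module `N` of depth two on
the closed fibre is everything, is flat with closed fibre `N`. -/
theorem flat_of_lift [IsLocalRing B] [IsLocalHom (algebraMap A B)] [IsNoetherianRing A] [IsNoetherianRing B]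
    [Module.Finite B R] [Module.Flat A B] {ι : Type u} [Finite ι] (j : R →ₗ[B] ι → B) (hj : Function.Injective j)
    (hx : x ∈ J) (hy : y ∈ J) {w : B} (hw : w ∈ J) (hxB : IsSMulRegular (B ⧸ powR (A := A) (B := B) B 1) w)
    (hflat : FlatOff (A := A) J R) (π : R →ₗ[B] N) (hπ : Function.Surjective π)
    (hN : ∀ a ∈ maximalIdeal A, ∀ v : N, a • v = 0) (hreg : Reg2 x y N)
    (hker : ∀ v, π v = 0 → sat (A := A) J R 1 v) :
    Module.Flat A R ∧ ∀ v, π v = 0 ↔ v ∈ powR (A := A) (B := B) R 1 := by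
  classical
  haveI := Fintype.ofFinite ι
  have step : ∀ (N' : ℕ) (r : R), sat (A := A) J R 1 r →
      ∃ s ∈ powR (A := A) (B := B) R 1, sat (A := A) J R (N' + 1) (r - s) := by
    intro N'
    induction N' with
    | zero => exact fun r hr => ⟨0, zero_mem _, by rwa [sub_zero]⟩
    | succ N' ih =>
      intro r hr
      obtain ⟨s, hs, hs'⟩ := ih r hr
      obtain ⟨s', hs'', h⟩ := exists_sat_succ hx hy hflat π hπ hN hreg hker (N' + 1) _ hs'
      exact ⟨s + s', add_mem hs (Submodule.smul_mono_left (Ideal.map_mono (Ideal.pow_le_pow_right (by omega))) hs''),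
        by rwa [← sub_sub]⟩
  let I : Ideal B := (maximalIdeal A).map (algebraMap A B)
  obtain ⟨c, hc⟩ := Ideal.exists_pow_inf_eq_pow_smul I (LinearMap.range j)
  have hK : ∀ v, π v = 0 → v ∈ powR (A := A) (B := B) R 1 := by
    intro v hv
    obtain ⟨s, hs, hs'⟩ := step c v (hker v hv)
    obtain ⟨k, hk⟩ := hs' w hw
    have hmem : j (v - s) ∈ I ^ (c + 1) • (⊤ : Submodule B (ι → B)) := by
      have hi : ∀ i, j (v - s) i ∈ powR (A := A) (B := B) B (c + 1) := fun i => by
        refine mem_powR_of_pow_smul_mem hxB k (c + 1) _ ?_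
        have h := Submodule.mem_map_of_mem (f := j) hk
        rw [powR, Submodule.map_smul'', map_smul] at h
        exact pi_apply_mem (Submodule.smul_mono le_rfl le_top h) i
      rw [← Finset.univ_sum_single (j (v - s))]
      refine sum_mem fun i _ => ?_
      have h := Submodule.mem_map_of_mem (f := (LinearMap.single B (fun _ : ι => B) i)) (hi i)
      rw [powR, Submodule.map_smul'', Ideal.map_pow] at h
      exact Submodule.smul_mono le_rfl le_top h
    have hmem' : j (v - s) ∈ I ^ (c + 1) • (⊤ : Submodule B (ι → B)) ⊓ LinearMap.range j := ⟨hmem, ⟨_, rfl⟩⟩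
    rw [hc (c + 1) (Nat.le_succ c), Nat.add_sub_cancel_left, pow_one] at hmem'
    have hmem'' : j (v - s) ∈ I • (LinearMap.range j) := Submodule.smul_mono le_rfl inf_le_right hmem'
    rw [← Submodule.map_top, ← Submodule.map_smul''] at hmem''
    obtain ⟨u, hu, hju⟩ := hmem''
    rw [hj hju] at hu
    have : v - s ∈ powR (A := A) (B := B) R 1 := by rwa [powR, pow_one]
    simpa using add_mem this hs
  refine ⟨H7Flat.flat_of_injective (S := B) ?_, fun v => ⟨hK v, fun hv => ?_⟩⟩
  · rw [injective_iff_map_eq_zero]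
    intro z hz
    let z₀ : R ⊗[A] ↥(maximalIdeal A ^ 1) :=
      (Submodule.inclusion (pow_one (maximalIdeal A)).ge).lTensor R z
    have hchain : ∀ n, ∃ w : R ⊗[A] ↥(maximalIdeal A ^ (n + 1)),
        (Submodule.inclusion ((Ideal.pow_le_pow_right (Nat.le_add_left 1 n)).trans
          (pow_one (maximalIdeal A)).le)).lTensor R w = z := by
      intro n
      induction n with
      | zero =>
        refine ⟨z₀, ?_⟩
        rw [← LinearMap.lTensor_comp_apply]
        exact LinearMap.congr_fun (LinearMap.lTensor_id R ↥(maximalIdeal A)) z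
      | succ n ih =>
        obtain ⟨w, hw⟩ := ih
        have hmu : mu (B := B) R (n + 1) w = 0 := by
          show AlgebraTensorModule.rid A B R ((maximalIdeal A ^ (n + 1)).subtype.lTensor R w) = 0
          rw [show (maximalIdeal A ^ (n + 1)).subtype = (maximalIdeal A).subtype ∘ₗ Submodule.inclusion
            ((Ideal.pow_le_pow_right (Nat.le_add_left 1 n)).trans (pow_one (maximalIdeal A)).le) from rfl,
            LinearMap.lTensor_comp_apply, hw, hz, map_zero]
        obtain ⟨w', hw'⟩ := exists_incl_of_theta_eq_zero π hπ hK (n + 1) w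
          (theta_eq_zero hx hflat π hN hreg.reg (n + 1) w fun g _ => ⟨0, by simp [hmu]⟩)
        refine ⟨w', ?_⟩
        rw [← hw, hw', ← LinearMap.lTensor_comp_apply]
        rfl
    obtain ⟨a, ha, hax⟩ := H7Flat.exists_one_add_smul_eq_zero (S := B) (maximalIdeal A) (maximalIdeal A) z
      (fun n => by
        obtain ⟨w, hw⟩ := hchain n
        have hle : maximalIdeal A ^ (n + 1) ≤ maximalIdeal A ⊓ maximalIdeal A ^ n :=
          le_inf ((Ideal.pow_le_pow_right (Nat.le_add_left 1 n)).trans (pow_one (maximalIdeal A)).le)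
            (Ideal.pow_le_pow_right n.le_succ)
        exact ⟨(Submodule.inclusion hle).lTensor R w, by rw [← LinearMap.lTensor_comp_apply]; exact hw⟩)
    have ha' : a ∈ maximalIdeal B :=
      (Ideal.map_le_iff_le_comap.mpr (maximalIdeal_comap (algebraMap A B)).ge) ha
    have : IsUnit (1 + a) := by
      by_contra hu
      exact (maximalIdeal.isMaximal B).ne_top ((Ideal.eq_top_iff_one _).mpr
        (by simpa using sub_mem ((mem_maximalIdeal _).mpr hu) ha'))
    exact this.smul_eq_zero.mp hax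
  · obtain ⟨z, rfl⟩ := exists_mu_eq R 1 hv
    clear hv
    induction z with
    | zero => simp
    | add a b ha hb => rw [map_add, map_add, ha, hb, add_zero]
    | tmul r c =>
      rw [mu_tmul, LinearMap.map_smul_of_tower]
      exact hN _ (by simpa using c.2) _

end Theta

section OfMap

variable [IsLocalRing A] {R M : Type u} [AddCommGroup R] [Module A R] [Module B R] [IsScalarTower A B R]
  [AddCommGroup M] [Module A M] [Module B M] [IsScalarTower A B M] (J : Ideal B)

/-- The elements saturated at level one. -/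
def satSub (R : Type u) [AddCommGroup R] [Module A R] [Module B R] [IsScalarTower A B R] : Submodule B R where
  carrier := {v | sat (A := A) J R 1 v}
  zero_mem' := fun g _ => ⟨0, by simp⟩
  add_mem' := fun {a b} ha hb g hg => by
    obtain ⟨k, hk⟩ := ha g hg
    obtain ⟨l, hl⟩ := hb g hg
    refine ⟨k + l, ?_⟩
    rw [smul_add]
    refine add_mem ?_ ?_
    · rw [Nat.add_comm, pow_add, mul_smul]; exact Submodule.smul_mem _ _ hk
    · rw [pow_add, mul_smul]; exact Submodule.smul_mem _ _ hl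
  smul_mem' := fun c v hv g hg => by
    obtain ⟨k, hk⟩ := hv g hg
    exact ⟨k, by rw [smul_comm]; exact Submodule.smul_mem _ _ hk⟩

variable {J} {x y : B}

theorem map_powR_le (φ : M →ₗ[B] R) (n : ℕ) :
    (powR (A := A) (B := B) M n).map φ ≤ powR (A := A) (B := B) R n := by
  rw [powR, powR, Submodule.map_smul'']
  exact Submodule.smul_mono le_rfl le_top

/-- The lifting criterion, with the lift given by a map that is bijective off `J`. -/
theorem flat_of_map [IsLocalRing B] [IsLocalHom (algebraMap A B)] [IsNoetherianRing A] [IsNoetherianRing B]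
    [Module.Finite B R] [Module.Flat A B] {ι : Type u} [Finite ι] (j : R →ₗ[B] ι → B) (hj : Function.Injective j)
    (hx : x ∈ J) (hy : y ∈ J) {w : B} (hw : w ∈ J) (hxB : IsSMulRegular (B ⧸ powR (A := A) (B := B) B 1) w)
    (hflat : FlatOff (A := A) J R) (φ : M →ₗ[B] R) (hinj : ∀ v, φ v = 0 → IsTors J v)
    (hsurj : ∀ (r : R) (g : B), g ∈ J → ∃ (k : ℕ) (v : M), g ^ k • r = φ v)
    (hreg : Reg2 x y (M ⧸ powR (A := A) (B := B) M 1)) :
    Module.Flat A R ∧ (∀ v, φ v ∈ powR (A := A) (B := B) R 1 → v ∈ powR (A := A) (B := B) M 1) ∧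
      ∀ r, ∃ v, r - φ v ∈ powR (A := A) (B := B) R 1 := by
  let PM := powR (A := A) (B := B) M 1
  let S := satSub (A := A) J R
  have hPS : powR (A := A) (B := B) R 1 ≤ S := fun v hv g _ => ⟨0, by simpa using hv⟩
  let θ : (M ⧸ PM) →ₗ[B] R ⧸ S := Submodule.mapQ PM S φ
    ((Submodule.map_le_iff_le_comap).1 ((map_powR_le φ 1).trans hPS))
  have hcok : ∀ (g : B), g ∈ J → ∀ z : R ⊗[A] ↥(maximalIdeal A ^ 1),
      ∃ (l : ℕ) (w : M ⊗[A] ↥(maximalIdeal A ^ 1)), g ^ l • mu (B := B) R 1 z = φ (mu (B := B) M 1 w) := by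
    intro g hg z
    induction z with
    | zero => exact ⟨0, 0, by simp⟩
    | tmul r a =>
      obtain ⟨l, v, hv⟩ := hsurj r g hg
      exact ⟨l, v ⊗ₜ a, by rw [mu_tmul, mu_tmul, smul_comm, hv, LinearMap.map_smul_of_tower]⟩
    | add a b ha hb =>
      obtain ⟨la, wa, ha⟩ := ha
      obtain ⟨lb, wb, hb⟩ := hb
      refine ⟨la + lb, g ^ lb • wa + g ^ la • wb, ?_⟩
      simp only [map_add, map_smul, smul_add]
      rw [← ha, ← hb, smul_smul, smul_smul, ← pow_add, ← pow_add, Nat.add_comm lb la]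
  have hθ : Function.Injective θ := by
    rw [injective_iff_map_eq_zero]
    intro v hv
    obtain ⟨v, rfl⟩ := Submodule.Quotient.mk_surjective _ v
    rw [Submodule.mapQ_apply, Submodule.Quotient.mk_eq_zero] at hv
    refine eq_zero_of_isTors hx hreg.reg fun g hg => ?_
    obtain ⟨k, hk⟩ := hv g hg
    obtain ⟨z, hz⟩ := exists_mu_eq R 1 hk
    obtain ⟨l, w, hw⟩ := hcok g hg z
    rw [hz, smul_smul, ← pow_add] at hw
    obtain ⟨e, he⟩ := hinj (g ^ (l + k) • v - mu (B := B) M 1 w) (by rw [map_sub, map_smul, hw, sub_self]) g hg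
    refine ⟨e + (l + k), ?_⟩
    rw [← Submodule.Quotient.mk_smul, Submodule.Quotient.mk_eq_zero, pow_add, mul_smul,
      show g ^ e • g ^ (l + k) • v = g ^ e • mu (B := B) M 1 w by rwa [← sub_eq_zero, ← smul_sub]]
    exact Submodule.smul_mem _ _ (mu_mem M 1 w)
  have htors : ∀ v : M, φ v = 0 → (Submodule.Quotient.mk v : M ⧸ PM) = 0 := fun v hv =>
    eq_zero_of_isTors hx hreg.reg fun g hg => by
      obtain ⟨k, hk⟩ := hinj v hv g hg
      exact ⟨k, by rw [← Submodule.Quotient.mk_smul, hk, Submodule.Quotient.mk_zero]⟩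
  have hθs : Function.Surjective θ := by
    intro r
    obtain ⟨r, rfl⟩ := Submodule.Quotient.mk_surjective _ r
    obtain ⟨k, a, ha⟩ := hsurj r x hx
    obtain ⟨l, b, hb⟩ := hsurj r y hy
    obtain ⟨c, hc⟩ := hreg.pow k l (Submodule.Quotient.mk a) (Submodule.Quotient.mk b) (by
      rw [← Submodule.Quotient.mk_smul, ← Submodule.Quotient.mk_smul, ← sub_eq_zero, ← Submodule.Quotient.mk_sub]
      exact htors _ (by rw [map_sub, map_smul, map_smul, ← ha, ← hb, smul_comm, sub_self]))
    obtain ⟨c, rfl⟩ := Submodule.Quotient.mk_surjective _ c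
    refine ⟨Submodule.Quotient.mk c, ((Submodule.Quotient.eq S).2 fun g hg => ?_).symm⟩
    obtain ⟨e, b', hb'⟩ := hsurj r g hg
    have h0 : (Submodule.Quotient.mk (x ^ k • (b' - g ^ e • c)) : M ⧸ PM) = 0 := by
      have h1 := htors (x ^ k • b' - g ^ e • a) (by rw [map_sub, map_smul, map_smul, ← ha, ← hb', smul_comm, sub_self])
      rw [Submodule.Quotient.mk_sub, Submodule.Quotient.mk_smul, Submodule.Quotient.mk_smul, hc, smul_comm (g ^ e),
        ← Submodule.Quotient.mk_smul _ (g ^ e) c, ← smul_sub, ← Submodule.Quotient.mk_sub] at h1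
      exact h1
    have h2 : b' - g ^ e • c ∈ PM := (Submodule.Quotient.mk_eq_zero _).1
      ((hreg.reg.pow k) (show x ^ k • (Submodule.Quotient.mk (b' - g ^ e • c) : M ⧸ PM) = x ^ k • 0 by
        rw [smul_zero, ← Submodule.Quotient.mk_smul, h0]))
    refine ⟨e, ?_⟩
    rw [smul_sub, hb', ← map_smul, ← map_sub]
    exact map_powR_le φ 1 ⟨_, h2, rfl⟩
  let E := LinearEquiv.ofBijective θ ⟨hθ, hθs⟩
  let π : R →ₗ[B] M ⧸ PM := E.symm.toLinearMap ∘ₗ S.mkQ
  have hN : ∀ a ∈ maximalIdeal A, ∀ v : M ⧸ PM, a • v = 0 := fun a ha v => by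
    obtain ⟨v, rfl⟩ := Submodule.Quotient.mk_surjective _ v
    rw [← Submodule.Quotient.mk_smul, Submodule.Quotient.mk_eq_zero, ← algebraMap_smul B a]
    exact Submodule.smul_mem_smul (Ideal.mem_map_of_mem _ (by simpa using ha)) trivial
  have hker : ∀ v, π v = 0 → sat (A := A) J R 1 v := fun v hv =>
    (Submodule.Quotient.mk_eq_zero S).1 (E.symm.injective (by rw [map_zero]; exact hv))
  obtain ⟨hF, hK⟩ := flat_of_lift j hj hx hy hw hxB hflat π
    (E.symm.surjective.comp (Submodule.mkQ_surjective S)) hN hreg hker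
  have hπφ : ∀ v, π (φ v) = Submodule.Quotient.mk v := fun v => E.symm_apply_eq.2 rfl
  refine ⟨hF, fun v hv => ?_, fun r => ?_⟩
  · rw [← hK, hπφ] at hv
    exact (Submodule.Quotient.mk_eq_zero _).1 hv
  · obtain ⟨v, hv⟩ := Submodule.Quotient.mk_surjective _ (π r)
    exact ⟨v, (hK _).1 (by rw [map_sub, hπφ, hv, sub_self])⟩

end OfMap

section Fibre

variable [IsLocalRing A] {C : Type u} [CommRing C] [Algebra B C]
  {M : Type u} [AddCommGroup M] [Module A M] [Module B M] [IsScalarTower A B M]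

/-- `C ⊗ M ≅ M / m M` for the closed fibre ring `C`. -/
noncomputable def fibreQuot (hs : Function.Surjective (algebraMap B C))
    (hk : RingHom.ker (algebraMap B C) = (maximalIdeal A).map (algebraMap A B)) :
    (C ⊗[B] M) ≃ₗ[B] M ⧸ powR (A := A) (B := B) M 1 :=
  ((TensorProduct.congr ((Ideal.quotientEquivAlgOfEq B hk.symm).trans
      (Ideal.quotientKerAlgEquivOfSurjective (f := Algebra.ofId B C) hs)).symm.toLinearEquiv (LinearEquiv.refl B M)).trans
    (TensorProduct.quotTensorEquivQuotSMul M _)).trans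
      (Submodule.quotEquivOfEq _ _ (by rw [powR, pow_one]))

theorem fibreQuot_one_tmul (hs : Function.Surjective (algebraMap B C))
    (hk : RingHom.ker (algebraMap B C) = (maximalIdeal A).map (algebraMap A B)) (v : M) :
    fibreQuot (A := A) hs hk (1 ⊗ₜ v) = Submodule.Quotient.mk v := by
  simp only [fibreQuot, LinearEquiv.trans_apply, TensorProduct.congr_tmul, LinearEquiv.refl_apply,
    AlgEquiv.toLinearEquiv_apply, map_one]
  rw [show (1 : B ⧸ (maximalIdeal A).map (algebraMap A B)) = Ideal.Quotient.mk _ 1 from rfl,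
    TensorProduct.quotTensorEquivQuotSMul_mk_tmul, one_smul]
  rfl

variable {R : Type u} [AddCommGroup R] [Module A R] [Module B R] [IsScalarTower A B R]

/-- A map which is bijective modulo `m` is bijective on the closed fibre. -/
theorem bijective_baseChange (hs : Function.Surjective (algebraMap B C))
    (hk : RingHom.ker (algebraMap B C) = (maximalIdeal A).map (algebraMap A B)) (φ : M →ₗ[B] R)
    (h1 : ∀ v, φ v ∈ powR (A := A) (B := B) R 1 → v ∈ powR (A := A) (B := B) M 1)
    (h2 : ∀ r, ∃ v, r - φ v ∈ powR (A := A) (B := B) R 1) : Function.Bijective (φ.baseChange C) := by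
  have hgen : ∀ {P : Type u} [AddCommGroup P] [Module B P] (z : C ⊗[B] P), ∃ v : P, z = 1 ⊗ₜ v := fun z => by
    induction z with
    | zero => exact ⟨0, (TensorProduct.tmul_zero _ _).symm⟩
    | tmul c p =>
      obtain ⟨b, rfl⟩ := hs c
      exact ⟨b • p, by rw [← TensorProduct.smul_tmul, Algebra.smul_def, mul_one]⟩
    | add a b ha hb =>
      obtain ⟨va, rfl⟩ := ha
      obtain ⟨vb, rfl⟩ := hb
      exact ⟨va + vb, (TensorProduct.tmul_add _ _ _).symm⟩
  refine ⟨(injective_iff_map_eq_zero _).2 fun z hz => ?_, fun z => ?_⟩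
  · obtain ⟨v, rfl⟩ := hgen z
    rw [LinearMap.baseChange_tmul] at hz
    have := congrArg (fibreQuot (A := A) hs hk) hz
    rw [fibreQuot_one_tmul, map_zero, Submodule.Quotient.mk_eq_zero] at this
    refine (fibreQuot (A := A) hs hk).injective ?_
    rw [fibreQuot_one_tmul, map_zero, Submodule.Quotient.mk_eq_zero]
    exact h1 v this
  · obtain ⟨r, rfl⟩ := hgen z
    obtain ⟨v, hv⟩ := h2 r
    refine ⟨1 ⊗ₜ v, ?_⟩
    rw [LinearMap.baseChange_tmul, ← sub_eq_zero, ← TensorProduct.tmul_sub]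
    refine (fibreQuot (A := A) hs hk).injective ?_
    rw [fibreQuot_one_tmul, map_zero, Submodule.Quotient.mk_eq_zero, ← neg_sub]
    exact neg_mem hv

/-- Regular pairs transfer from the closed fibre. -/
theorem reg2_quot (hs : Function.Surjective (algebraMap B C))
    (hk : RingHom.ker (algebraMap B C) = (maximalIdeal A).map (algebraMap A B))
    {P : Type u} [AddCommGroup P] [Module C P] (E : C ⊗[B] M ≃ₗ[C] P) {a b : B}
    (h : Reg2 (algebraMap B C a) (algebraMap B C b) P) : Reg2 a b (M ⧸ powR (A := A) (B := B) M 1) := by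
  let e : (M ⧸ powR (A := A) (B := B) M 1) ≃+ P :=
    (fibreQuot (A := A) hs hk).symm.toAddEquiv.trans E.toAddEquiv
  have he : ∀ (c : B) v, e (c • v) = algebraMap B C c • e v := fun c v => by
    show E ((fibreQuot (A := A) hs hk).symm (c • v)) = _
    rw [map_smul, ← algebraMap_smul C c, map_smul]
    rfl
  refine ⟨fun v w hvw => e.injective (h.reg (show algebraMap B C a • e v = algebraMap B C a • e w by
    rw [← he, ← he]; exact congrArg e hvw)), fun v w hvw => ?_⟩
  obtain ⟨c, hc⟩ := h.reg2 (e v) (e w) (by rw [← he, ← he, hvw])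
  exact ⟨e.symm c, e.injective (by rw [he, e.apply_symm_apply, hc])⟩

end Fibre

end Groth.Agent.H4Rel.Lift
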