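import Groth.Agent.H4Rel.HomExt
import Groth.Agent.H4Rel.ExtCM

/-!
# Flat modules with isomorphic closed fibres without self-extensions
-/

set_option autoImplicit false
set_option linter.style.haveILetI false
set_option linter.unusedSectionVars false
set_option maxHeartbeats 1000000

universe u

open TensorProduct IsLocalRing
open TensorProduct (AlgebraTensorModule.lTensor)

namespace Groth.Agent.H4Rel.Lift

variable {A B : Type u} [CommRing A] [CommRing B] [Algebra A B] [IsLocalRing A]
  {L W : Type u} [AddCommGroup L] [Module A L] [Module B L] [IsScalarTower A B L]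
  [AddCommGroup W] [Module A W] [Module B W] [IsScalarTower A B W]

/-- Relations of a flat module meet `m` in `m` times the relations. -/
theorem eq_zero_of_mem_powR [Module.Flat A L] {k : ℕ} (s : (Fin k → B) →ₗ[B] L) (hs : Function.Surjective s)
    {P : Type u} [AddCommGroup P] [Module A P] [Module B P] [IsScalarTower A B P]
    (hP : ∀ a ∈ maximalIdeal A, ∀ v : P, a • v = 0) (θ : LinearMap.ker s →ₗ[B] P) (v : LinearMap.ker s)
    (hv : (v : Fin k → B) ∈ powR (A := A) (B := B) (Fin k → B) 1) : θ v = 0 := by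
  let i : (LinearMap.ker s) →ₗ[A] (Fin k → B) := (LinearMap.ker s).subtype.restrictScalars A
  have hex : Function.Exact i (s.restrictScalars A) := LinearMap.exact_subtype_ker_map s
  have hinj : Function.Injective (i.lTensor (A ⧸ maximalIdeal A)) :=
    LinearMap.lTensor_injective_of_exact_of_flat (s.restrictScalars A) hs i (Submodule.injective_subtype _) hex _
  have hv' : (v : Fin k → B) ∈ maximalIdeal A • (⊤ : Submodule A (Fin k → B)) := by
    rw [powR, pow_one] at hv
    rwa [← Submodule.restrictScalars_mem A, Ideal.smul_restrictScalars, Submodule.restrictScalars_top] at hv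
  have h0 : (Submodule.Quotient.mk v : (LinearMap.ker s) ⧸ maximalIdeal A • (⊤ : Submodule A (LinearMap.ker s))) = 0 := by
    have h1 : (1 : A ⧸ maximalIdeal A) ⊗ₜ[A] v = 0 := hinj (by
      rw [map_zero, LinearMap.lTensor_tmul]
      refine (TensorProduct.quotTensorEquivQuotSMul (Fin k → B) (maximalIdeal A)).injective ?_
      rw [map_zero, show (1 : A ⧸ maximalIdeal A) = Ideal.Quotient.mk _ 1 from rfl,
        TensorProduct.quotTensorEquivQuotSMul_mk_tmul, one_smul]
      exact (Submodule.Quotient.mk_eq_zero _).2 hv')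
    have := congrArg (TensorProduct.quotTensorEquivQuotSMul (LinearMap.ker s) (maximalIdeal A)) h1
    rwa [map_zero, show (1 : A ⧸ maximalIdeal A) = Ideal.Quotient.mk _ 1 from rfl,
      TensorProduct.quotTensorEquivQuotSMul_mk_tmul, one_smul] at this
  rw [Submodule.Quotient.mk_eq_zero] at h0
  refine Submodule.smul_induction_on h0 (fun a ha w _ => ?_) fun p q hp hq => by rw [map_add, hp, hq, add_zero]
  rw [LinearMap.map_smul_of_tower]
  exact hP a ha _

section Reduce

variable {C : Type u} [CommRing C] [Algebra B C]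

/-- Vanishing of self-extensions of the closed fibre, for relations of a flat module. -/
theorem extends_reduce [Module.Flat A L] (hs : Function.Surjective (algebraMap B C))
    (hk : RingHom.ker (algebraMap B C) = (maximalIdeal A).map (algebraMap A B))
    (e : C ⊗[B] L ≃ₗ[C] C ⊗[B] W) (hE : Extends C (C ⊗[B] W) (C ⊗[B] W))
    (k : ℕ) (s : (Fin k → B) →ₗ[B] L) (hsur : Function.Surjective s)
    (θ : LinearMap.ker s →ₗ[B] (W ⧸ powR (A := A) (B := B) W 1)) :
    ∃ ψ : (Fin k → B) →ₗ[B] (W ⧸ powR (A := A) (B := B) W 1), ∀ v : LinearMap.ker s, ψ v = θ v := by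
  classical
  let red : (Fin k → B) →ₗ[B] (Fin k → C) := LinearMap.pi fun i => (Algebra.linearMap B C) ∘ₗ LinearMap.proj i
  let S : (Fin k → C) →ₗ[C] C ⊗[B] W :=
    e.toLinearMap ∘ₗ Fintype.linearCombination C fun i => (1 : C) ⊗ₜ[B] s (Pi.single i 1)
  have hSr : ∀ v, S (red v) = e (1 ⊗ₜ s v) := fun v => by
    show e (Fintype.linearCombination C (fun i => (1 : C) ⊗ₜ[B] s (Pi.single i 1)) (red v)) = _
    congr 1
    rw [Fintype.linearCombination_apply]
    conv_rhs => rw [pi_eq_sum_univ' v, map_sum, TensorProduct.tmul_sum]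
    refine Finset.sum_congr rfl fun i _ => ?_
    rw [map_smul, TensorProduct.tmul_smul]
    exact algebraMap_smul C (v i) ((1 : C) ⊗ₜ[B] s (Pi.single i 1))
  have hred : Function.Surjective red := fun c => by
    choose b hb using fun i => hs (c i)
    exact ⟨b, funext hb⟩
  have hredI : ∀ v, red v = 0 ↔ v ∈ powR (A := A) (B := B) (Fin k → B) 1 := fun v => by
    refine ⟨fun h => mem_powR_pi' fun i => ?_, fun h => funext fun i => ?_⟩
    · rw [powR, pow_one, smul_eq_mul, Ideal.mul_top, ← hk]
      exact congrFun h i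
    · have h' := Submodule.mem_map_of_mem (f := (LinearMap.proj i : (Fin k → B) →ₗ[B] B)) h
      rw [powR, Submodule.map_smul''] at h'
      have h'' : v i ∈ (maximalIdeal A ^ 1).map (algebraMap A B) • (⊤ : Submodule B B) :=
        Submodule.smul_mono le_rfl le_top h'
      rw [pow_one, smul_eq_mul, Ideal.mul_top, ← hk] at h''
      exact h''
  have hS : Function.Surjective S := fun z => by
    obtain ⟨y, rfl⟩ := e.surjective z
    suffices ∃ v, y = 1 ⊗ₜ[B] s v by
      obtain ⟨v, rfl⟩ := this
      exact ⟨red v, hSr v⟩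
    induction y with
    | zero => exact ⟨0, by rw [map_zero, TensorProduct.tmul_zero]⟩
    | tmul c w =>
      obtain ⟨b, rfl⟩ := hs c
      obtain ⟨v, rfl⟩ := hsur w
      exact ⟨b • v, by rw [map_smul, ← TensorProduct.smul_tmul, Algebra.smul_def, mul_one]⟩
    | add p q hp hq =>
      obtain ⟨v, rfl⟩ := hp
      obtain ⟨w, rfl⟩ := hq
      exact ⟨v + w, by rw [map_add, TensorProduct.tmul_add]⟩
  let π : LinearMap.ker s →ₗ[B] (LinearMap.ker S).restrictScalars B :=
    LinearMap.codRestrict _ (red ∘ₗ (LinearMap.ker s).subtype) fun v => by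
      show S (red v) = 0
      rw [hSr, LinearMap.mem_ker.1 v.2, TensorProduct.tmul_zero, map_zero]
  have hπ : Function.Surjective π := fun c => by
    obtain ⟨v, hv⟩ := hred c.1
    have h0 : (Submodule.Quotient.mk (s v) : L ⧸ powR (A := A) (B := B) L 1) = 0 := by
      rw [← fibreQuot_one_tmul (A := A) hs hk, ← map_zero (fibreQuot (A := A) (M := L) hs hk)]
      congr 1
      refine e.injective ?_
      rw [← hSr, hv, map_zero]
      exact c.2
    have h1 : s v ∈ Submodule.map s (powR (A := A) (B := B) (Fin k → B) 1) := by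
      rw [powR, Submodule.map_smul'', Submodule.map_top, LinearMap.range_eq_top.2 hsur]
      exact (Submodule.Quotient.mk_eq_zero _).1 h0
    obtain ⟨η, hη, hsη⟩ := h1
    refine ⟨⟨v - η, by rw [LinearMap.mem_ker, map_sub, hsη, sub_self]⟩, Subtype.ext ?_⟩
    show red (v - η) = c.1
    rw [map_sub, (hredI η).2 hη, sub_zero, hv]
  have hker : LinearMap.ker π ≤ LinearMap.ker θ := fun v hv => by
    refine LinearMap.mem_ker.2 (eq_zero_of_mem_powR s hsur smul_eq_zero_quot θ v ((hredI _).1 ?_))
    exact congrArg Subtype.val (LinearMap.mem_ker.1 hv)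
  let θ₁ := (LinearMap.ker π).liftQ θ hker ∘ₗ (LinearMap.quotKerEquivOfSurjective π hπ).symm.toLinearMap
  have hθ₁ : ∀ v, θ₁ (π v) = θ v := fun v => by
    have : (LinearMap.quotKerEquivOfSurjective π hπ).symm (π v) = Submodule.Quotient.mk v :=
      (LinearEquiv.symm_apply_eq _).2 rfl
    simp [θ₁, this]
  let q := fibreQuot (A := A) (M := W) hs hk
  let θ₂ : LinearMap.ker S →ₗ[C] C ⊗[B] W := LinearMap.extendScalarsOfSurjective hs
    ({ toFun := fun c => q.symm (θ₁ ⟨c.1, c.2⟩)
       map_add' := fun c c' => by rw [← map_add q.symm, ← map_add θ₁]; rfl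
       map_smul' := fun b c => by rw [RingHom.id_apply, ← map_smul q.symm, ← map_smul θ₁]; rfl } :
      LinearMap.ker S →ₗ[B] C ⊗[B] W)
  obtain ⟨E', hE'⟩ := hE k S hS θ₂
  refine ⟨q.toLinearMap ∘ₗ E'.restrictScalars B ∘ₗ red, fun v => ?_⟩
  show q (E' (red v)) = θ v
  have h := hE' ⟨(π v).1, (π v).2⟩
  rw [show red (v : Fin k → B) = (π v).1 from rfl, h]
  show q (q.symm (θ₁ ⟨(π v).1, _⟩)) = θ v
  rw [q.apply_symm_apply]
  exact hθ₁ v
where
  mem_powR_pi' {k : ℕ} {v : Fin k → B} (h : ∀ i, v i ∈ powR (A := A) (B := B) B 1) :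
      v ∈ powR (A := A) (B := B) (Fin k → B) 1 := by
    classical
    rw [← Finset.univ_sum_single v]
    refine sum_mem fun i _ => ?_
    have h' := Submodule.mem_map_of_mem (f := LinearMap.single B (fun _ : Fin k => B) i) (h i)
    rw [powR, Submodule.map_smul''] at h'
    exact Submodule.smul_mono le_rfl le_top h'

end Reduce

/-- Homomorphisms of the closed fibre lift. -/
theorem exists_hom_lift [IsNoetherianRing A] [IsNoetherianRing B] [Module.Flat A L] [Module.Flat A W]
    [Module.Finite B L] [Module.Finite B W]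
    (hext : ∀ (k : ℕ) (s : (Fin k → B) →ₗ[B] L), Function.Surjective s →
      ∀ θ : LinearMap.ker s →ₗ[B] (W ⧸ powR (A := A) (B := B) W 1),
        ∃ ψ : (Fin k → B) →ₗ[B] (W ⧸ powR (A := A) (B := B) W 1), ∀ v : LinearMap.ker s, ψ v = θ v)
    (φ : L →ₗ[B] (W ⧸ powR (A := A) (B := B) W 1)) :
    ∃ α : L →ₗ[B] W, ∀ v, (Submodule.Quotient.mk (α v) : W ⧸ powR (A := A) (B := B) W 1) = φ v := by
  obtain ⟨k, s, hs⟩ := Module.Finite.exists_fin' B L
  obtain ⟨l, t, ht⟩ := Module.Finite.exists_fin' B (LinearMap.ker s)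
  -- lifts to every level
  have hlift : ∀ n, ∃ ψ : (Fin k → B) →ₗ[B] W,
      (∀ v, (Submodule.Quotient.mk (ψ v) : W ⧸ powR (A := A) (B := B) W 1) = φ (s v)) ∧
      ∀ v : LinearMap.ker s, ψ v ∈ powR (A := A) (B := B) W (n + 1) := by
    intro n
    induction n with
    | zero =>
      obtain ⟨ψ, hψ⟩ := Module.projective_lifting_property (powR (A := A) (B := B) W 1).mkQ (φ ∘ₗ s)
        (Submodule.mkQ_surjective _)
      refine ⟨ψ, fun v => LinearMap.congr_fun hψ v, fun v => (Submodule.Quotient.mk_eq_zero _).1 ?_⟩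
      rw [show (Submodule.Quotient.mk (ψ v) : W ⧸ powR (A := A) (B := B) W 1) = φ (s v) from LinearMap.congr_fun hψ v,
        LinearMap.mem_ker.1 v.2, map_zero]
    | succ n ih =>
      obtain ⟨ψ, hψ1, hψ⟩ := ih
      let ψ' := (powR (A := A) (B := B) W (n + 1 + 1)).mkQ ∘ₗ ψ
      have hreg1 : IsSMulRegular (W ⧸ powR (A := A) (B := B) W 1) (1 : B) := fun a b h => by simpa using h
      obtain ⟨f, hf, hfg⟩ := exists_gr (A := A) (M := W) hreg1 (n + 1)
      have hmem : ∀ v : LinearMap.ker s, (ψ' ∘ₗ (LinearMap.ker s).subtype) v ∈ LinearMap.range f := fun v =>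
        (hfg _).1 ((Submodule.Quotient.mk_eq_zero _).2 (hψ v))
      let η := (LinearEquiv.ofInjective f hf).symm.toLinearMap ∘ₗ LinearMap.codRestrict _ _ hmem
      have hη : ∀ v : LinearMap.ker s, f (η v) = ψ' v := fun v =>
        congrArg Subtype.val ((LinearEquiv.ofInjective f hf).apply_symm_apply ⟨_, hmem v⟩)
      haveI : Module.Finite A ↥(maximalIdeal A ^ (n + 1)) := Module.Finite.iff_fg.2 (IsNoetherian.noetherian _)
      obtain ⟨r, ⟨e⟩⟩ := nonempty_tensor_equiv_pi (B := B) (N := W ⧸ powR (A := A) (B := B) W 1) smul_eq_zero_quot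
        ↥(maximalIdeal A ^ (n + 1))
      choose E hE using fun i : Fin r => hext k s hs ((LinearMap.proj i ∘ₗ e.toLinearMap) ∘ₗ η)
      let G := f ∘ₗ e.symm.toLinearMap ∘ₗ LinearMap.pi E
      obtain ⟨G', hG'⟩ := Module.projective_lifting_property (powR (A := A) (B := B) W (n + 1 + 1)).mkQ G
        (Submodule.mkQ_surjective _)
      have hG1 : ∀ v, G' v ∈ powR (A := A) (B := B) W (n + 1) := fun v => by
        have h := (hfg (G v)).2 ⟨_, rfl⟩
        rw [show G v = Submodule.Quotient.mk (G' v) from (LinearMap.congr_fun hG' v).symm] at h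
        exact (Submodule.Quotient.mk_eq_zero _).1 h
      refine ⟨ψ - G', fun v => ?_, fun v => ?_⟩
      · rw [LinearMap.sub_apply, Submodule.Quotient.mk_sub, hψ1,
          (Submodule.Quotient.mk_eq_zero _).2 (powR_antitone (A := A) (B := B) (M := W) (by omega) (hG1 v)), sub_zero]
      · rw [LinearMap.sub_apply, ← Submodule.Quotient.eq]
        show ψ' v = Submodule.Quotient.mk (G' v)
        rw [← hη, show (Submodule.Quotient.mk (G' (v : Fin k → B)) : W ⧸ powR (A := A) (B := B) W (n + 1 + 1)) =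
          G v from LinearMap.congr_fun hG' v]
        show f (η v) = f (e.symm (LinearMap.pi E v))
        congr 1
        exact (e.eq_symm_apply).2 (funext fun i => (hE i v).symm)
  -- approximation
  let F : ((Fin k → B) →ₗ[B] W) →ₗ[B] ((Fin l → B) →ₗ[B] W) :=
    LinearMap.lcomp B W ((LinearMap.ker s).subtype ∘ₗ t)
  haveI : Module.Finite B ((Fin k → B) →ₗ[B] W) := inferInstance
  haveI : Module.Finite B ((Fin l → B) →ₗ[B] W) := inferInstance
  let I : Ideal B := (maximalIdeal A).map (algebraMap A B)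
  obtain ⟨c, hc⟩ := Ideal.exists_pow_inf_eq_pow_smul I (LinearMap.range F)
  obtain ⟨ψ, hψ1, hψ⟩ := hlift c
  have hmem : F ψ ∈ I ^ (c + 1) • (⊤ : Submodule B ((Fin l → B) →ₗ[B] W)) := by
    classical
    have e : F ψ = ∑ j, (LinearMap.proj j : (Fin l → B) →ₗ[B] B).smulRight (F ψ (Pi.single j 1)) := by
      refine LinearMap.pi_ext' fun i => LinearMap.ext_ring ?_
      simp [Pi.single_apply]
    rw [e]
    refine sum_mem fun j _ => ?_
    have h : F ψ (Pi.single j 1) ∈ powR (A := A) (B := B) W (c + 1) := hψ _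
    have h' := Submodule.mem_map_of_mem
      (f := LinearMap.smulRightₗ (R := B) (M := W) (LinearMap.proj j : (Fin l → B) →ₗ[B] B)) h
    rw [powR, Ideal.map_pow, Submodule.map_smul''] at h'
    exact Submodule.smul_mono le_rfl le_top h'
  have hmem' : F ψ ∈ I • LinearMap.range F := by
    have h : F ψ ∈ I ^ (c + 1) • (⊤ : Submodule B _) ⊓ LinearMap.range F := ⟨hmem, ⟨ψ, rfl⟩⟩
    rw [hc (c + 1) (Nat.le_succ c), Nat.add_sub_cancel_left, pow_one] at h
    exact Submodule.smul_mono le_rfl inf_le_right h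
  rw [← Submodule.map_top, ← Submodule.map_smul''] at hmem'
  obtain ⟨η, hη, hFη⟩ := hmem'
  have hker : LinearMap.ker s ≤ LinearMap.ker (ψ - η) := fun v hv => by
    obtain ⟨w, hw⟩ := ht ⟨v, hv⟩
    have h := LinearMap.congr_fun hFη w
    rw [LinearMap.mem_ker, LinearMap.sub_apply, sub_eq_zero]
    simp only [F, LinearMap.lcomp_apply, LinearMap.comp_apply, hw] at h
    exact h.symm
  refine ⟨(LinearMap.ker s).liftQ (ψ - η) hker ∘ₗ (LinearMap.quotKerEquivOfSurjective s hs).symm.toLinearMap,
    fun w => ?_⟩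
  obtain ⟨v, rfl⟩ := hs w
  have h : (LinearMap.quotKerEquivOfSurjective s hs).symm (s v) = Submodule.Quotient.mk v :=
    (LinearEquiv.symm_apply_eq _).2 rfl
  rw [LinearMap.comp_apply, LinearEquiv.coe_coe, h, Submodule.liftQ_apply, LinearMap.sub_apply,
    Submodule.Quotient.mk_sub, hψ1]
  have h0 : η v ∈ powR (A := A) (B := B) W 1 := by
    have h' := Submodule.mem_map_of_mem (f := LinearMap.applyₗ (R := B) v) hη
    rw [Submodule.map_smul''] at h'
    rw [powR, pow_one]
    exact Submodule.smul_mono le_rfl le_top h'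
  rw [(Submodule.Quotient.mk_eq_zero _).2 h0, sub_zero]

/-- A lift of an isomorphism of closed fibres is an isomorphism. -/
theorem bijective_of_fibre [IsLocalRing B] [IsLocalHom (algebraMap A B)] [IsNoetherianRing B] [Module.Flat A W]
    [Module.Finite B L] [Module.Finite B W]
    (φ : (L ⧸ powR (A := A) (B := B) L 1) ≃ₗ[B] (W ⧸ powR (A := A) (B := B) W 1)) (α : L →ₗ[B] W)
    (hα : ∀ v, (Submodule.Quotient.mk (α v) : W ⧸ powR (A := A) (B := B) W 1) = φ (Submodule.Quotient.mk v)) :
    Function.Bijective α := by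
  have hI : (maximalIdeal A).map (algebraMap A B) ≤ maximalIdeal B :=
    Ideal.map_le_iff_le_comap.mpr (maximalIdeal_comap (algebraMap A B)).ge
  refine ⟨?_, LinearMap.range_eq_top.1 (top_le_iff.1 (Submodule.le_of_le_smul_of_le_jacobson_bot
    Module.Finite.fg_top (hI.trans (maximalIdeal_le_jacobson _)) fun w _ => ?_))⟩
  · refine (H7Flat.injective_and_flat_quotient (S := B) (α.restrictScalars A)
      (H7Flat.lTensor_residueField_injective _ fun b hb => ?_)).1
    have hb' : α b ∈ powR (A := A) (B := B) W 1 := by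
      rw [powR, pow_one]
      rwa [← Submodule.restrictScalars_mem A, Ideal.smul_restrictScalars, Submodule.restrictScalars_top]
    have h0 : φ (Submodule.Quotient.mk b) = 0 := by rw [← hα, (Submodule.Quotient.mk_eq_zero _).2 hb']
    rw [φ.map_eq_zero_iff, Submodule.Quotient.mk_eq_zero, powR, pow_one, ← Submodule.restrictScalars_mem A,
      Ideal.smul_restrictScalars, Submodule.restrictScalars_top] at h0
    exact h0
  · obtain ⟨v, hv⟩ := Submodule.Quotient.mk_surjective _ (φ.symm (Submodule.Quotient.mk w))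
    have h : w - α v ∈ (maximalIdeal A).map (algebraMap A B) • (⊤ : Submodule B W) := by
      have h' : w - α v ∈ powR (A := A) (B := B) W 1 := by
        rw [← Submodule.Quotient.eq, hα, hv, φ.apply_symm_apply]
      rwa [powR, pow_one] at h'
    rw [Submodule.mem_sup]
    exact ⟨α v, ⟨v, rfl⟩, w - α v, h, by abel⟩

end Groth.Agent.H4Rel.Lift
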