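import Groth.Agent.H4Rel.StalkSpec
import Groth.Agent.H4Rel.FibreFree
import Groth.Agent.H1CAlg.DepthHom

/-!
# Relative `(S₂)` from a lift of the fibre
-/

set_option autoImplicit false
set_option linter.style.haveILetI false
set_option linter.unusedSectionVars false
set_option backward.isDefEq.respectTransparency false
set_option maxHeartbeats 2000000
set_option synthInstance.maxHeartbeats 400000

universe u

open CategoryTheory CategoryTheory.Limits AlgebraicGeometry IsLocalRing TensorProduct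
open Groth.Agent.H16Derived

attribute [local instance] HasDerivedCategory.standard

namespace Groth.Agent.H4Rel

/-- Maps of stalks commute with specialisation. -/
theorem spec_stalkMapₗ {X : Scheme.{u}} {F G : X.Modules} (φ : F ⟶ G) {η y : X} (h : η ⤳ y)
    (v : F.presheaf.stalk y) : G.presheaf.stalkSpecializes h (RefHull.stalkMapₗ φ y v) =
      RefHull.stalkMapₗ φ η (F.presheaf.stalkSpecializes h v) := by
  obtain ⟨W, hW, m, rfl⟩ := TopCat.Presheaf.exists_germ_eq F.presheaf v
  rw [RefHull.stalkMapₗ_germ, H17.ZDepth.germ_spec_mod, H17.ZDepth.germ_spec_mod, RefHull.stalkMapₗ_germ]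

/-- The stalks of a double dual embed into free modules. -/
theorem exists_embed_ddual {X : Scheme.{u}} [IsLocallyNoetherian X] (G : X.Modules) (hG : Coh.IsCoh G) (x : X) :
    ∃ (n : ℕ) (j : (RefHull.ddual G).presheaf.stalk x →ₗ[X.presheaf.stalk x]
      (ULift.{u} (Fin n) → X.presheaf.stalk x)), Function.Injective j := by
  let D := RefHull.dual G
  have hD : Coh.IsCoh D := H29Ref.isCoh_dual G hG
  haveI := H06Mod.finite_stalk _ hD.2 x
  let ev := LinearEquiv.ofBijective (RefHull.evalStalk D (Coh.structureModule X) x)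
    (H29Ref.evalStalk_bijective D (Coh.structureModule X) (H10Coh.isFP_of_isCoh D hD) x)
  obtain ⟨n, s, hs⟩ := Module.Finite.exists_fin (R := X.presheaf.stalk x) (M := D.presheaf.stalk x)
  let u := H29Ref.unitEquiv (X := X) x
  let j₀ : (D.presheaf.stalk x →ₗ[X.presheaf.stalk x] (Coh.structureModule X).presheaf.stalk x) →ₗ[X.presheaf.stalk x]
      (ULift.{u} (Fin n) → X.presheaf.stalk x) :=
    { toFun := fun θ i => u.symm (θ (s i.down))
      map_add' := fun θ θ' => funext fun i => by simp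
      map_smul' := fun a θ => funext fun i => by simp }
  refine ⟨n, j₀ ∘ₗ ev.toLinearMap, fun θ θ' h => ev.injective ?_⟩
  refine LinearMap.ext_on hs ?_
  rintro _ ⟨i, rfl⟩
  exact u.symm.injective (congrFun h ⟨i⟩)

variable (A : Type u) [CommRing A] [IsNoetherianRing A] (Y : Scheme.{u}) [Y.Over (Spec (CommRingCat.of A))]
  [IsProper (Y ↘ Spec (CommRingCat.of A))] (d : ℕ)
  (hd : Cyc.HasRelDim (Y ↘ Spec (CommRingCat.of A)) d) {ω : Y.Modules}
  (hω : RelCanon.IsDualizingSheaf A Y d ω)
  (hS : RelCanon.IsSkMor (Y ↘ Spec (CommRingCat.of A)) 2)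

include hS in
/-- Relative `(S₂)` where a module is invertible. -/
theorem relSkAt_of_invertibleAt {L : Y.Modules} (hq : Coh.IsQCoh L) (y : Y) (h : RelCanon.InvertibleAt L y) :
    RelCanon.RelSkAt (Y ↘ Spec (CommRingCat.of A)) 2 L y := by
  let f := Y ↘ Spec (CommRingCat.of A)
  haveI : Flat f := hS.1
  haveI := isNoetherian_of_proper A Y
  refine ⟨?_, ?_⟩
  · obtain ⟨e⟩ := nonempty_stalk_equiv_of_invertibleAt hq h
    letI := (f.stalkMap y).hom.toAlgebra
    letI := FlatMod.moduleStalkOver f L y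
    haveI : IsScalarTower ((Spec (CommRingCat.of A)).presheaf.stalk (f y)) (Y.presheaf.stalk y) (L.presheaf.stalk y) :=
      .of_algebraMap_smul fun _ _ => rfl
    haveI : Module.Flat ((Spec (CommRingCat.of A)).presheaf.stalk (f y)) (Y.presheaf.stalk y) := Flat.stalkMap f y
    exact Module.Flat.of_linearEquiv (e.restrictScalars ((Spec (CommRingCat.of A)).presheaf.stalk (f y)))
  · refine skAt_of_invertibleAt (H29Fitt.isQCoh_pullback _ L hq) 2 ?_ (hS.2.2 y)
    obtain ⟨W, hW, ⟨e⟩⟩ := h
    obtain ⟨r⟩ := nonempty_restrict_pullback (f.fiberι (f y)) W L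
    exact ⟨f.fiberι (f y) ⁻¹ᵁ W, show f.fiberι (f y) (f.asFiber y) ∈ W by rw [f.fiberι_asFiber]; exact hW,
      ⟨r ≪≫ (Scheme.Modules.pullback _).mapIso e ≪≫ H25Theta.pO _⟩⟩

variable (V : Y.Opens) (hV : ∀ x ∈ V, x ∉ RelCanon.gorLocus (Y ↘ Spec (CommRingCat.of A)) → 2 ≤ fibDim A Y x)

include hd hω hS hV in
set_option maxHeartbeats 4000000 in
/-- A reflexive power is relatively `(S₂)` at `y` if a module mapping to it, isomorphically at the Gorenstein
generisations, has depth two on the fibre along the complement of the Gorenstein locus. -/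
theorem relSkAt_of_map (m : ℤ) (M : Y.Modules) (hM : Coh.IsCoh M) (y : Y) (hy : y ∈ V)
    (φ : M.presheaf.stalk y →ₗ[Y.presheaf.stalk y] (RelCanon.refPowZ ω m).presheaf.stalk y)
    (hφ : ∀ (η : Y) (h : η ⤳ y), η ∈ RelCanon.gorLocus (Y ↘ Spec (CommRingCat.of A)) →
      ∃ φη : M.presheaf.stalk η →ₗ[Y.presheaf.stalk η] (RelCanon.refPowZ ω m).presheaf.stalk η,
        Function.Bijective φη ∧
          ∀ v, (RelCanon.refPowZ ω m).presheaf.stalkSpecializes h (φ v) = φη (M.presheaf.stalkSpecializes h v))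
    (t : Spec (CommRingCat.of A)) (z : (Y ↘ Spec (CommRingCat.of A)).fiber t)
    (hz : ((Y ↘ Spec (CommRingCat.of A)).fiberι t) z = y)
    (hdep : ∀ w : (Y ↘ Spec (CommRingCat.of A)).fiber t, w ⤳ z →
      ((Y ↘ Spec (CommRingCat.of A)).fiberι t) w ∉ RelCanon.gorLocus (Y ↘ Spec (CommRingCat.of A)) →
      (2 : ℕ∞) ≤ LocCoh.depth (((Y ↘ Spec (CommRingCat.of A)).fiber t).presheaf.stalk w)
        (((Scheme.Modules.pullback ((Y ↘ Spec (CommRingCat.of A)).fiberι t)).obj M).presheaf.stalk w))
    (hsk : RelCanon.SkAt 2 ((Scheme.Modules.pullback ((Y ↘ Spec (CommRingCat.of A)).fiberι t)).obj M) z) :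
    RelCanon.RelSkAt (Y ↘ Spec (CommRingCat.of A)) 2 (RelCanon.refPowZ ω m) y := by
  let f := Y ↘ Spec (CommRingCat.of A)
  haveI : Flat f := hS.1
  haveI := isNoetherian_of_proper A Y
  haveI : LocallyOfFinitePresentation f := inferInstance
  haveI := H8Props.FieldDim.locallyOfFiniteType_fiberToSpec f t
  haveI : IsLocallyNoetherian (f.fiber t) := LocallyOfFiniteType.isLocallyNoetherian (f.fiberToSpecResidueField t)
  let U : Y.Opens := ⟨_, S3617.result Y _ f⟩
  let R := RelCanon.refPowZ ω m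
  obtain ⟨G, hG, eG⟩ := exists_refPowZ_eq (isCoh_and_two_le_depth A Y d hd hω).1 m
  have hR : Coh.IsCoh (RelCanon.refPowZ ω m) := eG.symm ▸ H29Ref.isCoh_ddual G hG
  obtain ⟨eU⟩ := nonempty_restrict_refPowZ U ω m
  have hinv : ∀ x ∈ U, RelCanon.InvertibleAt R x := fun x hx =>
    H29Ref.exists_iso_of_isFreeOfRankNear_one R x (H29Ref.isFreeOfRankNear_of_restrict R U
      (isInvertible_refPowZ (isInvertible_restrict_gor A Y d hd hω hS.1) m) eU x hx)
  by_cases hyU : y ∈ U
  · exact relSkAt_of_invertibleAt A Y hS hR.1 y (hinv y hyU)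
  subst hz
  let y := f.fiberι t z
  let B := Y.presheaf.stalk y
  let A₀ := (Spec (CommRingCat.of A)).presheaf.stalk (f y)
  letI : Algebra A₀ B := (f.stalkMap y).hom.toAlgebra
  haveI : IsLocalHom (algebraMap A₀ B) := inferInstanceAs (IsLocalHom (f.stalkMap y).hom)
  haveI : Module.Flat A₀ B := Flat.stalkMap f y
  letI := FlatMod.moduleStalkOver f M y
  letI := FlatMod.moduleStalkOver f R y
  haveI : IsScalarTower A₀ B (M.presheaf.stalk y) := .of_algebraMap_smul fun _ _ => rfl
  haveI : IsScalarTower A₀ B (R.presheaf.stalk y) := .of_algebraMap_smul fun _ _ => rfl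
  haveI : Module.Finite B (R.presheaf.stalk y) := H06Mod.finite_stalk _ hR.2 y
  let C := (f.fiber t).presheaf.stalk z
  letI : Algebra B C := ((f.fiberι t).stalkMap z).hom.toAlgebra
  have hs : Function.Surjective (algebraMap B C) := (f.fiberι t).stalkMap_surjective z
  have hk : RingHom.ker (algebraMap B C) = (maximalIdeal A₀).map (algebraMap A₀ B) := ker_fiberι_stalkMap f t z
  haveI : IsLocalHom (algebraMap B C) := inferInstanceAs (IsLocalHom ((f.fiberι t).stalkMap z).hom)
  -- the ideal of the non-Gorenstein generisations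
  let J := PrimeSpectrum.vanishingIdeal (Y.fromSpecStalk y ⁻¹' (U : Set Y)ᶜ)
  have hJ1 : ∀ q : PrimeSpectrum B, ¬ J ≤ q.asIdeal → Y.fromSpecStalk y q ∈ U := fun q hq => by
    by_contra hc
    exact hq fun a ha => (PrimeSpectrum.mem_vanishingIdeal _ _).1 ha q hc
  have hJ2 : ∀ q : PrimeSpectrum B, J ≤ q.asIdeal → Y.fromSpecStalk y q ∉ U := fun q hq => by
    have h : q ∈ PrimeSpectrum.zeroLocus (J : Set B) := hq
    have hc : IsClosed (Y.fromSpecStalk y ⁻¹' (U : Set Y)ᶜ : Set (PrimeSpectrum B)) :=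
      U.2.isClosed_compl.preimage (Y.fromSpecStalk y).continuous
    rw [PrimeSpectrum.zeroLocus_vanishingIdeal_eq_closure] at h
    exact hc.closure_subset h
  have hJC : J.map (algebraMap B C) ≠ ⊤ := by
    refine ne_top_of_le_ne_top (maximalIdeal.isMaximal C).ne_top (Ideal.map_le_iff_le_comap.2 fun a ha => ?_)
    have hc : Y.fromSpecStalk y (closedPoint B) ∉ U := by rwa [Scheme.fromSpecStalk_closedPoint]
    have hmem := (PrimeSpectrum.mem_vanishingIdeal _ _).1 ha (closedPoint B) hc
    show algebraMap B C a ∈ maximalIdeal C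
    exact map_nonunit _ a hmem
  have hgen : ∀ p : PrimeSpectrum C, J.map (algebraMap B C) ≤ p.asIdeal →
      (f.fiber t).fromSpecStalk z p ⤳ z ∧ f.fiberι t ((f.fiber t).fromSpecStalk z p) ∉ U := by
    intro p hp
    refine ⟨H7CDiv.fromSpecStalk_specializes p, ?_⟩
    rw [← Scheme.Hom.comp_apply, ← Scheme.SpecMap_stalkMap_fromSpecStalk, Scheme.Hom.comp_apply]
    exact hJ2 _ (Ideal.map_le_iff_le_comap.1 hp)
  -- regular elements
  have hMt : Coh.IsCoh ((Scheme.Modules.pullback (f.fiberι t)).obj M) := isCohPull _ hM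
  obtain ⟨a, b, ha, hb, hab⟩ := exists_reg2_stalk hMt z _ hJC fun p hp =>
    hdep _ (hgen p hp).1 (hgen p hp).2
  obtain ⟨w₀, _, hw₀, _, hwreg⟩ := exists_reg2_stalk (H10Coh.isCoh_structureModule' (f.fiber t)) z _ hJC
    fun p hp => by
      rw [H4Depth.depth_congr (H29Ref.unitEquiv (X := f.fiber t) _).symm]
      refine two_le_depth_fiber_stalk A Y hS t _ (hV _ ?_ (hgen p hp).2)
      exact ((hgen p hp).1.map (f.fiberι t).continuous).mem_open V.2 hy
  obtain ⟨x, hx, rfl⟩ := (Ideal.mem_map_iff_of_surjective _ hs).1 ha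
  obtain ⟨x', hx', rfl⟩ := (Ideal.mem_map_iff_of_surjective _ hs).1 hb
  obtain ⟨w, hw, rfl⟩ := (Ideal.mem_map_iff_of_surjective _ hs).1 hw₀
  let EM := LinearEquiv.ofBijective _ (H06Mod.pullStalkLin_bijective (f.fiberι t) M z)
  have hregM := Lift.reg2_quot (A := A₀) hs hk EM hab
  have hwB : IsSMulRegular (B ⧸ Lift.powR (A := A₀) (B := B) B 1) w := by
    have hP : Lift.powR (A := A₀) (B := B) B 1 = RingHom.ker (algebraMap B C) := by
      rw [hk, Lift.powR, pow_one, smul_eq_mul, Ideal.mul_top]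
    intro v v' hvv
    obtain ⟨v, rfl⟩ := Submodule.Quotient.mk_surjective _ v
    obtain ⟨v', rfl⟩ := Submodule.Quotient.mk_surjective _ v'
    replace hvv : w • (Submodule.Quotient.mk v : B ⧸ Lift.powR (A := A₀) (B := B) B 1) =
      w • Submodule.Quotient.mk v' := hvv
    rw [← Submodule.Quotient.mk_smul, ← Submodule.Quotient.mk_smul, Submodule.Quotient.eq, hP, RingHom.mem_ker,
      map_sub, smul_eq_mul, smul_eq_mul, map_mul, map_mul, sub_eq_zero] at hvv
    rw [Submodule.Quotient.eq, hP, RingHom.mem_ker, map_sub, sub_eq_zero]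
    let u := H29Ref.unitEquiv (X := f.fiber t) z
    apply u.injective
    refine hwreg.reg ?_
    show algebraMap B C w • u (algebraMap B C v) = algebraMap B C w • u (algebraMap B C v')
    exact (map_smul u _ _).symm.trans ((congrArg u hvv).trans (map_smul u _ _))
  obtain ⟨n, j, hj⟩ : ∃ (n : ℕ) (j : R.presheaf.stalk y →ₗ[B] (ULift.{u} (Fin n) → B)), Function.Injective j := by
    show ∃ (n : ℕ) (j : (RelCanon.refPowZ ω m).presheaf.stalk y →ₗ[B] (ULift.{u} (Fin n) → B)), Function.Injective j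
    rw [eG]
    exact exists_embed_ddual G hG y
  -- behaviour at the Gorenstein generisations
  have hflatOff : Lift.FlatOff (A := A₀) J (R.presheaf.stalk y) := by
    intro k ζ hζ
    refine isTors_of_forall J ζ fun q hq => ?_
    let η := Y.fromSpecStalk y q
    have hηy : η ⤳ y := H7CDiv.fromSpecStalk_specializes q
    letI := (Y.presheaf.stalkSpecializes hηy).hom.toAlgebra
    letI := Module.compHom (R.presheaf.stalk η) (Y.presheaf.stalkSpecializes hηy).hom
    haveI : IsScalarTower B (Y.presheaf.stalk η) (R.presheaf.stalk η) := .of_algebraMap_smul fun _ _ => rfl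
    haveI := H7CDiv.isLocalization_stalkSpecializes hηy
    haveI := isLocalizedModule_specLin R hR.1 hηy
    letI : Module A₀ (R.presheaf.stalk η) := Module.compHom _ (algebraMap A₀ B)
    haveI : IsScalarTower A₀ B (R.presheaf.stalk η) := .of_algebraMap_smul fun _ _ => rfl
    letI : Algebra A₀ (Y.presheaf.stalk η) := ((algebraMap B (Y.presheaf.stalk η)).comp (algebraMap A₀ B)).toAlgebra
    haveI : IsScalarTower A₀ B (Y.presheaf.stalk η) := .of_algebraMap_eq fun _ => rfl
    haveI : IsScalarTower A₀ (Y.presheaf.stalk η) (R.presheaf.stalk η) := .of_algebraMap_smul fun _ _ => rfl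
    obtain ⟨e⟩ := nonempty_stalk_equiv_of_invertibleAt hR.1 (hinv η (hJ1 q hq))
    haveI : Module.Flat B (Y.presheaf.stalk η) :=
      IsLocalization.flat _ (H7CDiv.primeOf hηy).asIdeal.primeCompl
    haveI : Module.Flat A₀ (Y.presheaf.stalk η) := Module.Flat.trans A₀ B (Y.presheaf.stalk η)
    haveI : Module.Flat A₀ (R.presheaf.stalk η) := Module.Flat.of_linearEquiv (e.restrictScalars A₀)
    let sp := specLin R hηy
    let T := AlgebraTensorModule.rTensor A₀ ↥(maximalIdeal A₀ ^ k) sp
    haveI : IsLocalizedModule (H7CDiv.primeOf hηy).asIdeal.primeCompl T := inferInstance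
    have hinj := Module.Flat.lTensor_preserves_injective_linearMap (M := R.presheaf.stalk η)
      (maximalIdeal A₀ ^ k).subtype Subtype.val_injective
    have hsq : ∀ ζ : R.presheaf.stalk y ⊗[A₀] ↥(maximalIdeal A₀ ^ k),
        TensorProduct.rid A₀ _ ((maximalIdeal A₀ ^ k).subtype.lTensor (R.presheaf.stalk η) (T ζ)) =
          sp (Lift.mu (B := B) (R.presheaf.stalk y) k ζ) := fun ζ => by
      induction ζ with
      | zero => simp
      | tmul r c => simp [T, LinearMap.map_smul_of_tower]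
      | add p q hp hq => simp only [map_add, hp, hq]
    have hT : T ζ = 0 := by
      refine hinj ?_
      rw [map_zero]
      refine (TensorProduct.rid A₀ _).injective ?_
      rw [hsq, hζ, map_zero, map_zero]
    obtain ⟨s, hs'⟩ := (IsLocalizedModule.eq_zero_iff (H7CDiv.primeOf hηy).asIdeal.primeCompl T).1 hT
    refine ⟨s.1, ?_, hs'⟩
    exact fun hq' => s.2 ((congrArg (fun p : PrimeSpectrum B => s.1 ∈ p.asIdeal)
      (H7CDiv.primeOf_fromSpecStalk q hηy)).mpr hq')
  have hker : ∀ v, φ v = 0 → Lift.IsTors J v := fun v hv => isTors_of_forall J v fun q hq => by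
    let η := Y.fromSpecStalk y q
    have hηy : η ⤳ y := H7CDiv.fromSpecStalk_specializes q
    obtain ⟨φη, hbij, hcomm⟩ := hφ η hηy (hJ1 q hq)
    have h0 : M.presheaf.stalkSpecializes hηy v = 0 := hbij.1 (by rw [← hcomm, hv, map_zero, map_zero])
    letI := (Y.presheaf.stalkSpecializes hηy).hom.toAlgebra
    letI := Module.compHom (M.presheaf.stalk η) (Y.presheaf.stalkSpecializes hηy).hom
    haveI := isLocalizedModule_specLin M hM.1 hηy
    obtain ⟨s, hs'⟩ := (IsLocalizedModule.eq_zero_iff (H7CDiv.primeOf hηy).asIdeal.primeCompl (specLin M hηy)).1 h0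
    refine ⟨s.1, ?_, hs'⟩
    exact fun hq' => s.2 ((congrArg (fun p : PrimeSpectrum B => s.1 ∈ p.asIdeal)
      (H7CDiv.primeOf_fromSpecStalk q hηy)).mpr hq')
  have hcoker : ∀ (r : R.presheaf.stalk y) (g : B), g ∈ J → ∃ (k : ℕ) (v : M.presheaf.stalk y), g ^ k • r = φ v := by
    intro r g hg
    obtain ⟨k, hk'⟩ := isTors_of_forall J (Submodule.Quotient.mk r : _ ⧸ LinearMap.range φ) (fun q hq => by
      let η := Y.fromSpecStalk y q
      have hηy : η ⤳ y := H7CDiv.fromSpecStalk_specializes q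
      obtain ⟨φη, hbij, hcomm⟩ := hφ η hηy (hJ1 q hq)
      obtain ⟨v₀, hv₀⟩ := hbij.2 (R.presheaf.stalkSpecializes hηy r)
      letI := (Y.presheaf.stalkSpecializes hηy).hom.toAlgebra
      letI := Module.compHom (M.presheaf.stalk η) (Y.presheaf.stalkSpecializes hηy).hom
      letI := Module.compHom (R.presheaf.stalk η) (Y.presheaf.stalkSpecializes hηy).hom
      haveI := isLocalizedModule_specLin M hM.1 hηy
      haveI := isLocalizedModule_specLin R hR.1 hηy
      obtain ⟨⟨v, s⟩, hvs⟩ := IsLocalizedModule.surj (H7CDiv.primeOf hηy).asIdeal.primeCompl (specLin M hηy) v₀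
      have h0 : specLin R hηy (φ v - s.1 • r) = 0 := by
        show R.presheaf.stalkSpecializes hηy (φ v - s.1 • r) = 0
        rw [map_sub, hcomm, spec_smul, show M.presheaf.stalkSpecializes hηy v =
          Y.presheaf.stalkSpecializes hηy s.1 • v₀ from hvs.symm, map_smul, hv₀, sub_self]
      obtain ⟨s', hs'⟩ := (IsLocalizedModule.eq_zero_iff (H7CDiv.primeOf hηy).asIdeal.primeCompl
        (specLin R hηy)).1 h0
      refine ⟨s'.1 * s.1, ?_, ?_⟩
      · exact fun hq' => mul_mem s'.2 s.2 ((congrArg (fun p : PrimeSpectrum B => s'.1 * s.1 ∈ p.asIdeal)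
          (H7CDiv.primeOf_fromSpecStalk q hηy)).mpr hq')
      · rw [← Submodule.Quotient.mk_smul, Submodule.Quotient.mk_eq_zero, mul_smul]
        rw [Submonoid.smul_def, smul_sub, sub_eq_zero, ← map_smul] at hs'
        exact ⟨_, hs'⟩) g hg
    rw [← Submodule.Quotient.mk_smul, Submodule.Quotient.mk_eq_zero] at hk'
    obtain ⟨v, hv⟩ := hk'
    exact ⟨k, v, hv.symm⟩
  obtain ⟨hflat, h1', h2'⟩ := Lift.flat_of_map j hj hx hx' hw hwB hflatOff φ hker hcoker hregM
  let ER := LinearEquiv.ofBijective _ (H06Mod.pullStalkLin_bijective (f.fiberι t) R z)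
  let L := EM.symm.trans ((LinearEquiv.ofBijective (φ.baseChange C) (Lift.bijective_baseChange hs hk φ h1' h2')).trans ER)
  have hskR : RelCanon.SkAt 2 ((Scheme.Modules.pullback (f.fiberι t)).obj R) z :=
    (H06EGA12.hasSk_iff_of_semilinear (RingHom.id _) Function.surjective_id L.toAddEquiv
      (fun r v => map_smul L r v) 2).2 hsk
  refine ⟨hflat, ?_⟩
  exact LeadBrown.Rel.forall_fiber f
    (P := fun t z => RelCanon.SkAt 2 ((Scheme.Modules.pullback (f.fiberι t)).obj R) z →
      RelCanon.SkAt 2 ((Scheme.Modules.pullback (f.fiberι (f (f.fiberι t z)))).obj R) (f.asFiber (f.fiberι t z)))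
    (fun y hy => by rwa [f.fiberι_asFiber y]) t z hskR

end Groth.Agent.H4Rel
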