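import Groth.Agent.H4Rel.FullSupp
import Groth.Agent.H4Rel.GoodCodim

/-!
# Base change of reflexive powers near a point
-/

set_option autoImplicit false
set_option linter.style.haveILetI false
set_option linter.unusedSectionVars false
set_option backward.isDefEq.respectTransparency false
set_option maxHeartbeats 1000000
set_option synthInstance.maxHeartbeats 400000

universe u

open CategoryTheory CategoryTheory.Limits AlgebraicGeometry
open Groth.Agent.H16Derived

attribute [local instance] HasDerivedCategory.standard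

namespace Groth.Agent.H4Rel

variable (A : Type u) [CommRing A] [IsNoetherianRing A] (Y : Scheme.{u}) [Y.Over (Spec (CommRingCat.of A))]
  [IsProper (Y ↘ Spec (CommRingCat.of A))] (d : ℕ)
  (hd : Cyc.HasRelDim (Y ↘ Spec (CommRingCat.of A)) d)
  (hS : RelCanon.IsSkMor (Y ↘ Spec (CommRingCat.of A)) 2)
  (V : Y.Opens) (hV : ∀ x ∈ V, x ∉ RelCanon.gorLocus (Y ↘ Spec (CommRingCat.of A)) → 2 ≤ fibDim A Y x)

include hd hV in
/-- Depth two on a fibre at a point of relative `(S₂)`. -/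
theorem two_le_depth_fibre_of_relSkAt {R : Y.Modules} (hR : Coh.IsCoh R)
    (hnt : ∀ x ∈ RelCanon.gorLocus (Y ↘ Spec (CommRingCat.of A)), Nontrivial (R.presheaf.stalk x))
    (hflat : Flat (Y ↘ Spec (CommRingCat.of A)))
    (t : Spec (CommRingCat.of A)) (z : (Y ↘ Spec (CommRingCat.of A)).fiber t)
    (hzV : ((Y ↘ Spec (CommRingCat.of A)).fiberι t) z ∈ V)
    (h2 : RelCanon.RelSkAt (Y ↘ Spec (CommRingCat.of A)) 2 R (((Y ↘ Spec (CommRingCat.of A)).fiberι t) z))
    (hz : 2 ≤ fibDim A Y (((Y ↘ Spec (CommRingCat.of A)).fiberι t) z)) :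
    (2 : ℕ∞) ≤ LocCoh.depth (((Y ↘ Spec (CommRingCat.of A)).fiber t).presheaf.stalk z)
      (((Scheme.Modules.pullback ((Y ↘ Spec (CommRingCat.of A)).fiberι t)).obj R).presheaf.stalk z) := by
  let f := Y ↘ Spec (CommRingCat.of A)
  haveI : Flat f := hflat
  haveI := isNoetherian_of_proper A Y
  haveI := H8Props.FieldDim.locallyOfFiniteType_fiberToSpec f t
  haveI : IsLocallyNoetherian (f.fiber t) := LocallyOfFiniteType.isLocallyNoetherian (f.fiberToSpecResidueField t)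
  let M := (Scheme.Modules.pullback (f.fiberι t)).obj R
  have hM : Coh.IsCoh M := isCohPull _ hR
  have hfull : ∀ w : f.fiber t, w ⤳ z → Nontrivial (M.presheaf.stalk w) := by
    intro w hwz
    obtain ⟨η, hη, hT⟩ := H8Props.FieldDim.exists_component_generization w
    have hηV : f.fiberι t η ∈ V := ((hη.trans hwz).map (f.fiberι t).continuous).mem_open V.2 hzV
    have h0 : fibDim A Y (f.fiberι t η) = 0 := by
      have h := fibDim_add_cdim A Y d hd t η
      rw [show H8Props.FieldDim.cdim η = (d : WithBot ℕ∞) from hd t _ hT] at h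
      revert h
      generalize fibDim A Y (f.fiberι t η) = a
      intro h
      induction a using WithBot.recBotCoe with
      | bot => simp at h
      | coe a =>
        have h' : a + (d : ℕ∞) = 0 + d := by rw [zero_add]; exact_mod_cast h
        exact_mod_cast WithTop.add_right_cancel (ENat.natCast_ne_top d) h'
    have hηU : f.fiberι t η ∈ RelCanon.gorLocus f := by
      by_contra hc
      have := hV _ hηV hc
      rw [h0] at this
      exact absurd this (by decide)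
    have hηnt : Nontrivial (M.presheaf.stalk η) := by
      haveI := hnt _ hηU
      letI := ((f.fiberι t).stalkMap η).hom.toAlgebra
      haveI : Module.Finite (Y.presheaf.stalk (f.fiberι t η)) ((f.fiber t).presheaf.stalk η) :=
        Module.Finite.of_surjective (Algebra.linearMap _ _) ((f.fiberι t).stalkMap_surjective η)
      haveI : Module.Finite (Y.presheaf.stalk (f.fiberι t η)) (R.presheaf.stalk (f.fiberι t η)) :=
        H06Mod.finite_stalk _ hR.2 _
      haveI := H17.SuppTensor.subsingleton_tensor_local (R := Y.presheaf.stalk (f.fiberι t η))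
        (M := (f.fiber t).presheaf.stalk η) (N := R.presheaf.stalk (f.fiberι t η))
      exact (LinearEquiv.ofBijective _ (H06Mod.pullStalkLin_bijective (f.fiberι t) R η)).toEquiv.symm.nontrivial
    exact not_subsingleton_iff_nontrivial.1 (hη.mem_closed (H10Coh.isClosed_support M hM.2)
      (show η ∈ CohB1.support M from not_subsingleton_iff_nontrivial.2 hηnt))
  have hsk : RelCanon.SkAt 2 M z := LeadBrown.Rel.forall_fiber f
    (P := fun t z => RelCanon.RelSkAt f 2 R (f.fiberι t z) →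
      RelCanon.SkAt 2 ((Scheme.Modules.pullback (f.fiberι t)).obj R) z)
    (fun y hy => by
      have key : ∀ x, x = y → RelCanon.RelSkAt f 2 R x → RelCanon.RelSkAt f 2 R y := fun x hx hh => hx ▸ hh
      exact (key _ (f.fiberι_asFiber y) hy).2) t z h2
  have h := depth_at_closed_point' 2 _ hsk
  rw [supportDim_stalk_eq_of_generization _ hM.1 z hfull, ringKrullDim_fiber_stalk A Y t z,
    min_eq_left (show ((2 : ℕ) : WithBot ℕ∞) ≤ _ from hz)] at h
  exact WithBot.coe_le_coe.1 h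

variable {ω : Y.Modules} (hω : RelCanon.IsDualizingSheaf A Y d ω)
  {B : Type u} [CommRing B] [IsNoetherianRing B] {g : Spec (CommRingCat.of B) ⟶ Spec (CommRingCat.of A)}
  {Y' : Scheme.{u}} [Y'.Over (Spec (CommRingCat.of B))] {p : Y' ⟶ Y}
  (hp : IsPullback p (Y' ↘ Spec (CommRingCat.of B)) (Y ↘ Spec (CommRingCat.of A)) g)
  {ω' : Y'.Modules} (hω' : RelCanon.IsDualizingSheaf B Y' d ω')

include hd hS hω in
/-- The reflexive powers have nontrivial stalks at Gorenstein points. -/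
theorem nontrivial_refPowZ (m : ℤ) (x : Y) (hx : x ∈ RelCanon.gorLocus (Y ↘ Spec (CommRingCat.of A))) :
    Nontrivial ((RelCanon.refPowZ ω m).presheaf.stalk x) := by
  let f := Y ↘ Spec (CommRingCat.of A)
  haveI : Flat f := hS.1
  haveI := isNoetherian_of_proper A Y
  haveI : LocallyOfFinitePresentation f := inferInstance
  let U : Y.Opens := ⟨_, S3617.result Y _ f⟩
  obtain ⟨e⟩ := nonempty_restrict_refPowZ U ω m
  obtain ⟨G, hG', eG⟩ := exists_refPowZ_eq (isCoh_and_two_le_depth A Y d hd hω).1 m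
  obtain ⟨b⟩ := H8Props.FunDescent.stalkFree_of_isFreeOfRankNear _ (eG.symm ▸ H29Ref.isCoh_ddual G hG').1
    (H29Ref.isFreeOfRankNear_of_restrict (RelCanon.refPowZ ω m) U
      (isInvertible_refPowZ (isInvertible_restrict_gor A Y d hd hω hS.1) m) e x hx)
  exact b.equivFun.toEquiv.nontrivial

include hd hS hV hω hp hω' in
/-- Reflexive powers and base change over an open of good codimension. -/
theorem nonempty_refPowZ_bc_local (m : ℤ) :
    Nonempty ((RefHull.ddual ((Scheme.Modules.pullback p).obj (RelCanon.refPowZ ω m))).restrict (p ⁻¹ᵁ V).ι ≅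
      (RelCanon.refPowZ ω' m).restrict (p ⁻¹ᵁ V).ι) ∧
    ((∀ x ∈ V, x ∉ RelCanon.gorLocus (Y ↘ Spec (CommRingCat.of A)) →
        RelCanon.RelSkAt (Y ↘ Spec (CommRingCat.of A)) 2 (RelCanon.refPowZ ω m) x) →
      Nonempty (((Scheme.Modules.pullback p).obj (RelCanon.refPowZ ω m)).restrict (p ⁻¹ᵁ V).ι ≅
        (RelCanon.refPowZ ω' m).restrict (p ⁻¹ᵁ V).ι)) := by
  let f := Y ↘ Spec (CommRingCat.of A)
  let f' := Y' ↘ Spec (CommRingCat.of B)
  haveI : Flat f := hS.1
  haveI : IsProper f' := MorphismProperty.of_isPullback (P := @IsProper) hp inferInstance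
  haveI := isNoetherian_of_proper A Y
  haveI := isNoetherian_of_proper B Y'
  haveI : LocallyOfFinitePresentation f := inferInstance
  obtain ⟨hcoh, -⟩ := isCoh_and_two_le_depth A Y d hd hω
  obtain ⟨hcoh', -⟩ := isCoh_and_two_le_depth B Y' d (hasRelDim_of_isPullback hp hd) hω'
  obtain ⟨G, hG', eG⟩ := exists_refPowZ_eq hcoh' m
  obtain ⟨G₀, hG₀, eG₀⟩ := exists_refPowZ_eq hcoh m
  have hR : Coh.IsCoh (RelCanon.refPowZ ω m) := eG₀.symm ▸ H29Ref.isCoh_ddual G₀ hG₀
  have hR' : Coh.IsCoh (RelCanon.refPowZ ω' m) := eG.symm ▸ H29Ref.isCoh_ddual G hG'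
  have hP : Coh.IsCoh ((Scheme.Modules.pullback p).obj (RelCanon.refPowZ ω m)) := isCohPull p hR
  let U : Y.Opens := ⟨_, S3617.result Y _ f⟩
  let U' := p ⁻¹ᵁ U
  have hdO : ∀ y', y' ∈ p ⁻¹ᵁ V → y' ∉ U' → (2 : ℕ∞) ≤ LocCoh.depth (Y'.presheaf.stalk y') (Y'.presheaf.stalk y') :=
    fun y' hy hy' => two_le_depth_stalk_bc A Y hS hp y' (hV _ hy hy')
  have hd' : ∀ y', y' ∈ p ⁻¹ᵁ V → y' ∉ U' →
      (2 : ℕ∞) ≤ LocCoh.depth (Y'.presheaf.stalk y') ((RelCanon.refPowZ ω' m).presheaf.stalk y') :=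
    fun y' hy hy' => by rw [eG]; exact two_le_depth_ddual' G hG' y' (hdO y' hy hy')
  have hCMU : ∀ y ∈ U, MoreMor.IsCMAt f y := fun y hy => by
    haveI := (show Dual3.IsGorensteinAt f y from hy).2
    exact ⟨(show Dual3.IsGorensteinAt f y from hy).1, H4Goren.isCohenMacaulayLocalRing _⟩
  let L := ω.restrict U.ι
  have hL : PicF.IsInvertible L := isInvertible_restrict_gor A Y d hd hω hS.1
  obtain ⟨e₁⟩ := nonempty_restrict_bc A Y d hS.1 hd hω hp U hCMU hω'
  obtain ⟨e₂⟩ := nonempty_restrict_pullback p U ω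
  obtain ⟨e₃⟩ := nonempty_pullback_refPowZ (p ∣_ U) hL m
  obtain ⟨e₄⟩ := nonempty_refPowZ_congr (e₂.symm ≪≫ e₁) m
  obtain ⟨e₅⟩ := nonempty_restrict_refPowZ U' ω' m
  obtain ⟨e₆⟩ := nonempty_restrict_refPowZ U ω m
  obtain ⟨e₇⟩ := nonempty_restrict_pullback p U (RelCanon.refPowZ ω m)
  let E : ((Scheme.Modules.pullback p).obj (RelCanon.refPowZ ω m)).restrict U'.ι ≅ (RelCanon.refPowZ ω' m).restrict U'.ι :=
    e₇ ≪≫ (Scheme.Modules.pullback (p ∣_ U)).mapIso e₆ ≪≫ e₃ ≪≫ e₄ ≪≫ e₅.symm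
  refine ⟨?_, fun h2 => ?_⟩
  · refine nonempty_restrict_iso_of_restrict U' (p ⁻¹ᵁ V) (H29Ref.isCoh_ddual _ hP) hR'
      (fun y' hy hy' => two_le_depth_ddual' _ hP y' (hdO y' hy hy')) hd' ?_
    obtain ⟨r₁⟩ := nonempty_restrict_ddual U' ((Scheme.Modules.pullback p).obj (RelCanon.refPowZ ω m))
    obtain ⟨r₂⟩ := nonempty_ddual_congr ⟨e₇ ≪≫ (Scheme.Modules.pullback (p ∣_ U)).mapIso e₆⟩
    have hinv : PicF.IsInvertible ((Scheme.Modules.pullback (p ∣_ U)).obj (RelCanon.refPowZ L m)) :=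
      H11Ample.isInvertible_pullback _ (isInvertible_refPowZ hL m)
    obtain ⟨r₃⟩ := nonempty_ddual_of_isInvertible hinv
    exact ⟨r₁ ≪≫ r₂ ≪≫ r₃ ≪≫ e₃ ≪≫ e₄ ≪≫ e₅.symm⟩
  · refine nonempty_restrict_iso_of_restrict U' (p ⁻¹ᵁ V) hP hR' (fun y' hy hy' => ?_) hd' ⟨E⟩
    refine le_depth_pullback_of_fibre A Y hp _ hR 2 y' (h2 _ hy hy').1 fun z hz => ?_
    exact two_le_depth_fibre_of_relSkAt A Y d hd V hV hR (nontrivial_refPowZ A Y d hd hS hω m) hS.1 _ z
      (by rw [hz]; exact hy) (by rw [hz]; exact h2 _ hy hy') (by rw [hz]; exact hV _ hy hy')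

include hd hS hV hω hp hω' in
/-- Invertible reflexive powers stay invertible over an open of good codimension. -/
theorem invertibleAt_bc_local (m : ℤ) (y' : Y') (hy : p y' ∈ V)
    (h : RelCanon.InvertibleAt (RelCanon.refPowZ ω m) (p y')) :
    RelCanon.InvertibleAt (RelCanon.refPowZ ω' m) y' := by
  obtain ⟨W₀, hW₀, ⟨e⟩⟩ := h
  let W := W₀ ⊓ V
  obtain ⟨E⟩ := (nonempty_refPowZ_bc_local A Y d hd hS W (fun x hx => hV x hx.2) hω hp hω' m).1
  refine ⟨p ⁻¹ᵁ W, ⟨hW₀, hy⟩, ?_⟩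
  obtain ⟨r₁⟩ := nonempty_restrict_ddual (p ⁻¹ᵁ W) ((Scheme.Modules.pullback p).obj (RelCanon.refPowZ ω m))
  obtain ⟨r₂⟩ := nonempty_restrict_pullback p W (RelCanon.refPowZ ω m)
  let e' : (RelCanon.refPowZ ω m).restrict W.ι ≅ Coh.structureModule (W : Scheme.{u}) :=
    (Scheme.Modules.restrictFunctorCongr (f := W.ι) (g := Y.homOfLE inf_le_left ≫ W₀.ι) (by simp)).app _ ≪≫
      (Scheme.Modules.restrictFunctorComp (Y.homOfLE inf_le_left) W₀.ι).app _ ≪≫
      (Scheme.Modules.restrictFunctor (Y.homOfLE inf_le_left)).mapIso e ≪≫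
      Scheme.Modules.restrictUnitIso (Y.homOfLE inf_le_left)
  obtain ⟨r₃⟩ := nonempty_ddual_congr
    ⟨r₂ ≪≫ (Scheme.Modules.pullback (p ∣_ W)).mapIso e' ≪≫ H25Theta.pO (p ∣_ W)⟩
  obtain ⟨r₄⟩ := nonempty_ddual_of_isInvertible
    (H11Ample.isInvertible_structureModule (X := ((p ⁻¹ᵁ W : Y'.Opens) : Scheme.{u})))
  exact ⟨E.symm ≪≫ r₁ ≪≫ r₃ ≪≫ r₄⟩

end Groth.Agent.H4Rel
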