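import Groth.Agent.H4Rel.EndCM
import Groth.Agent.H4Rel.Fibre
import Groth.Agent.H8Props.FibreDimSemicont
import Groth.Agent.H8Props.CMAt

/-!
# The relative dualizing complex over the Cohen–Macaulay locus
-/

set_option autoImplicit false
set_option linter.style.haveILetI false
set_option linter.unusedSectionVars false
set_option backward.isDefEq.respectTransparency false
set_option maxHeartbeats 2000000
set_option synthInstance.maxHeartbeats 400000

universe u

open CategoryTheory CategoryTheory.Limits AlgebraicGeometry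
open Groth.Agent.H16Derived
open Groth.Agent.H16Derived.KFlat.Stalk (rd)

attribute [local instance] HasDerivedCategory.standard

namespace Groth.Agent.H4Rel

/-- Cohen–Macaulayness is local on the source. -/
theorem isCMAt_openImmersion_comp {X Y S : Scheme.{u}} (j : X ⟶ Y) [IsOpenImmersion j] (g : Y ⟶ S) (x : X)
    (h : MoreMor.IsCMAt g (j x)) : MoreMor.IsCMAt (j ≫ g) x := by
  rw [H8Props.CMAt.isCMAt_iff] at h ⊢
  let σ : Y.presheaf.stalk (j x) ≃+* X.presheaf.stalk x :=
    RingEquiv.ofBijective (j.stalkMap x).hom (ConcreteCategory.bijective_of_isIso (j.stalkMap x))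
  have hc : ((j ≫ g).stalkMap x).hom = σ.toRingHom.comp (g.stalkMap (j x)).hom := by
    rw [Scheme.Hom.stalkMap_comp]; rfl
  refine ⟨?_, ?_⟩
  · rw [hc]
    exact RingHom.Flat.comp h.1 (RingHom.Flat.of_bijective σ.bijective)
  · exact @H8Props.CMAt.isCohenMacaulayLocalRing_of_ringEquiv _ _ _ _
      (Ideal.quotientEquiv _ _ σ (show (IsLocalRing.maximalIdeal (S.presheaf.stalk (g (j x)))).map ((j ≫ g).stalkMap x).hom =
        ((IsLocalRing.maximalIdeal (S.presheaf.stalk (g (j x)))).map (g.stalkMap (j x)).hom).map σ.toRingHom by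
          rw [Ideal.map_map, hc])) h.2

/-- The local dimension of the fibre is local on the source. -/
theorem localDim_openImmersion_comp {X Y S : Scheme.{u}} (j : X ⟶ Y) [IsOpenImmersion j] (g : Y ⟶ S)
    [LocallyOfFiniteType g] (d : ℕ) (hd : Cyc.HasRelDim g d) (x : X) :
    FlatMor.localDim ((j ≫ g).fiber ((j ≫ g) x)) ((j ≫ g).asFiber x) = (d : WithBot ℕ∞) := by
  haveI := H8Props.FieldDim.locallyOfFiniteType_fiberToSpec g (g (j x))
  exact (H8Props.FieldDim.fibreDimAt_openImmersion_comp j g x).trans (H8Props.FieldDim.localDim_eq_of_pure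
    (k := S.residueField (g (j x))) (g.fiberToSpecResidueField (g (j x))) _ _ (hd (g (j x))))

/-- Pure relative dimension under base change. -/
theorem hasRelDim_of_isPullback {X Y X' Y' : Scheme.{u}} {f : X ⟶ Y} {g : Y' ⟶ Y} {f' : X' ⟶ Y'} {g' : X' ⟶ X}
    [LocallyOfFiniteType f] (h : IsPullback g' f' f g) {d : ℕ} (hd : Cyc.HasRelDim f d) : Cyc.HasRelDim f' d :=
  fun y' T hT => H8Props.FieldDim.irreducibleComponents_dim_baseChange f h y' _ (hd (g y')) T hT

variable (A : Type u) [CommRing A] [IsNoetherianRing A] (Y : Scheme.{u}) [Y.Over (Spec (CommRingCat.of A))]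
  [IsProper (Y ↘ Spec (CommRingCat.of A))] (d : ℕ)
  (hflat : Flat (Y ↘ Spec (CommRingCat.of A)))
  (hd : Cyc.HasRelDim (Y ↘ Spec (CommRingCat.of A)) d) {ω : Y.Modules}
  (hω : RelCanon.IsDualizingSheaf A Y d ω)
  [DCoh.HasRpush (Y ↘ Spec (CommRingCat.of A))] {hf : DCoh.RpushPreservesQCoh (Y ↘ Spec (CommRingCat.of A))}
  {a : DCoh.DQCoh (Spec (CommRingCat.of A)) ⥤ DCoh.DQCoh Y}
  (adj : DCoh.RpushQ (Y ↘ Spec (CommRingCat.of A)) hf ⊣ a) (O : DCoh.DQCoh (Spec (CommRingCat.of A)))
  (hO : Nonempty (O.obj ≅ DCoh.inD (Spec (CommRingCat.of A)) (Coh.structureModule (Spec (CommRingCat.of A)))))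

include hflat hd hω adj hO in
/-- Over an open of Cohen–Macaulay points, `a(O)` is `ω` in degree `-d`, flat over the base. -/
theorem exists_single_on_open (U : Y.Opens) (hU : ∀ y ∈ U, MoreMor.IsCMAt (Y ↘ Spec (CommRingCat.of A)) y) :
    Nonempty ((rd U.ι).obj (a.obj O).obj ≅
        (DerivedCategory.singleFunctor (U : Scheme.{u}).Modules (-(d : ℤ))).obj (ω.restrict U.ι)) ∧
      FlatMod.IsFlatOver (U.ι ≫ (Y ↘ Spec (CommRingCat.of A))) (ω.restrict U.ι) := by
  let f := Y ↘ Spec (CommRingCat.of A)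
  haveI : Flat f := hflat
  haveI := isNoetherian_of_proper A Y
  haveI : LocallyOfFinitePresentation f := inferInstance
  haveI : ∀ (U V : Scheme.{u}) (j : U ⟶ V) [IsOpenImmersion j],
      PreservesFiniteLimits (Scheme.Modules.restrictFunctor j) := fun U V j _ => inferInstance
  haveI : QuasiSeparatedSpace Y := quasiSeparatedSpace_of_quasiSeparated f
  haveI : IsLocallyNoetherian (U : Scheme.{u}) := isLocallyNoetherian_of_isOpenImmersion U.ι
  haveI : CompactSpace (U : Scheme.{u}) := isCompact_iff_compactSpace.1 (TopologicalSpace.NoetherianSpace.isCompact (U : Set Y))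
  haveI : IsNoetherian (U : Scheme.{u}) := { }
  have h4 := isDualizingSheaf_rightAdjoint A Y adj O hO d
    fun t => H4RSH.ProperLocal.dim_le_of_components fun Z hZ => (hd t Z hZ).le
  obtain ⟨e0⟩ := nonempty_iso_of_isDualizingSheaf A Y h4 hω
  let c : DEt.Compactification (U.ι ≫ f) :=
    { Xbar := Y, j := U.ι, fbar := f, isOpenImmersion := inferInstance, isProper := inferInstance, fac := rfl }
  haveI : DCoh.HasRpush c.fbar := ‹DCoh.HasRpush (Y ↘ Spec (CommRingCat.of A))›
  obtain ⟨h1, h2, h3⟩ := LeadBrown.Rel.concentrated (f := U.ι ≫ f) c (hc := hf) (a := a) adj O hO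
    (fun x => isCMAt_openImmersion_comp U.ι f x (hU _ x.2)) d
    (fun x => localDim_openImmersion_comp U.ι f d hd x)
  obtain ⟨e1⟩ := nonempty_iso_single h1
  let e2 : DCoh.HD ((rd U.ι).obj (a.obj O).obj) (-(d : ℤ)) ≅ ω.restrict U.ι :=
    H4DualSch.hdRestrict U.ι _ _ ≪≫ (Scheme.Modules.restrictFunctor U.ι).mapIso e0
  exact ⟨⟨e1 ≪≫ (DerivedCategory.singleFunctor _ _).mapIso e2⟩, fun x => BaseChange.isFlatOverAt_of_iso e2 (h3 x)⟩

end Groth.Agent.H4Rel
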