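import Groth.Agent.H4Rel.RelS2BC
import Groth.Agent.H4Rel.Powers

/-!
# Base change of the reflexive powers of the relative dualizing sheaf
-/

set_option autoImplicit false
set_option linter.style.haveILetI false
set_option linter.unusedSectionVars false
set_option backward.isDefEq.respectTransparency false
set_option maxHeartbeats 1000000
set_option synthInstance.maxHeartbeats 400000

universe u

open CategoryTheory CategoryTheory.Limits AlgebraicGeometry
open Groth.Agent.H16Derived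

attribute [local instance] HasDerivedCategory.standard

namespace Groth.Agent.H4Rel

/-- Depth two of a reflexive hull, from the local ring. -/
theorem two_le_depth_ddual' {X : Scheme.{u}} [IsLocallyNoetherian X] (F : X.Modules) (hF : Coh.IsCoh F) (x : X)
    (h : (2 : ℕ∞) ≤ LocCoh.depth (X.presheaf.stalk x) (X.presheaf.stalk x)) :
    (2 : ℕ∞) ≤ LocCoh.depth (X.presheaf.stalk x) ((RefHull.ddual F).presheaf.stalk x) := by
  refine two_le_depth_homSh _ _ (H29Ref.isCoh_dual F hF) (H10Coh.isCoh_structureModule' X) x ?_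
  rw [← H4Depth.depth_congr (H29Ref.unitEquiv (X := X) x)]
  exact h

variable (A : Type u) [CommRing A] [IsNoetherianRing A] (Y : Scheme.{u}) [Y.Over (Spec (CommRingCat.of A))]
  [IsProper (Y ↘ Spec (CommRingCat.of A))] (d : ℕ)
  (hd : Cyc.HasRelDim (Y ↘ Spec (CommRingCat.of A)) d) {ω : Y.Modules}
  (hω : RelCanon.IsDualizingSheaf A Y d ω)
  (hS : RelCanon.IsSkMor (Y ↘ Spec (CommRingCat.of A)) 2)
  (hG : ∀ y : Y, y ∉ RelCanon.gorLocus (Y ↘ Spec (CommRingCat.of A)) → 2 ≤ fibDim A Y y)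
  {B : Type u} [CommRing B] [IsNoetherianRing B] {g : Spec (CommRingCat.of B) ⟶ Spec (CommRingCat.of A)}
  {Y' : Scheme.{u}} [Y'.Over (Spec (CommRingCat.of B))] {p : Y' ⟶ Y}
  (hp : IsPullback p (Y' ↘ Spec (CommRingCat.of B)) (Y ↘ Spec (CommRingCat.of A)) g)

include hd hS in
/-- Depth two on the fibres off an open containing the points of small fibre dimension. -/
theorem two_le_depth_fibre_of_relSk (U : Y.Opens) (hU : ∀ x : Y, x ∉ U → 2 ≤ fibDim A Y x) {R : Y.Modules}
    (hR : Coh.IsCoh R) (h2 : RelCanon.RelSk (Y ↘ Spec (CommRingCat.of A)) 2 R)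
    (hnt : ∀ x ∈ U, Nontrivial (R.presheaf.stalk x)) (t : Spec (CommRingCat.of A))
    (z : (Y ↘ Spec (CommRingCat.of A)).fiber t) (hz : ((Y ↘ Spec (CommRingCat.of A)).fiberι t) z ∉ U) :
    (2 : ℕ∞) ≤ LocCoh.depth (((Y ↘ Spec (CommRingCat.of A)).fiber t).presheaf.stalk z)
      (((Scheme.Modules.pullback ((Y ↘ Spec (CommRingCat.of A)).fiberι t)).obj R).presheaf.stalk z) := by
  let f := Y ↘ Spec (CommRingCat.of A)
  haveI := isNoetherian_of_proper A Y
  haveI := H8Props.FieldDim.locallyOfFiniteType_fiberToSpec f t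
  haveI : IsLocallyNoetherian (f.fiber t) := LocallyOfFiniteType.isLocallyNoetherian (f.fiberToSpecResidueField t)
  let M := (Scheme.Modules.pullback (f.fiberι t)).obj R
  have hM : Coh.IsCoh M := isCohPull _ hR
  have hfull : ∀ w : f.fiber t, Nontrivial (M.presheaf.stalk w) := by
    intro w
    obtain ⟨η, hη, hT⟩ := H8Props.FieldDim.exists_component_generization w
    have h0 : ringKrullDim ((f.fiber t).presheaf.stalk η) = 0 := by
      have h := H8Props.FieldDim.localDim_eq_stalk_add_cdim (k := (Spec (CommRingCat.of A)).residueField t)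
        (f.fiberToSpecResidueField t) η
      rw [H8Props.FieldDim.localDim_eq_of_pure (k := (Spec (CommRingCat.of A)).residueField t)
        (f.fiberToSpecResidueField t) η _ (hd t), show H8Props.FieldDim.cdim η = (d : WithBot ℕ∞) from hd t _ hT] at h
      revert h
      generalize ringKrullDim ((f.fiber t).presheaf.stalk η) = a
      intro h
      induction a using WithBot.recBotCoe with
      | bot => simp at h
      | coe a =>
        have h' : (d : ℕ∞) = a + d := by exact_mod_cast h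
        have h'' : a + (d : ℕ∞) = 0 + d := by rw [zero_add]; exact h'.symm
        exact_mod_cast WithTop.add_right_cancel (ENat.natCast_ne_top d) h''
    have hηU : f.fiberι t η ∈ U := by
      by_contra hc
      have := hU _ hc
      rw [← ringKrullDim_fiber_stalk A Y t η, h0] at this
      exact absurd this (by decide)
    have hηnt : Nontrivial (M.presheaf.stalk η) := by
      haveI := hnt _ hηU
      letI := ((f.fiberι t).stalkMap η).hom.toAlgebra
      haveI : Module.Finite (Y.presheaf.stalk (f.fiberι t η)) ((f.fiber t).presheaf.stalk η) :=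
        Module.Finite.of_surjective (Algebra.linearMap _ _) ((f.fiberι t).stalkMap_surjective η)
      haveI : Module.Finite (Y.presheaf.stalk (f.fiberι t η)) (R.presheaf.stalk (f.fiberι t η)) :=
        H06Mod.finite_stalk _ hR.2 _
      haveI := H17.SuppTensor.subsingleton_tensor_local (R := Y.presheaf.stalk (f.fiberι t η))
        (M := (f.fiber t).presheaf.stalk η) (N := R.presheaf.stalk (f.fiberι t η))
      exact (LinearEquiv.ofBijective _ (H06Mod.pullStalkLin_bijective (f.fiberι t) R η)).toEquiv.symm.nontrivial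
    have hcl := H10Coh.isClosed_support M hM.2
    exact not_subsingleton_iff_nontrivial.1
      (hη.mem_closed hcl (show η ∈ CohB1.support M from not_subsingleton_iff_nontrivial.2 hηnt))
  have hsk : RelCanon.SkAt 2 M z := LeadBrown.Rel.forall_fiber f
    (P := fun t z => RelCanon.SkAt 2 ((Scheme.Modules.pullback (f.fiberι t)).obj R) z) (fun y => (h2 y).2) t z
  have h := depth_at_closed_point' 2 _ hsk
  rw [H17.ZDepth.supportDim_stalk_eq _ hM.1 hfull z, ringKrullDim_fiber_stalk A Y t z,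
    min_eq_left (show ((2 : ℕ) : WithBot ℕ∞) ≤ _ from hU _ hz)] at h
  exact WithBot.coe_le_coe.1 h

include hS hp in
/-- Depth two of the local rings of a base change. -/
theorem two_le_depth_stalk_bc (y' : Y') (hy : 2 ≤ fibDim A Y (p y')) :
    (2 : ℕ∞) ≤ LocCoh.depth (Y'.presheaf.stalk y') (Y'.presheaf.stalk y') := by
  let f := Y ↘ Spec (CommRingCat.of A)
  haveI : Flat f := hS.1
  haveI := isNoetherian_of_proper A Y
  have h := le_depth_pullback_of_fibre A Y hp (Coh.structureModule Y) (H10Coh.isCoh_structureModule' Y) 2 y'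
    (by
      letI := (f.stalkMap (p y')).hom.toAlgebra
      letI := FlatMod.moduleStalkOver f (Coh.structureModule Y) (p y')
      haveI : IsScalarTower ((Spec (CommRingCat.of A)).presheaf.stalk (f (p y'))) (Y.presheaf.stalk (p y'))
          ((Coh.structureModule Y).presheaf.stalk (p y')) := .of_algebraMap_smul fun _ _ => rfl
      haveI : Module.Flat ((Spec (CommRingCat.of A)).presheaf.stalk (f (p y'))) (Y.presheaf.stalk (p y')) :=
        Flat.stalkMap f (p y')
      exact Module.Flat.of_linearEquiv ((H29Ref.unitEquiv (X := Y) (p y')).symm.restrictScalars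
        ((Spec (CommRingCat.of A)).presheaf.stalk (f (p y')))))
    fun z hz => (two_le_depth_fiber_stalk A Y hS _ z (by rw [hz]; exact hy)).trans_eq
      ((H4Depth.depth_congr (H29Ref.unitEquiv (X := f.fiber _) z)).trans
        (H4Depth.depth_congr (H06EGA9.stalkIso (H25Theta.pO (f.fiberι _)).symm z)))
  rwa [H4Depth.depth_congr (H06EGA9.stalkIso (H25Theta.pO p) y'),
    ← H4Depth.depth_congr (H29Ref.unitEquiv (X := Y') y')] at h

include hd hω in
/-- `ω` is invertible on the Gorenstein locus. -/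
theorem isInvertible_restrict_gor [LocallyOfFinitePresentation (Y ↘ Spec (CommRingCat.of A))]
    (hflat : Flat (Y ↘ Spec (CommRingCat.of A))) :
    PicF.IsInvertible (ω.restrict
      (Scheme.Opens.ι ⟨_, S3617.result Y _ (Y ↘ Spec (CommRingCat.of A))⟩)) := by
  haveI := hflat
  let U : Y.Opens := ⟨_, S3617.result Y _ (Y ↘ Spec (CommRingCat.of A))⟩
  intro w
  obtain ⟨V, hV, ⟨e⟩⟩ := invertibleAt_of_gorenstein A Y d hflat hd hω w.1 w.2
  let W : (U : Scheme.{u}).Opens := U.ι ⁻¹ᵁ V
  refine ⟨W, hV, ⟨?_⟩⟩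
  exact ((Scheme.Modules.restrictFunctorComp W.ι U.ι).app ω).symm ≪≫
    (Scheme.Modules.restrictFunctorCongr (f := W.ι ≫ U.ι) (g := (U.ι ∣_ V) ≫ V.ι) (morphismRestrict_ι U.ι V).symm).app ω ≪≫
    (Scheme.Modules.restrictFunctorComp (U.ι ∣_ V) V.ι).app ω ≪≫
    (Scheme.Modules.restrictFunctor (U.ι ∣_ V)).mapIso e ≪≫ Scheme.Modules.restrictUnitIso (U.ι ∣_ V)

include hd hω hS hG hp in
/-- Reflexive powers and base change, under a depth condition. -/
theorem nonempty_refPowZ_bc_of_depth {ω' : Y'.Modules} (hω' : RelCanon.IsDualizingSheaf B Y' d ω') (m : ℤ) :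
    Nonempty (RefHull.ddual ((Scheme.Modules.pullback p).obj (RelCanon.refPowZ ω m)) ≅ RelCanon.refPowZ ω' m) ∧
    ((∀ y' : Y', p y' ∉ RelCanon.gorLocus (Y ↘ Spec (CommRingCat.of A)) → (2 : ℕ∞) ≤
        LocCoh.depth (Y'.presheaf.stalk y')
          (((Scheme.Modules.pullback p).obj (RelCanon.refPowZ ω m)).presheaf.stalk y')) →
      Nonempty ((Scheme.Modules.pullback p).obj (RelCanon.refPowZ ω m) ≅ RelCanon.refPowZ ω' m)) := by
  let f := Y ↘ Spec (CommRingCat.of A)
  let f' := Y' ↘ Spec (CommRingCat.of B)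
  haveI : Flat f := hS.1
  haveI : IsProper f' := MorphismProperty.of_isPullback (P := @IsProper) hp inferInstance
  haveI := isNoetherian_of_proper A Y
  haveI := isNoetherian_of_proper B Y'
  haveI : LocallyOfFinitePresentation f := inferInstance
  obtain ⟨hcoh, -⟩ := isCoh_and_two_le_depth A Y d hd hω
  obtain ⟨hcoh', -⟩ := isCoh_and_two_le_depth B Y' d (hasRelDim_of_isPullback hp hd) hω'
  obtain ⟨G, hG', eG⟩ := exists_refPowZ_eq hcoh' m
  obtain ⟨G₀, hG₀, eG₀⟩ := exists_refPowZ_eq hcoh m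
  have hR : Coh.IsCoh (RelCanon.refPowZ ω m) := eG₀.symm ▸ H29Ref.isCoh_ddual G₀ hG₀
  have hR' : Coh.IsCoh (RelCanon.refPowZ ω' m) := eG.symm ▸ H29Ref.isCoh_ddual G hG'
  have hP : Coh.IsCoh ((Scheme.Modules.pullback p).obj (RelCanon.refPowZ ω m)) := isCohPull p hR
  let U : Y.Opens := ⟨_, S3617.result Y _ f⟩
  let U' := p ⁻¹ᵁ U
  have hdO : ∀ y', y' ∉ U' → (2 : ℕ∞) ≤ LocCoh.depth (Y'.presheaf.stalk y') (Y'.presheaf.stalk y') := fun y' hy' =>
    two_le_depth_stalk_bc A Y hS hp y' (hG _ hy')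
  have hd' : ∀ y', y' ∉ U' → (2 : ℕ∞) ≤ LocCoh.depth (Y'.presheaf.stalk y') ((RelCanon.refPowZ ω' m).presheaf.stalk y') :=
    fun y' hy' => by rw [eG]; exact two_le_depth_ddual' G hG' y' (hdO y' hy')
  -- over the Gorenstein locus everything is invertible
  have hCMU : ∀ y ∈ U, MoreMor.IsCMAt f y := fun y hy => by
    haveI := (show Dual3.IsGorensteinAt f y from hy).2
    exact ⟨(show Dual3.IsGorensteinAt f y from hy).1, H4Goren.isCohenMacaulayLocalRing _⟩
  let L := ω.restrict U.ι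
  have hL : PicF.IsInvertible L := isInvertible_restrict_gor A Y d hd hω hS.1
  obtain ⟨e₁⟩ := nonempty_restrict_bc A Y d hS.1 hd hω hp U hCMU hω'
  obtain ⟨e₂⟩ := nonempty_restrict_pullback p U ω
  obtain ⟨e₃⟩ := nonempty_pullback_refPowZ (p ∣_ U) hL m
  obtain ⟨e₄⟩ := nonempty_refPowZ_congr (e₂.symm ≪≫ e₁) m
  obtain ⟨e₅⟩ := nonempty_restrict_refPowZ U' ω' m
  obtain ⟨e₆⟩ := nonempty_restrict_refPowZ U ω m
  obtain ⟨e₇⟩ := nonempty_restrict_pullback p U (RelCanon.refPowZ ω m)
  let E : ((Scheme.Modules.pullback p).obj (RelCanon.refPowZ ω m)).restrict U'.ι ≅ (RelCanon.refPowZ ω' m).restrict U'.ι :=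
    e₇ ≪≫ (Scheme.Modules.pullback (p ∣_ U)).mapIso e₆ ≪≫ e₃ ≪≫ e₄ ≪≫ e₅.symm
  refine ⟨?_, fun h2 => ?_⟩
  · refine nonempty_iso_of_restrict U' (H29Ref.isCoh_ddual _ hP) hR'
      (fun y' hy' => two_le_depth_ddual' _ hP y' (hdO y' hy')) hd' ?_
    obtain ⟨r₁⟩ := nonempty_restrict_ddual U' ((Scheme.Modules.pullback p).obj (RelCanon.refPowZ ω m))
    obtain ⟨r₂⟩ := nonempty_ddual_congr ⟨e₇ ≪≫ (Scheme.Modules.pullback (p ∣_ U)).mapIso e₆⟩
    have hinv : PicF.IsInvertible ((Scheme.Modules.pullback (p ∣_ U)).obj (RelCanon.refPowZ L m)) :=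
      H11Ample.isInvertible_pullback _ (isInvertible_refPowZ hL m)
    obtain ⟨r₃⟩ := nonempty_ddual_of_isInvertible hinv
    exact ⟨r₁ ≪≫ r₂ ≪≫ r₃ ≪≫ e₃ ≪≫ e₄ ≪≫ e₅.symm⟩
  · exact nonempty_iso_of_restrict U' hP hR' h2 hd' ⟨E⟩

include hd hω hS hG hp in
/-- Reflexive powers and base change. -/
theorem nonempty_refPowZ_bc {ω' : Y'.Modules} (hω' : RelCanon.IsDualizingSheaf B Y' d ω') (m : ℤ) :
    Nonempty (RefHull.ddual ((Scheme.Modules.pullback p).obj (RelCanon.refPowZ ω m)) ≅ RelCanon.refPowZ ω' m) ∧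
    (RelCanon.RelSk (Y ↘ Spec (CommRingCat.of A)) 2 (RelCanon.refPowZ ω m) →
      Nonempty ((Scheme.Modules.pullback p).obj (RelCanon.refPowZ ω m) ≅ RelCanon.refPowZ ω' m)) := by
  let f := Y ↘ Spec (CommRingCat.of A)
  haveI : Flat f := hS.1
  haveI := isNoetherian_of_proper A Y
  haveI : LocallyOfFinitePresentation f := inferInstance
  obtain ⟨hcoh, -⟩ := isCoh_and_two_le_depth A Y d hd hω
  obtain ⟨G₀, hG₀, eG₀⟩ := exists_refPowZ_eq hcoh m
  have hR : Coh.IsCoh (RelCanon.refPowZ ω m) := eG₀.symm ▸ H29Ref.isCoh_ddual G₀ hG₀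
  let U : Y.Opens := ⟨_, S3617.result Y _ f⟩
  obtain ⟨h1, hiso⟩ := nonempty_refPowZ_bc_of_depth A Y d hd hω hS hG hp hω' m
  refine ⟨h1, fun h2 => hiso fun y' hy' => ?_⟩
  refine le_depth_pullback_of_fibre A Y hp _ hR 2 y' (h2 _).1 fun z hz => ?_
  refine two_le_depth_fibre_of_relSk A Y d hd hS U (fun x hx => hG x hx) hR h2 (fun x hx => ?_) _ z
    (by rw [hz]; exact hy')
  obtain ⟨L, hL, e₆⟩ : ∃ L : (U : Scheme.{u}).Modules, PicF.IsInvertible L ∧
      Nonempty ((RelCanon.refPowZ ω m).restrict U.ι ≅ L) :=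
    ⟨_, isInvertible_refPowZ (isInvertible_restrict_gor A Y d hd hω hS.1) m, nonempty_restrict_refPowZ U ω m⟩
  obtain ⟨e₆⟩ := e₆
  obtain ⟨b⟩ := H8Props.FunDescent.stalkFree_of_isFreeOfRankNear _ hR.1
    (H29Ref.isFreeOfRankNear_of_restrict (RelCanon.refPowZ ω m) U hL e₆ x hx)
  exact b.equivFun.toEquiv.nontrivial

end Groth.Agent.H4Rel
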