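import Groth.Agent.H4Rel.FibreCase
import Groth.Agent.H17.ZDepth.Loci
import Groth.Agent.H17.SuppTensor
import Groth.Agent.H3CAlg.ChiPull

/-!
# Base change of a relatively `(S₂)` dualizing sheaf
-/

set_option autoImplicit false
set_option linter.style.haveILetI false
set_option linter.unusedSectionVars false
set_option backward.isDefEq.respectTransparency false
set_option maxHeartbeats 1000000
set_option synthInstance.maxHeartbeats 400000

universe u

open CategoryTheory CategoryTheory.Limits AlgebraicGeometry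
open Groth.Agent.H16Derived

attribute [local instance] HasDerivedCategory.standard

namespace Groth.Agent.H4Rel

attribute [local instance] H06Mod.stalkAlgebra

/-- Inverse images of coherent modules. -/
theorem isCohPull {X Z : Scheme.{u}} (f : X ⟶ Z) {F : Z.Modules} (hF : Coh.IsCoh F) :
    Coh.IsCoh ((Scheme.Modules.pullback f).obj F) :=
  ⟨H29Fitt.isQCoh_pullback _ F hF.1, H29Fitt.isFT_pullback _ F hF.1 hF.2⟩

variable (A : Type u) [CommRing A] [IsNoetherianRing A] (Y : Scheme.{u}) [Y.Over (Spec (CommRingCat.of A))]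
  [IsProper (Y ↘ Spec (CommRingCat.of A))] (d : ℕ)
  (hd : Cyc.HasRelDim (Y ↘ Spec (CommRingCat.of A)) d) {ω : Y.Modules}
  (hω : RelCanon.IsDualizingSheaf A Y d ω)
  (hS : RelCanon.IsSkMor (Y ↘ Spec (CommRingCat.of A)) 2)

include hd hω hS in
/-- The restriction of `ω` to a fibre has full support. -/
theorem nontrivial_fibre_stalk (t : Spec (CommRingCat.of A)) (z : (Y ↘ Spec (CommRingCat.of A)).fiber t) :
    Nontrivial (((Scheme.Modules.pullback ((Y ↘ Spec (CommRingCat.of A)).fiberι t)).obj ω).presheaf.stalk z) := by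
  let f := Y ↘ Spec (CommRingCat.of A)
  haveI : Flat f := hS.1
  haveI := isNoetherian_of_proper A Y
  haveI : LocallyOfFinitePresentation f := inferInstance
  obtain ⟨hcoh, -⟩ := isCoh_and_two_le_depth A Y d hd hω
  haveI : IsLocallyNoetherian (f.fiber t) :=
    haveI := H8Props.FieldDim.locallyOfFiniteType_fiberToSpec f t
    LocallyOfFiniteType.isLocallyNoetherian (f.fiberToSpecResidueField t)
  let M := (Scheme.Modules.pullback (f.fiberι t)).obj ω
  have hM : Coh.IsCoh M := isCohPull (f.fiberι t) hcoh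
  have hD : ∀ w : f.fiber t, MoreMor.IsCMAt f (f.fiberι t w) → Nontrivial (M.presheaf.stalk w) := fun w hw => by
    haveI : Module.Finite (Y.presheaf.stalk (f.fiberι t w)) ((f.fiber t).presheaf.stalk w) :=
      Module.Finite.of_surjective (Algebra.linearMap _ _) ((f.fiberι t).stalkMap_surjective w)
    haveI : Module.Finite (Y.presheaf.stalk (f.fiberι t w)) (ω.presheaf.stalk (f.fiberι t w)) :=
      H06Mod.finite_stalk _ hcoh.2 _
    haveI : Nontrivial (ω.presheaf.stalk (f.fiberι t w)) := not_subsingleton_iff_nontrivial.1 fun hs =>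
      one_ne_zero ((bijective_smul_stalk A Y d hS.1 hd hω _ hw).1
        (LinearMap.ext fun v => @Subsingleton.elim _ hs _ _) : (1 : Y.presheaf.stalk (f.fiberι t w)) = 0)
    haveI := H17.SuppTensor.subsingleton_tensor_local (R := Y.presheaf.stalk (f.fiberι t w))
      (M := (f.fiber t).presheaf.stalk w) (N := ω.presheaf.stalk (f.fiberι t w))
    exact (LinearEquiv.ofBijective _ (H06Mod.pullStalkLin_bijective (f.fiberι t) ω w)).toEquiv.symm.nontrivial
  have hcl := H10Coh.isClosed_support M hM.2
  have hsub : (f.fiberι t) ⁻¹' {x | MoreMor.IsCMAt f x} ⊆ CohB1.support M := fun w hw =>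
    not_subsingleton_iff_nontrivial.2 (hD w hw)
  exact not_subsingleton_iff_nontrivial.1 ((hcl.closure_subset_iff.2 hsub) ((S1341.result f).2 t z))

include hd hω hS in
/-- Depth two on the fibres when `ω` is relatively `(S₂)`. -/
theorem two_le_depth_fibre_omega (h2 : RelCanon.RelSk (Y ↘ Spec (CommRingCat.of A)) 2 ω) (t : Spec (CommRingCat.of A))
    (z : (Y ↘ Spec (CommRingCat.of A)).fiber t)
    (hz : 2 ≤ fibDim A Y (((Y ↘ Spec (CommRingCat.of A)).fiberι t) z)) :
    (2 : ℕ∞) ≤ LocCoh.depth (((Y ↘ Spec (CommRingCat.of A)).fiber t).presheaf.stalk z)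
      (((Scheme.Modules.pullback ((Y ↘ Spec (CommRingCat.of A)).fiberι t)).obj ω).presheaf.stalk z) := by
  let f := Y ↘ Spec (CommRingCat.of A)
  haveI := isNoetherian_of_proper A Y
  haveI : IsLocallyNoetherian (f.fiber t) :=
    haveI := H8Props.FieldDim.locallyOfFiniteType_fiberToSpec f t
    LocallyOfFiniteType.isLocallyNoetherian (f.fiberToSpecResidueField t)
  obtain ⟨hcoh, -⟩ := isCoh_and_two_le_depth A Y d hd hω
  have hM : Coh.IsCoh ((Scheme.Modules.pullback (f.fiberι t)).obj ω) := isCohPull (f.fiberι t) hcoh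
  have hsk : RelCanon.SkAt 2 ((Scheme.Modules.pullback (f.fiberι t)).obj ω) z :=
    LeadBrown.Rel.forall_fiber f
      (P := fun t z => RelCanon.SkAt 2 ((Scheme.Modules.pullback (f.fiberι t)).obj ω) z) (fun y => (h2 y).2) t z
  have h := depth_at_closed_point' 2 _ hsk
  rw [H17.ZDepth.supportDim_stalk_eq _ hM.1 (nontrivial_fibre_stalk A Y d hd hω hS t) z,
    ringKrullDim_fiber_stalk A Y t z, min_eq_left (show ((2 : ℕ) : WithBot ℕ∞) ≤ _ from hz)] at h
  exact WithBot.coe_le_coe.1 h

variable {B : Type u} [CommRing B] [IsNoetherianRing B] {g : Spec (CommRingCat.of B) ⟶ Spec (CommRingCat.of A)}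
  {Y' : Scheme.{u}} [Y'.Over (Spec (CommRingCat.of B))] {p : Y' ⟶ Y}
  (hp : IsPullback p (Y' ↘ Spec (CommRingCat.of B)) (Y ↘ Spec (CommRingCat.of A)) g)

include hp in
/-- Depth bounds on the fibres pass to the total space of a base change. -/
theorem le_depth_pullback_of_fibre (F : Y.Modules) (hF : Coh.IsCoh F) (c : ℕ∞) (y' : Y')
    (hflat : FlatMod.IsFlatOverAt (Y ↘ Spec (CommRingCat.of A)) F (p y'))
    (h : ∀ z : (Y ↘ Spec (CommRingCat.of A)).fiber (g ((Y' ↘ Spec (CommRingCat.of B)) y')),
      ((Y ↘ Spec (CommRingCat.of A)).fiberι _) z = p y' →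
      c ≤ LocCoh.depth (((Y ↘ Spec (CommRingCat.of A)).fiber _).presheaf.stalk z)
        (((Scheme.Modules.pullback ((Y ↘ Spec (CommRingCat.of A)).fiberι _)).obj F).presheaf.stalk z)) :
    c ≤ LocCoh.depth (Y'.presheaf.stalk y') (((Scheme.Modules.pullback p).obj F).presheaf.stalk y') := by
  let f := Y ↘ Spec (CommRingCat.of A)
  let f' := Y' ↘ Spec (CommRingCat.of B)
  haveI : IsProper f' := MorphismProperty.of_isPullback (P := @IsProper) hp inferInstance
  haveI := isNoetherian_of_proper A Y
  haveI := isNoetherian_of_proper B Y'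
  let t' := f' y'
  haveI : IsLocallyNoetherian (f.fiber (g t')) :=
    haveI := H8Props.FieldDim.locallyOfFiniteType_fiberToSpec f (g t')
    LocallyOfFiniteType.isLocallyNoetherian (f.fiberToSpecResidueField (g t'))
  haveI : IsLocallyNoetherian (f'.fiber t') :=
    haveI := H8Props.FieldDim.locallyOfFiniteType_fiberToSpec f' t'
    LocallyOfFiniteType.isLocallyNoetherian (f'.fiberToSpecResidueField t')
  have hsq := isPullback_fiberToSpecResidueField_of_isPullback hp t'
  let q : f'.fiber t' ⟶ f.fiber (g t') := pullback.map _ _ _ _ p (Spec.map (g.residueFieldMap t')) g hp.w.symm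
    (Scheme.Hom.SpecMap_residueFieldMap_fromSpecResidueField g t').symm
  haveI : Flat (Spec.map (g.residueFieldMap t')) := (HasRingHomProperty.Spec_iff (P := @Flat)).mpr (by
    letI := (g.residueFieldMap t').hom.toAlgebra
    show Module.Flat ((Spec (CommRingCat.of A)).residueField (g t')) ((Spec (CommRingCat.of B)).residueField t')
    infer_instance)
  haveI : Flat q := MorphismProperty.of_isPullback (P := @Flat) hsq.flip ‹_›
  have hq : q ≫ f.fiberι (g t') = f'.fiberι t' ≫ p := pullback.lift_fst _ _ _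
  let z' := f'.asFiber y'
  have hz' : f'.fiberι t' z' = y' := f'.fiberι_asFiber y'
  have hqz : f.fiberι (g t') (q z') = p y' := by
    rw [← Scheme.Hom.comp_apply, hq, Scheme.Hom.comp_apply, hz']
  have hflat' : FlatMod.IsFlatOverAt f' ((Scheme.Modules.pullback p).obj F) (f'.fiberι t' z') :=
    H06EGA9.isFlatOverAt_of_isPullback hp F _ (by rw [hz']; exact hflat)
  have hM : Coh.IsCoh ((Scheme.Modules.pullback (f.fiberι (g t'))).obj F) := isCohPull _ hF
  have h1 : c ≤ LocCoh.depth ((f'.fiber t').presheaf.stalk z')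
      (((Scheme.Modules.pullback q).obj ((Scheme.Modules.pullback (f.fiberι (g t'))).obj F)).presheaf.stalk z') :=
    (h (q z') hqz).trans (depth_le_pullback q _ hM z')
  have h2 := h1.trans_eq (H4Depth.depth_congr (H06EGA9.stalkIso
    ((Scheme.Modules.pullbackComp q (f.fiberι (g t'))).app F ≪≫ (Scheme.Modules.pullbackCongr hq).app F ≪≫
      ((Scheme.Modules.pullbackComp (f'.fiberι t') p).app F).symm) z'))
  have h3 := h2.trans (depth_fibre_le f' _ (isCohPull p hF) t' z' hflat')
  rwa [hz'] at h3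

include hd hω hS in
/-- A relatively `(S₂)` dualizing sheaf commutes with base change. -/
theorem commutesWithBaseChange_of_relSk (h2 : RelCanon.RelSk (Y ↘ Spec (CommRingCat.of A)) 2 ω) :
    RelCanon.CommutesWithBaseChangeNoeth A Y d ω := by
  intro B _ _ φ Y' _ p hp
  let f := Y ↘ Spec (CommRingCat.of A)
  let f' := Y' ↘ Spec (CommRingCat.of B)
  haveI : Flat f := hS.1
  haveI : IsProper f' := MorphismProperty.of_isPullback (P := @IsProper) hp inferInstance
  haveI := isNoetherian_of_proper A Y
  haveI := isNoetherian_of_proper B Y'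
  haveI : LocallyOfFinitePresentation f := inferInstance
  haveI := QCohD.hasRpush f'
  haveI : CompactSpace Y' := QuasiCompact.compactSpace_of_compactSpace f'
  haveI : QuasiSeparatedSpace Y' := quasiSeparatedSpace_of_quasiSeparated f'
  obtain ⟨hf', a', ⟨adj'⟩⟩ := exists_rightAdjoint f'
  obtain ⟨O', hO'⟩ := exists_unit_obj B
  have hω' := isDualizingSheaf_rightAdjoint B Y' adj' O' hO' d fun y' => by
    rw [H8Props.FieldDim.dim_fiber_baseChange f hp y']
    exact H4RSH.ProperLocal.dim_le_of_components fun Z hZ => (hd _ Z hZ).le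
  obtain ⟨hcoh, -⟩ := isCoh_and_two_le_depth A Y d hd hω
  obtain ⟨hcoh', hdep'⟩ := isCoh_and_two_le_depth B Y' d (hasRelDim_of_isPullback hp hd) hω'
  let U : Y.Opens := ⟨_, (S1341.result f).1⟩
  obtain ⟨e⟩ := nonempty_iso_of_restrict (p ⁻¹ᵁ U) (isCohPull p hcoh) hcoh'
    (fun y' hy' => le_depth_pullback_of_fibre A Y hp ω hcoh 2 y' (h2 _).1 fun z hz =>
      two_le_depth_fibre_omega A Y d hd hω hS h2 _ z (by rw [hz]; exact two_le_fibDim_of_not_cm A Y hS _ hy'))
    (fun y' hy' => hdep' y' ((two_le_fibDim_of_not_cm A Y hS _ hy').trans (fibDim_le A Y d hd hp y')))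
    (nonempty_restrict_bc A Y d hS.1 hd hω hp U (fun y hy => hy) hω')
  exact isDualizingSheaf_of_iso e.symm hω'

end Groth.Agent.H4Rel
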