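import Groth.Agent.H4Rel.CanonTwist
import Groth.Agent.H4Rel.LocalBC
import Groth.Agent.H4Rel.FibreFree

/-!
# Reflexive powers of the dualizing sheaf from those of a flat module with canonical fibre
-/

set_option autoImplicit false
set_option linter.style.haveILetI false
set_option linter.unusedSectionVars false
set_option backward.isDefEq.respectTransparency false
set_option maxHeartbeats 1000000
set_option synthInstance.maxHeartbeats 400000

universe u

open CategoryTheory CategoryTheory.Limits AlgebraicGeometry IsLocalRing TensorProduct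
open Groth.Agent.H16Derived
open Groth.Agent.H25Theta (tI)

attribute [local instance] HasDerivedCategory.standard

namespace Groth.Agent.H4Rel

attribute [local instance] H06Mod.stalkAlgebra

variable (A : Type u) [CommRing A] [IsNoetherianRing A] (Y : Scheme.{u}) [Y.Over (Spec (CommRingCat.of A))]
  [IsProper (Y ↘ Spec (CommRingCat.of A))] (d : ℕ)

/-- Relative Serre conditions only depend on a neighbourhood. -/
theorem relSkAt_of_restrict_iso (k : ℕ) {R R' : Y.Modules} (hR : Coh.IsCoh R) (hR' : Coh.IsCoh R') {W : Y.Opens}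
    (e : R.restrict W.ι ≅ R'.restrict W.ι) {y : Y} (hy : y ∈ W)
    (h : RelCanon.RelSkAt (Y ↘ Spec (CommRingCat.of A)) k R y) :
    RelCanon.RelSkAt (Y ↘ Spec (CommRingCat.of A)) k R' y := by
  let f := Y ↘ Spec (CommRingCat.of A)
  haveI := isNoetherian_of_proper A Y
  refine ⟨?_, ?_⟩
  · obtain ⟨e₀⟩ := nonempty_stalk_equiv_of_restrict hR hR' e hy
    let A₀ := (Spec (CommRingCat.of A)).presheaf.stalk (f y)
    letI := (f.stalkMap y).hom.toAlgebra
    letI : Module A₀ (R.presheaf.stalk y) := FlatMod.moduleStalkOver f R y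
    letI : Module A₀ (R'.presheaf.stalk y) := FlatMod.moduleStalkOver f R' y
    haveI : IsScalarTower A₀ (Y.presheaf.stalk y) (R.presheaf.stalk y) := .of_algebraMap_smul fun _ _ => rfl
    haveI : IsScalarTower A₀ (Y.presheaf.stalk y) (R'.presheaf.stalk y) := .of_algebraMap_smul fun _ _ => rfl
    haveI : Module.Flat A₀ (R.presheaf.stalk y) := h.1
    exact Module.Flat.of_linearEquiv (e₀.restrictScalars A₀).symm
  · let w := f.asFiber y
    obtain ⟨e₁⟩ := nonempty_stalk_equiv_of_restrict hR hR' e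
      (show f.fiberι (f y) w ∈ W by rw [f.fiberι_asFiber y]; exact hy)
    let l := (LinearEquiv.ofBijective _ (H06Mod.pullStalkLin_bijective (f.fiberι (f y)) R w)).symm.trans
      ((TensorProduct.AlgebraTensorModule.congr (LinearEquiv.refl ((f.fiber (f y)).presheaf.stalk w)
        ((f.fiber (f y)).presheaf.stalk w)) e₁).trans
        (LinearEquiv.ofBijective _ (H06Mod.pullStalkLin_bijective (f.fiberι (f y)) R' w)))
    exact (H06EGA12.hasSk_iff_of_semilinear (RingHom.id _) Function.surjective_id l.toAddEquiv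
      (fun r v => map_smul l r v) k).2 h.2

variable (hd : Cyc.HasRelDim (Y ↘ Spec (CommRingCat.of A)) d) {ω : Y.Modules}
  (hω : RelCanon.IsDualizingSheaf A Y d ω)
  (hS : RelCanon.IsSkMor (Y ↘ Spec (CommRingCat.of A)) 2)

include hd in
/-- Depth two on a fibre from `(S₂)` and generic nonvanishing. -/
theorem two_le_depth_fibre_of_skAt (t : Spec (CommRingCat.of A)) {M : ((Y ↘ Spec (CommRingCat.of A)).fiber t).Modules}
    (hM : Coh.IsCoh M) (z : (Y ↘ Spec (CommRingCat.of A)).fiber t) (hsk : RelCanon.SkAt 2 M z)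
    (hz : 2 ≤ fibDim A Y (((Y ↘ Spec (CommRingCat.of A)).fiberι t) z))
    (hgen : ∀ η, fibDim A Y (((Y ↘ Spec (CommRingCat.of A)).fiberι t) η) = 0 → Nontrivial (M.presheaf.stalk η)) :
    (2 : ℕ∞) ≤ LocCoh.depth (((Y ↘ Spec (CommRingCat.of A)).fiber t).presheaf.stalk z) (M.presheaf.stalk z) := by
  let f := Y ↘ Spec (CommRingCat.of A)
  haveI := isNoetherian_of_proper A Y
  haveI := H8Props.FieldDim.locallyOfFiniteType_fiberToSpec f t
  haveI : IsLocallyNoetherian (f.fiber t) := LocallyOfFiniteType.isLocallyNoetherian (f.fiberToSpecResidueField t)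
  have hfull : ∀ w : f.fiber t, w ⤳ z → Nontrivial (M.presheaf.stalk w) := by
    intro w _
    obtain ⟨η, hη, hT⟩ := H8Props.FieldDim.exists_component_generization w
    have h0 : fibDim A Y (f.fiberι t η) = 0 := by
      have h := fibDim_add_cdim A Y d hd t η
      rw [show H8Props.FieldDim.cdim η = (d : WithBot ℕ∞) from hd t _ hT] at h
      revert h
      generalize fibDim A Y (f.fiberι t η) = a
      intro h
      induction a using WithBot.recBotCoe with
      | bot => simp at h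
      | coe a =>
        have h' : a + (d : ℕ∞) = 0 + d := by rw [zero_add]; exact_mod_cast h
        exact_mod_cast WithTop.add_right_cancel (ENat.natCast_ne_top d) h'
    exact not_subsingleton_iff_nontrivial.1 (hη.mem_closed (H10Coh.isClosed_support M hM.2)
      (show η ∈ CohB1.support M from not_subsingleton_iff_nontrivial.2 (hgen η h0)))
  have h := depth_at_closed_point' 2 _ hsk
  rw [supportDim_stalk_eq_of_generization _ hM.1 z hfull, ringKrullDim_fiber_stalk A Y t z,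
    min_eq_left (show ((2 : ℕ) : WithBot ℕ∞) ≤ _ from hz)] at h
  exact WithBot.coe_le_coe.1 h

include hd hω hS in
/-- The powers of a flat module with canonical fibre are invertible along the fibre where those of `ω` are. -/
theorem invertibleAt_refPowZ_of_omega
    (hG : ∀ y : Y, y ∉ RelCanon.gorLocus (Y ↘ Spec (CommRingCat.of A)) → 2 ≤ fibDim A Y y)
    {L : Y.Modules} (hL : Coh.IsCoh L) (hLf : FlatMod.IsFlatOver (Y ↘ Spec (CommRingCat.of A)) L)
    (t : Spec (CommRingCat.of A)) (hLt : RelCanon.IsDualizingSheafFib (Y ↘ Spec (CommRingCat.of A)) d L t)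
    (m : ℤ) (h2 : ∀ z : (Y ↘ Spec (CommRingCat.of A)).fiber t,
      RelCanon.RelSkAt (Y ↘ Spec (CommRingCat.of A)) 2 (RelCanon.refPowZ L m) (((Y ↘ Spec (CommRingCat.of A)).fiberι t) z))
    (z : (Y ↘ Spec (CommRingCat.of A)).fiber t)
    (hω' : RelCanon.InvertibleAt (RelCanon.refPowZ ω m) (((Y ↘ Spec (CommRingCat.of A)).fiberι t) z)) :
    RelCanon.InvertibleAt (RelCanon.refPowZ L m) (((Y ↘ Spec (CommRingCat.of A)).fiberι t) z) := by
  let f := Y ↘ Spec (CommRingCat.of A)
  haveI : Flat f := hS.1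
  haveI := isNoetherian_of_proper A Y
  haveI : LocallyOfFinitePresentation f := inferInstance
  let K := (Spec (CommRingCat.of A)).residueField t
  letI : (f.fiber t).Over (Spec (CommRingCat.of K)) := ⟨f.fiberToSpecResidueField t⟩
  haveI : IsProper (f.fiber t ↘ Spec (CommRingCat.of K)) :=
    MorphismProperty.pullback_snd (P := @IsProper) _ _ inferInstance
  haveI := isNoetherian_of_proper K (f.fiber t)
  have hsq : IsPullback (f.fiberι t) (f.fiber t ↘ Spec (CommRingCat.of K)) f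
      ((Spec (CommRingCat.of A)).fromSpecResidueField t) := IsPullback.of_hasPullback _ _
  have hLt' : RelCanon.IsDualizingSheaf K (f.fiber t) d ((Scheme.Modules.pullback (f.fiberι t)).obj L) := hLt
  let Lt := (Scheme.Modules.pullback (f.fiberι t)).obj L
  have hinvt : RelCanon.InvertibleAt (RelCanon.refPowZ Lt m) z :=
    invertibleAt_bc_local A Y d hd hS ⊤ (fun x _ hx => hG x hx) hω hsq hLt' m z trivial hω'
  let R := RelCanon.refPowZ L m
  obtain ⟨G, hG', eG⟩ := exists_refPowZ_eq hL m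
  have hR : Coh.IsCoh R := by show Coh.IsCoh (RelCanon.refPowZ L m); rw [eG]; exact H29Ref.isCoh_ddual G hG'
  obtain ⟨Gt, hGt, eGt⟩ := exists_refPowZ_eq (isCohPull (f.fiberι t) hL) m
  let U : Y.Opens := ⟨{x | RelCanon.InvertibleAt L x}, isOpen_iff_forall_mem_open.2 fun x ⟨W, hx, e⟩ =>
    ⟨W, fun w hw => ⟨W, hw, e⟩, W.2, hx⟩⟩
  have hgor : ∀ w : f.fiber t, f.fiberι t w ∈ RelCanon.gorLocus f → f.fiberι t w ∈ U := fun w hw => by
    haveI := (show Dual3.IsGorensteinAt f (f.fiberι t w) from hw).2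
    obtain ⟨α⟩ := nonempty_stalk_equiv_of_cm A Y d hS.1 hd hω hL hLf t hLt w
      ⟨(show Dual3.IsGorensteinAt f _ from hw).1, H4Goren.isCohenMacaulayLocalRing _⟩
    obtain ⟨hcoh, -⟩ := isCoh_and_two_le_depth A Y d hd hω
    obtain ⟨e⟩ := nonempty_stalk_equiv_of_invertibleAt hcoh.1 (invertibleAt_of_gorenstein A Y d hS.1 hd hω _ hw)
    exact H29Ref.exists_iso_of_isFreeOfRankNear_one _ _ (H8Props.FunDescent.isFreeOfRankNear_of_stalkFree_of_isFP _
      (H10Coh.isFP_of_isCoh _ hL) ⟨(Module.Basis.singleton (Fin 1) _).map (α.trans e).symm⟩)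
  have hU2 : ∀ w : f.fiber t, w ∉ f.fiberι t ⁻¹ᵁ U → 2 ≤ fibDim A Y (f.fiberι t w) :=
    fun w hw => hG _ fun h => hw (hgor w h)
  have hLU : PicF.IsInvertible (L.restrict U.ι) := isInvertible_restrict_of_invertibleAt U fun x hx => hx
  obtain ⟨e₂⟩ := nonempty_restrict_pullback (f.fiberι t) U L
  obtain ⟨e₃⟩ := nonempty_pullback_refPowZ (f.fiberι t ∣_ U) hLU m
  obtain ⟨e₄⟩ := nonempty_refPowZ_congr e₂.symm m
  obtain ⟨e₅⟩ := nonempty_restrict_refPowZ (f.fiberι t ⁻¹ᵁ U) Lt m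
  obtain ⟨e₆⟩ := nonempty_restrict_refPowZ U L m
  obtain ⟨e₇⟩ := nonempty_restrict_pullback (f.fiberι t) U R
  obtain ⟨E⟩ : Nonempty ((Scheme.Modules.pullback (f.fiberι t)).obj R ≅ RelCanon.refPowZ Lt m) := by
    refine nonempty_iso_of_restrict (f.fiberι t ⁻¹ᵁ U) (isCohPull _ hR) (eGt.symm ▸ H29Ref.isCoh_ddual Gt hGt)
      (fun w hw => ?_) (fun w hw => ?_)
      ⟨e₇ ≪≫ (Scheme.Modules.pullback (f.fiberι t ∣_ U)).mapIso e₆ ≪≫ e₃ ≪≫ e₄ ≪≫ e₅.symm⟩
    · have hsk : RelCanon.SkAt 2 ((Scheme.Modules.pullback (f.fiberι t)).obj R) w := LeadBrown.Rel.forall_fiber f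
        (P := fun t w => RelCanon.RelSkAt f 2 R (f.fiberι t w) →
          RelCanon.SkAt 2 ((Scheme.Modules.pullback (f.fiberι t)).obj R) w)
        (fun y hy => by
          have key : ∀ x, x = y → RelCanon.RelSkAt f 2 R x → RelCanon.RelSkAt f 2 R y := fun x hx hh => hx ▸ hh
          exact (key _ (f.fiberι_asFiber y) hy).2) t w (h2 w)
      refine two_le_depth_fibre_of_skAt A Y d hd t (isCohPull _ hR) w hsk (hU2 w hw) fun η hη => ?_
      have hηU : f.fiberι t η ∈ U := hgor η (by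
        by_contra hc
        have := hG _ hc
        rw [hη] at this
        exact absurd this (by decide))
      obtain ⟨eR⟩ := nonempty_stalk_equiv_of_invertibleAt hR.1 (invertibleAt_of_isInvertible_restrict
        (H11Tilde.isInvertible_of_iso e₆.symm (isInvertible_refPowZ hLU m)) hηU)
      let g : ((Scheme.Modules.pullback (f.fiberι t)).obj R).presheaf.stalk η
          ≃ₗ[(f.fiber t).presheaf.stalk η] (f.fiber t).presheaf.stalk η :=
        (LinearEquiv.ofBijective _ (H06Mod.pullStalkLin_bijective (f.fiberι t) R η)).symm.trans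
          ((TensorProduct.AlgebraTensorModule.congr (LinearEquiv.refl _ _) eR).trans
            (TensorProduct.AlgebraTensorModule.rid (Y.presheaf.stalk (f.fiberι t η)) ((f.fiber t).presheaf.stalk η)
              ((f.fiber t).presheaf.stalk η)))
      exact g.toEquiv.nontrivial
    · rw [eGt]
      exact two_le_depth_ddual' Gt hGt w (two_le_depth_fiber_stalk A Y hS t w (hU2 w hw))
  obtain ⟨W, hzW, ⟨eW⟩⟩ := hinvt
  exact invertibleAt_of_fibre f hR _ (h2 z).1 t z rfl
    ⟨W, hzW, ⟨(Scheme.Modules.restrictFunctor W.ι).mapIso E ≪≫ eW⟩⟩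

include hd hω hS in
/-- Relative `(S₂)` of all reflexive powers of `ω` along a fibre. -/
theorem relSkAt_refPowZ_of_twist
    (hG : ∀ y : Y, y ∉ RelCanon.gorLocus (Y ↘ Spec (CommRingCat.of A)) → 2 ≤ fibDim A Y y)
    (t : Spec (CommRingCat.of A)) {L : Y.Modules} (hL : Coh.IsCoh L) (hLr : RefHull.IsReflexive L)
    (hL2 : ∀ m : ℤ, RelCanon.RelSk (Y ↘ Spec (CommRingCat.of A)) 2 (RelCanon.refPowZ L m))
    (hLt : RelCanon.IsDualizingSheafFib (Y ↘ Spec (CommRingCat.of A)) d L t)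
    (hab : (∀ z : (Y ↘ Spec (CommRingCat.of A)).fiber t,
        RelCanon.SkAt 3 (Coh.structureModule ((Y ↘ Spec (CommRingCat.of A)).fiber t)) z) ∨
      (∃ r : ℕ, 0 < r ∧ (r : (Spec (CommRingCat.of A)).residueField t) ≠ 0 ∧
        ∀ z : (Y ↘ Spec (CommRingCat.of A)).fiber t,
          RelCanon.InvertibleAt (RelCanon.refPowZ ω r) (((Y ↘ Spec (CommRingCat.of A)).fiberι t) z)))
    (m : ℤ) (y : Y) (hy : (Y ↘ Spec (CommRingCat.of A)) y = t) :
    RelCanon.RelSkAt (Y ↘ Spec (CommRingCat.of A)) 2 (RelCanon.refPowZ ω m) y := by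
  let f := Y ↘ Spec (CommRingCat.of A)
  haveI : Flat f := hS.1
  haveI := isNoetherian_of_proper A Y
  haveI : IsIso (RefHull.bidualMap L) := hLr
  obtain ⟨e₁⟩ : Nonempty (RelCanon.refPowZ L ((1 : ℕ) : ℤ) ≅ L) := by
    obtain ⟨e⟩ := nonempty_ddual_congr (X := Y) ⟨H10Coh.Tw.leftUnitIso L⟩
    exact ⟨e ≪≫ (asIso (RefHull.bidualMap L)).symm⟩
  have hLf : FlatMod.IsFlatOver f L := fun x => BaseChange.isFlatOverAt_of_iso e₁ (hL2 _ x).1
  have h3 : (∀ z : f.fiber t, RelCanon.SkAt 3 (Coh.structureModule (f.fiber t)) z) ∨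
      (∃ r : ℕ, 0 < r ∧ (r : (Spec (CommRingCat.of A)).residueField t) ≠ 0 ∧
        ∀ z : f.fiber t, RelCanon.InvertibleAt (RelCanon.refPowZ L r) (f.fiberι t z) ∧
          RelCanon.InvertibleAt (RelCanon.refPowZ ω r) (f.fiberι t z)) := by
    rcases hab with h | ⟨r, hr0, hrne, hr⟩
    · exact Or.inl h
    · exact Or.inr ⟨r, hr0, hrne, fun z => ⟨invertibleAt_refPowZ_of_omega A Y d hd hω hS hG hL hLf t hLt r
        (fun z => hL2 _ _) z (hr z), hr z⟩⟩
  obtain ⟨hM, -, -, V, hV, ⟨eV⟩⟩ := twist_core A Y d hd hω hS hL hLf t hLt h3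
  obtain ⟨W₀, hyW, ⟨eW⟩⟩ := (hM y hy).1
  let W := W₀ ⊓ V
  obtain ⟨eVW⟩ := nonempty_restrict_mono (inf_le_right : W ≤ V) eV
  obtain ⟨t₁⟩ := nonempty_restrict_tensorMod W L (RefHull.homSh L ω)
  let eM : (RefHull.homSh L ω).restrict W.ι ≅ Coh.structureModule (W : Scheme.{u}) :=
    (Scheme.Modules.restrictFunctorCongr (f := W.ι) (g := Y.homOfLE inf_le_left ≫ W₀.ι) (by simp)).app _ ≪≫
      (Scheme.Modules.restrictFunctorComp (Y.homOfLE inf_le_left) W₀.ι).app _ ≪≫
      (Scheme.Modules.restrictFunctor (Y.homOfLE inf_le_left)).mapIso eW ≪≫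
      Scheme.Modules.restrictUnitIso (Y.homOfLE inf_le_left)
  obtain ⟨c⟩ := nonempty_refPowZ_congr
    ((H10Coh.Tw.rightUnitIso (L.restrict W.ι)).symm ≪≫ tI (Iso.refl _) eM.symm ≪≫ t₁.symm ≪≫ eVW) m
  obtain ⟨a⟩ := nonempty_restrict_refPowZ W L m
  obtain ⟨b⟩ := nonempty_restrict_refPowZ W ω m
  obtain ⟨G, hG', eG⟩ := exists_refPowZ_eq hL m
  obtain ⟨G', hG'', eG'⟩ := exists_refPowZ_eq (isCoh_and_two_le_depth A Y d hd hω).1 m
  exact relSkAt_of_restrict_iso A Y 2 (eG.symm ▸ H29Ref.isCoh_ddual G hG') (eG'.symm ▸ H29Ref.isCoh_ddual G' hG'')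
    (a ≪≫ c ≪≫ b.symm) (show y ∈ W from ⟨hyW, hV y hy⟩) (hL2 m y)

end Groth.Agent.H4Rel
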