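import Groth.Agent.H4Rel.HomDualPullback
import Groth.Agent.H4Rel.TwistPowers
import Groth.Agent.H8Props.FlatGen.Basic
import Groth.Agent.H29Ref.DualStalk
import Groth.Agent.H06EGA12.Semilinear

/-!
# Relative `(S₂)` of reflexive powers at a point and base change
-/

set_option autoImplicit false
set_option linter.style.haveILetI false
set_option linter.unusedSectionVars false
set_option backward.isDefEq.respectTransparency false
set_option maxHeartbeats 1000000
set_option synthInstance.maxHeartbeats 400000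

universe u

open CategoryTheory CategoryTheory.Limits AlgebraicGeometry IsLocalRing TensorProduct
open Groth.Agent.H16Derived

attribute [local instance] HasDerivedCategory.standard

namespace Groth.Agent.H4Rel

attribute [local instance] H06Mod.stalkAlgebra

/-- Serre's condition passes to generisations. -/
theorem skAt_of_specializes {X : Scheme.{u}} (k : ℕ) (F : X.Modules) (hF : Coh.IsQCoh F) {η y : X} (h : η ⤳ y)
    (hy : RelCanon.SkAt k F y) : RelCanon.SkAt k F η := by
  letI := (X.presheaf.stalkSpecializes h).hom.toAlgebra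
  letI := Module.compHom (F.presheaf.stalk η) (X.presheaf.stalkSpecializes h).hom
  haveI := isLocalizedModule_specLin F hF h
  haveI := H7CDiv.isLocalization_stalkSpecializes h
  let P := (H7CDiv.primeOf h).asIdeal
  let σ := IsLocalization.algEquiv P.primeCompl (Localization.AtPrime P) (X.presheaf.stalk η)
  letI : Module (Localization.AtPrime P) (F.presheaf.stalk η) := Module.compHom _ σ.toRingEquiv.toRingHom
  haveI : IsScalarTower (X.presheaf.stalk y) (Localization.AtPrime P) (F.presheaf.stalk η) :=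
    .of_algebraMap_smul fun r m => by
      show σ (algebraMap _ _ r) • m = r • m
      rw [AlgEquiv.commutes]; rfl
  let e := (IsLocalizedModule.iso P.primeCompl (specLin F h)).extendScalarsOfIsLocalization
    P.primeCompl (Localization.AtPrime P)
  exact (H06EGA12.hasSk_iff_of_semilinear σ.toRingEquiv.toRingHom σ.surjective e.toAddEquiv
    (fun r m => e.map_smul r m) k).2
    ((H06EGA12.hasSk_localization_iff _ (H7CDiv.primeOf h) k).2 fun Q' _ => hy Q'.asIdeal)

/-- Serre's condition of an inverse image along a map which is bijective on local rings. -/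
theorem skAt_pullback_of_bijective {X Z : Scheme.{u}} (q : X ⟶ Z) (M : Z.Modules) (x : X) (k : ℕ)
    (hb : Function.Bijective (q.stalkMap x).hom) (h : RelCanon.SkAt k M (q x)) :
    RelCanon.SkAt k ((Scheme.Modules.pullback q).obj M) x := by
  let C := Z.presheaf.stalk (q x)
  let C' := X.presheaf.stalk x
  let EP := LinearEquiv.ofBijective _ (H06Mod.pullStalkLin_bijective q M x)
  let σ : C' ⊗[C] M.presheaf.stalk (q x) ≃ₗ[C] M.presheaf.stalk (q x) :=
    (TensorProduct.congr (LinearEquiv.ofBijective (Algebra.linearMap C C') hb).symm (LinearEquiv.refl C _)).trans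
      (TensorProduct.lid C _)
  let e : M.presheaf.stalk (q x) ≃+ ((Scheme.Modules.pullback q).obj M).presheaf.stalk x :=
    σ.symm.toAddEquiv.trans EP.toAddEquiv
  refine (H06EGA12.hasSk_iff_of_semilinear (q.stalkMap x).hom hb.2 e (fun a v => ?_) k).2 h
  show EP (σ.symm (a • v)) = algebraMap C C' a • EP (σ.symm v)
  rw [map_smul σ.symm, ← algebraMap_smul C', map_smul EP]

/-- A module with free stalk of rank one is reflexive there. -/
theorem bijective_bidual_of_stalk_equiv {X : Scheme.{u}} [IsLocallyNoetherian X] {F : X.Modules} (hF : Coh.IsCoh F)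
    (x : X) (e : F.presheaf.stalk x ≃ₗ[X.presheaf.stalk x] X.presheaf.stalk x) :
    Function.Bijective (RefHull.stalkMapₗ (RefHull.bidualMap F) x) := by
  haveI : Module.Finite (X.presheaf.stalk x) (F.presheaf.stalk x) := Module.Finite.equiv e.symm
  haveI : Module.Free (X.presheaf.stalk x) (F.presheaf.stalk x) := Module.Free.of_equiv e.symm
  exact (H29Ref.isReflexiveAt_iff F (H10Coh.isFP_of_isCoh F hF) (H29Ref.isFP_dual F hF) x).1
    (show Module.IsReflexive (X.presheaf.stalk x) (F.presheaf.stalk x) from inferInstance)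

variable (A : Type u) [CommRing A] [IsNoetherianRing A] (Y : Scheme.{u}) [Y.Over (Spec (CommRingCat.of A))]
  [IsProper (Y ↘ Spec (CommRingCat.of A))] (d : ℕ)
  (hd : Cyc.HasRelDim (Y ↘ Spec (CommRingCat.of A)) d) {ω : Y.Modules}
  (hω : RelCanon.IsDualizingSheaf A Y d ω)
  (hS : RelCanon.IsSkMor (Y ↘ Spec (CommRingCat.of A)) 2)
  (hG : ∀ y : Y, y ∉ RelCanon.gorLocus (Y ↘ Spec (CommRingCat.of A)) → 2 ≤ fibDim A Y y)

include hd hω hS in
/-- The reflexive powers are invertible at Gorenstein points. -/
theorem invertibleAt_refPowZ_of_gor (m : ℤ) (x : Y) (hx : x ∈ RelCanon.gorLocus (Y ↘ Spec (CommRingCat.of A))) :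
    RelCanon.InvertibleAt (RelCanon.refPowZ ω m) x := by
  let f := Y ↘ Spec (CommRingCat.of A)
  haveI : Flat f := hS.1
  haveI := isNoetherian_of_proper A Y
  haveI : LocallyOfFinitePresentation f := inferInstance
  let U : Y.Opens := ⟨_, S3617.result Y _ f⟩
  obtain ⟨eU⟩ := nonempty_restrict_refPowZ U ω m
  exact H29Ref.exists_iso_of_isFreeOfRankNear_one _ x (H29Ref.isFreeOfRankNear_of_restrict (RelCanon.refPowZ ω m) U
    (isInvertible_refPowZ (isInvertible_restrict_gor A Y d hd hω hS.1) m) eU x hx)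

include hd hω hS hG in
/-- Depth two on the fibre at non-Gorenstein generisations of a point with `(S₂)`. -/
theorem two_le_depth_fibre_gen (m : ℤ) (t : Spec (CommRingCat.of A)) (z w : (Y ↘ Spec (CommRingCat.of A)).fiber t)
    (hzw : w ⤳ z)
    (hsk : RelCanon.SkAt 2
      ((Scheme.Modules.pullback ((Y ↘ Spec (CommRingCat.of A)).fiberι t)).obj (RelCanon.refPowZ ω m)) z)
    (hw : ((Y ↘ Spec (CommRingCat.of A)).fiberι t) w ∉ RelCanon.gorLocus (Y ↘ Spec (CommRingCat.of A))) :
    (2 : ℕ∞) ≤ LocCoh.depth (((Y ↘ Spec (CommRingCat.of A)).fiber t).presheaf.stalk w)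
      (((Scheme.Modules.pullback ((Y ↘ Spec (CommRingCat.of A)).fiberι t)).obj
        (RelCanon.refPowZ ω m)).presheaf.stalk w) := by
  let f := Y ↘ Spec (CommRingCat.of A)
  haveI := isNoetherian_of_proper A Y
  obtain ⟨G, hG', eG⟩ := exists_refPowZ_eq (isCoh_and_two_le_depth A Y d hd hω).1 m
  have hR : Coh.IsCoh (RelCanon.refPowZ ω m) := eG.symm ▸ H29Ref.isCoh_ddual G hG'
  refine two_le_depth_fibre_of_skAt A Y d hd t (isCohPull _ hR) w
    (skAt_of_specializes 2 _ (isCohPull _ hR).1 hzw hsk) (hG _ hw) fun η hη => ?_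
  have hgor : f.fiberι t η ∈ RelCanon.gorLocus f := by
    by_contra hc
    have := hG _ hc
    rw [hη] at this
    exact absurd this (by decide)
  haveI := nontrivial_refPowZ A Y d hd hS hω m _ hgor
  letI := ((f.fiberι t).stalkMap η).hom.toAlgebra
  haveI : Module.Finite (Y.presheaf.stalk (f.fiberι t η)) ((f.fiber t).presheaf.stalk η) :=
    Module.Finite.of_surjective (Algebra.linearMap _ _) ((f.fiberι t).stalkMap_surjective η)
  haveI : Module.Finite (Y.presheaf.stalk (f.fiberι t η)) ((RelCanon.refPowZ ω m).presheaf.stalk (f.fiberι t η)) :=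
    H06Mod.finite_stalk _ hR.2 _
  haveI := H17.SuppTensor.subsingleton_tensor_local (R := Y.presheaf.stalk (f.fiberι t η))
    (M := (f.fiber t).presheaf.stalk η) (N := (RelCanon.refPowZ ω m).presheaf.stalk (f.fiberι t η))
  exact (LinearEquiv.ofBijective _ (H06Mod.pullStalkLin_bijective (f.fiberι t) (RelCanon.refPowZ ω m) η)).toEquiv.symm.nontrivial

variable {B : Type u} [CommRing B] [IsNoetherianRing B] {g : Spec (CommRingCat.of B) ⟶ Spec (CommRingCat.of A)}
  {Y' : Scheme.{u}} [Y'.Over (Spec (CommRingCat.of B))] {p : Y' ⟶ Y}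
  (hp : IsPullback p (Y' ↘ Spec (CommRingCat.of B)) (Y ↘ Spec (CommRingCat.of A)) g)
  {ω' : Y'.Modules} (hω' : RelCanon.IsDualizingSheaf B Y' d ω')
  (hone : ∀ s s' : Spec (CommRingCat.of B), s = s')

include hd hω hS hG hp hω' hone in
/-- Over a one point base the reflexive power is the inverse image near a point of relative `(S₂)`. -/
theorem nonempty_stalk_bc_point (m : ℤ) (y' : Y')
    (h : RelCanon.RelSkAt (Y ↘ Spec (CommRingCat.of A)) 2 (RelCanon.refPowZ ω m) (p y')) :
    Nonempty (((Scheme.Modules.pullback p).obj (RelCanon.refPowZ ω m)).presheaf.stalk y' ≃ₗ[Y'.presheaf.stalk y']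
      (RelCanon.refPowZ ω' m).presheaf.stalk y') := by
  let f := Y ↘ Spec (CommRingCat.of A)
  let f' := Y' ↘ Spec (CommRingCat.of B)
  haveI : Flat f := hS.1
  haveI : IsProper f' := MorphismProperty.of_isPullback (P := @IsProper) hp inferInstance
  haveI := isNoetherian_of_proper A Y
  haveI := isNoetherian_of_proper B Y'
  haveI : LocallyOfFinitePresentation f := inferInstance
  obtain ⟨G, hG', eG⟩ := exists_refPowZ_eq (isCoh_and_two_le_depth A Y d hd hω).1 m
  let R := RelCanon.refPowZ ω m
  have hR : Coh.IsCoh (RelCanon.refPowZ ω m) := eG.symm ▸ H29Ref.isCoh_ddual G hG'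
  let P := (Scheme.Modules.pullback p).obj R
  have hP : Coh.IsCoh P := isCohPull p hR
  let U : Y.Opens := ⟨_, S3617.result Y _ f⟩
  let U' := p ⁻¹ᵁ U
  have hbU : ∀ x ∈ U', Function.Bijective (RefHull.stalkMapₗ (RefHull.bidualMap P) x) := fun x hx => by
    obtain ⟨e⟩ := nonempty_stalk_equiv_of_invertibleAt hR.1 (invertibleAt_refPowZ_of_gor A Y d hd hω hS m (p x) hx)
    exact bijective_bidual_of_stalk_equiv hP x
      ((LinearEquiv.ofBijective _ (H06Mod.pullStalkLin_bijective p R x)).symm.trans
        ((TensorProduct.AlgebraTensorModule.congr (LinearEquiv.refl (Y'.presheaf.stalk x) (Y'.presheaf.stalk x)) e).trans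
          (TensorProduct.AlgebraTensorModule.rid (Y.presheaf.stalk (p x)) (Y'.presheaf.stalk x) (Y'.presheaf.stalk x))))
  have hbij : Function.Bijective (RefHull.stalkMapₗ (RefHull.bidualMap P) y') := by
    by_cases hy : y' ∈ U'
    · exact hbU y' hy
    let J := PrimeSpectrum.vanishingIdeal (Y'.fromSpecStalk y' ⁻¹' (U' : Set Y')ᶜ)
    have hJ1 : ∀ q : PrimeSpectrum (Y'.presheaf.stalk y'), ¬ J ≤ q.asIdeal → Y'.fromSpecStalk y' q ∈ U' :=
      fun q hq => by
        by_contra hc
        exact hq fun a ha => (PrimeSpectrum.mem_vanishingIdeal _ _).1 ha q hc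
    have hJ2 : ∀ q : PrimeSpectrum (Y'.presheaf.stalk y'), J ≤ q.asIdeal → Y'.fromSpecStalk y' q ∉ U' := fun q hq => by
      have h : q ∈ PrimeSpectrum.zeroLocus (J : Set (Y'.presheaf.stalk y')) := hq
      have hc : IsClosed (Y'.fromSpecStalk y' ⁻¹' (U' : Set Y')ᶜ : Set (PrimeSpectrum (Y'.presheaf.stalk y'))) :=
        U'.2.isClosed_compl.preimage (Y'.fromSpecStalk y').continuous
      rw [PrimeSpectrum.zeroLocus_vanishingIdeal_eq_closure] at h
      exact hc.closure_subset h
    have hJ : J ≠ ⊤ := fun hJ => by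
      have hc : Y'.fromSpecStalk y' (closedPoint _) ∉ U' := by rwa [Scheme.fromSpecStalk_closedPoint]
      have := (PrimeSpectrum.mem_vanishingIdeal _ _).1 (show (1 : Y'.presheaf.stalk y') ∈ J from hJ ▸ trivial)
        (closedPoint _) hc
      exact (maximalIdeal.isMaximal _).ne_top ((Ideal.eq_top_iff_one _).2 this)
    have hdO : ∀ q : PrimeSpectrum (Y'.presheaf.stalk y'), J ≤ q.asIdeal →
        (2 : ℕ∞) ≤ LocCoh.depth (Y'.presheaf.stalk (Y'.fromSpecStalk y' q)) (P.presheaf.stalk (Y'.fromSpecStalk y' q)) :=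
      fun q hq => by
      let η := Y'.fromSpecStalk y' q
      have hs : p η ⤳ p y' := (H7CDiv.fromSpecStalk_specializes q).map p.continuous
      refine le_depth_pullback_of_fibre A Y hp R hR 2 η (H8Props.FlatGen.isFlatOverAt_of_specializes f R hR.1 hs h.1)
        fun w hw => ?_
      have hts : g (f' η) = f (p y') := by
        rw [hone (f' η) (f' y'), ← Scheme.Hom.comp_apply, ← hp.w]; rfl
      have key : ∀ (s : Spec (CommRingCat.of A)), s = f (p y') → ∀ w : f.fiber s, f.fiberι s w = p η →
          (2 : ℕ∞) ≤ LocCoh.depth ((f.fiber s).presheaf.stalk w)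
            (((Scheme.Modules.pullback (f.fiberι s)).obj R).presheaf.stalk w) := by
        rintro s rfl w hw
        refine two_le_depth_fibre_gen A Y d hd hω hS hG m _ (f.asFiber (p y')) w ?_ h.2 (by rw [hw]; exact hJ2 q hq)
        rw [← (f.fiberι (f (p y'))).isEmbedding.isInducing.specializes_iff, hw, f.fiberι_asFiber]
        exact hs
      exact key _ hts w hw
    obtain ⟨a, b, ha, hb, hab⟩ := exists_reg2_stalk hP y' J hJ hdO
    obtain ⟨c, c', hc, -, hcc⟩ := exists_reg2_stalk (H29Ref.isCoh_ddual P hP) y' J hJ fun q hq =>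
      two_le_depth_ddual' P hP _ (two_le_depth_stalk_bc A Y hS hp _ (hG _ (hJ2 q hq)))
    exact bijective_of_bijective_off (RefHull.bidualMap P) hP.1 (H29Ref.isCoh_ddual P hP).1 U' hbU y' J hJ1 ha hb hab
      hc hcc.reg
  obtain ⟨E⟩ := (nonempty_refPowZ_bc A Y d hd hω hS hG hp hω' m).1
  exact ⟨(LinearEquiv.ofBijective _ hbij).trans (H06EGA9.stalkIso E y')⟩

include hd hω hS hG hp hω' hone in
/-- Relative `(S₂)` at a point passes to a base change with one point and the same residue field. -/
theorem relSkAt_refPowZ_bc_point [IsPreimmersion g] (m : ℤ) (y' : Y')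
    (h : RelCanon.RelSkAt (Y ↘ Spec (CommRingCat.of A)) 2 (RelCanon.refPowZ ω m) (p y')) :
    RelCanon.RelSkAt (Y' ↘ Spec (CommRingCat.of B)) 2 (RelCanon.refPowZ ω' m) y' := by
  let f := Y ↘ Spec (CommRingCat.of A)
  let f' := Y' ↘ Spec (CommRingCat.of B)
  haveI : IsProper f' := MorphismProperty.of_isPullback (P := @IsProper) hp inferInstance
  haveI := isNoetherian_of_proper A Y
  haveI := isNoetherian_of_proper B Y'
  let R := RelCanon.refPowZ ω m
  obtain ⟨G, hG', eG⟩ := exists_refPowZ_eq (isCoh_and_two_le_depth A Y d hd hω).1 m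
  have hR : Coh.IsCoh (RelCanon.refPowZ ω m) := eG.symm ▸ H29Ref.isCoh_ddual G hG'
  let P := (Scheme.Modules.pullback p).obj R
  let R' := RelCanon.refPowZ ω' m
  refine ⟨?_, ?_⟩
  · obtain ⟨e⟩ := nonempty_stalk_bc_point A Y d hd hω hS hG hp hω' hone m y' h
    let A₀ := (Spec (CommRingCat.of B)).presheaf.stalk (f' y')
    letI := (f'.stalkMap y').hom.toAlgebra
    letI : Module A₀ (P.presheaf.stalk y') := FlatMod.moduleStalkOver f' P y'
    letI : Module A₀ (R'.presheaf.stalk y') := FlatMod.moduleStalkOver f' R' y'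
    haveI : IsScalarTower A₀ (Y'.presheaf.stalk y') (P.presheaf.stalk y') := .of_algebraMap_smul fun _ _ => rfl
    haveI : IsScalarTower A₀ (Y'.presheaf.stalk y') (R'.presheaf.stalk y') := .of_algebraMap_smul fun _ _ => rfl
    haveI : Module.Flat A₀ (P.presheaf.stalk y') := H06EGA9.isFlatOverAt_of_isPullback hp R y' h.1
    exact Module.Flat.of_linearEquiv (e.restrictScalars A₀).symm
  · let t' := f' y'
    let w := f'.asFiber y'
    have hsq := isPullback_fiberToSpecResidueField_of_isPullback hp t'
    let q : f'.fiber t' ⟶ f.fiber (g t') := pullback.map _ _ _ _ p (Spec.map (g.residueFieldMap t')) g hp.w.symm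
      (Scheme.Hom.SpecMap_residueFieldMap_fromSpecResidueField g t').symm
    haveI : IsIso (g.residueFieldMap t') := by
      refine (ConcreteCategory.isIso_iff_bijective _).2 ⟨(g.residueFieldMap t').hom.injective, fun v => ?_⟩
      obtain ⟨v, rfl⟩ := IsLocalRing.residue_surjective v
      obtain ⟨c, rfl⟩ := g.stalkMap_surjective t' v
      exact ⟨residue _ c, rfl⟩
    haveI : IsIso (Spec.map (g.residueFieldMap t')) := inferInstance
    haveI : IsIso q := MorphismProperty.of_isPullback (P := MorphismProperty.isomorphisms Scheme.{u}) hsq.flip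
      (MorphismProperty.isomorphisms.infer_property _)
    have hq : q ≫ f.fiberι (g t') = f'.fiberι t' ≫ p := pullback.lift_fst _ _ _
    have hqw : f.fiberι (g t') (q w) = p y' := by
      rw [← Scheme.Hom.comp_apply, hq, Scheme.Hom.comp_apply, f'.fiberι_asFiber]
    have hskR : RelCanon.SkAt 2 ((Scheme.Modules.pullback (f.fiberι (g t'))).obj R) (q w) :=
      LeadBrown.Rel.forall_fiber f
        (P := fun s v => RelCanon.RelSkAt f 2 R (f.fiberι s v) →
          RelCanon.SkAt 2 ((Scheme.Modules.pullback (f.fiberι s)).obj R) v)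
        (fun y hy => by
          have key : ∀ x, x = y → RelCanon.RelSkAt f 2 R x → RelCanon.RelSkAt f 2 R y := fun x hx hh => hx ▸ hh
          exact (key _ (f.fiberι_asFiber y) hy).2) _ _ (by rw [hqw]; exact h)
    have h1 := skAt_pullback_of_bijective q _ w 2
      ((ConcreteCategory.isIso_iff_bijective (q.stalkMap w)).1 inferInstance) hskR
    obtain ⟨e₁⟩ := nonempty_stalk_bc_point A Y d hd hω hS hG hp hω' hone m (f'.fiberι t' w)
      (by rw [f'.fiberι_asFiber]; exact h)
    let i : (Scheme.Modules.pullback q).obj ((Scheme.Modules.pullback (f.fiberι (g t'))).obj R) ≅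
        (Scheme.Modules.pullback (f'.fiberι t')).obj P :=
      (Scheme.Modules.pullbackComp q (f.fiberι (g t'))).app R ≪≫ (Scheme.Modules.pullbackCongr hq).app R ≪≫
        ((Scheme.Modules.pullbackComp (f'.fiberι t') p).app R).symm
    let l := (H06EGA9.stalkIso i w).trans
      ((LinearEquiv.ofBijective _ (H06Mod.pullStalkLin_bijective (f'.fiberι t') P w)).symm.trans
        ((TensorProduct.AlgebraTensorModule.congr (LinearEquiv.refl ((f'.fiber t').presheaf.stalk w)
          ((f'.fiber t').presheaf.stalk w)) e₁).trans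
          (LinearEquiv.ofBijective _ (H06Mod.pullStalkLin_bijective (f'.fiberι t') R' w))))
    exact (H06EGA12.hasSk_iff_of_semilinear (RingHom.id _) Function.surjective_id l.toAddEquiv
      (fun r v => map_smul l r v) 2).2 h1

end Groth.Agent.H4Rel
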