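import Groth.Agent.H4Rel.HomExt

/-!
# Roots of liftings of generators of duals
-/

set_option autoImplicit false
set_option linter.style.haveILetI false
set_option linter.unusedSectionVars false
set_option maxHeartbeats 1000000

universe u

open TensorProduct IsLocalRing
open TensorProduct (AlgebraTensorModule.lTensor)

namespace Groth.Agent.H4Rel.Lift

variable {B : Type u} [CommRing B]

theorem exists_pow_expand (u β : B) : ∀ k : ℕ,
    ∃ c, (u + β) ^ (k + 1) = u ^ (k + 1) + (k + 1 : B) * u ^ k * β + c * β ^ 2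
  | 0 => ⟨0, by simp⟩
  | k + 1 => by
    obtain ⟨c, hc⟩ := exists_pow_expand u β k
    refine ⟨(k + 1 : B) * u ^ k + c * (u + β), ?_⟩
    rw [pow_succ, hc]
    push_cast
    ring

/-- The second element of a regular pair is regular. -/
theorem Reg2.reg_snd [IsLocalRing B] [IsNoetherianRing B] {x y : B} {P : Type u} [AddCommGroup P] [Module B P]
    [Module.Finite B P] (h : Reg2 x y P) (hx : x ∈ maximalIdeal B) : IsSMulRegular P y := by
  have key : ∀ (n : ℕ) (v : P), y • v = 0 → v ∈ (maximalIdeal B) ^ n • (⊤ : Submodule B P) := by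
    intro n
    induction n with
    | zero => intro v _; simp
    | succ n ih =>
      intro v hv
      obtain ⟨c, rfl⟩ := h.reg2 v 0 (by rw [hv, smul_zero])
      rw [pow_succ', mul_smul]
      exact Submodule.smul_mem_smul hx (ih c (h.reg (show x • y • c = x • 0 by rw [smul_comm, hv, smul_zero])))
  intro v w hvw
  have hmem : v - w ∈ ⨅ n : ℕ, (maximalIdeal B) ^ n • (⊤ : Submodule B P) :=
    Submodule.mem_iInf _ |>.2 fun n => key n _ (by rw [smul_sub, sub_eq_zero]; exact hvw)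
  rw [Ideal.iInf_pow_smul_eq_bot_of_isLocalRing _ (maximalIdeal.isMaximal B).ne_top, Submodule.mem_bot] at hmem
  exact sub_eq_zero.1 hmem

variable {A : Type u} [CommRing A] [Algebra A B] [IsLocalRing A] [IsNoetherianRing A] [Module.Flat A B]
  [IsLocalRing B] [IsLocalHom (algebraMap A B)] [IsNoetherianRing B]
  {D : Type u} [AddCommGroup D] [Module B D]

local notation "Im" => fun n => powR (A := A) (B := B) B n

theorem powR_mul_mem {i j : ℕ} {a b : B} (ha : a ∈ powR (A := A) (B := B) B i) (hb : b ∈ powR (A := A) (B := B) B j) :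
    a * b ∈ powR (A := A) (B := B) B (i + j) := by
  simp only [powR, smul_eq_mul, Ideal.mul_top] at *
  rw [pow_add, Ideal.map_mul]
  exact Ideal.mul_mem_mul ha hb

theorem regular_powR {x : B} (hx : IsSMulRegular (QB B A 1) x) {n : ℕ} {a : B}
    (h : x * a ∈ powR (A := A) (B := B) B n) : a ∈ powR (A := A) (B := B) B n :=
  mem_powR_of_pow_smul_mem hx 1 n a (by rwa [pow_one, smul_eq_mul])

theorem regular_powR_pow {x : B} (hx : IsSMulRegular (QB B A 1) x) (k : ℕ) {n : ℕ} {a : B}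
    (h : x ^ k * a ∈ powR (A := A) (B := B) B n) : a ∈ powR (A := A) (B := B) B n :=
  mem_powR_of_pow_smul_mem hx k n a (by rwa [smul_eq_mul])

theorem mk_eq_mk_iff {n : ℕ} {a b : B} : (Submodule.Quotient.mk a : QB B A n) = Submodule.Quotient.mk b ↔
    a - b ∈ powR (A := A) (B := B) B n :=
  Submodule.Quotient.eq _

/-- Normalisation of a candidate for the power of a generator at two points. -/
theorem exists_unit {x y γ γ' t t' φd' πd πd' ρ ρ' : B} (r : ℕ) (hr : r ≠ 0) (hxm : x ∈ maximalIdeal B)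
    (hreg : Reg2 x y (QB B A 1)) (hγ : x - γ * t ∈ powR (A := A) (B := B) B 1)
    (hγ' : y - γ' * t' ∈ powR (A := A) (B := B) B 1) (ht : x * t' - φd' * t ∈ powR (A := A) (B := B) B 1)
    (hπ : x ^ r * πd' = φd' ^ r * πd) (hρ : ρ * πd = x ^ r) (hρ' : ρ' * πd' = y ^ r) :
    ∃ u : B, IsUnit u ∧ πd - u * t ^ r ∈ powR (A := A) (B := B) B 1 ∧
      πd' - u * t' ^ r ∈ powR (A := A) (B := B) B 1 := by
  let q := Ideal.Quotient.mk (powR (A := A) (B := B) B 1 : Ideal B)
  have hq : ∀ {a b : B}, a - b ∈ powR (A := A) (B := B) B 1 ↔ q a = q b := fun {a b} => Ideal.Quotient.eq.symm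
  rw [hq] at hγ hγ' ht
  simp only [hq]
  rw [map_mul] at hγ hγ'
  rw [map_mul, map_mul] at ht
  have hregy := hreg.reg_snd hxm
  have cancel : ∀ {z : B} (_ : IsSMulRegular (QB B A 1) z) (k : ℕ) {a b : B}, q (z ^ k * a) = q (z ^ k * b) → q a = q b := by
    intro z hz k a b h
    rw [← hq] at h ⊢
    rw [← mul_sub] at h
    exact regular_powR_pow hz k h
  have e1 : q (πd * t' ^ r) = q (πd' * t ^ r) := by
    refine cancel hreg.reg r ?_
    calc q (x ^ r * (πd * t' ^ r)) = q πd * (q x * q t') ^ r := by simp only [map_mul, map_pow, mul_pow]; ring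
      _ = q (φd' ^ r * πd) * q t ^ r := by rw [ht]; simp only [map_mul, map_pow, mul_pow]; ring
      _ = q (x ^ r * (πd' * t ^ r)) := by rw [← hπ]; simp only [map_mul, map_pow]; ring
  have e2 : q (y ^ r * (γ ^ r * πd)) = q (x ^ r * (γ' ^ r * πd')) := by
    simp only [map_mul, map_pow, hγ, hγ'] at e1 ⊢
    calc (q γ' * q t') ^ r * (q γ ^ r * q πd) = q γ' ^ r * q γ ^ r * (q πd * q t' ^ r) := by ring
      _ = q γ' ^ r * q γ ^ r * (q πd' * q t ^ r) := by rw [e1]
      _ = _ := by ring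
  obtain ⟨c, hc⟩ := hreg.pow r r (Submodule.Quotient.mk (γ ^ r * πd)) (Submodule.Quotient.mk (γ' ^ r * πd'))
    (by rw [← Submodule.Quotient.mk_smul, ← Submodule.Quotient.mk_smul, mk_eq_mk_iff, hq]; simpa using e2)
  obtain ⟨u, rfl⟩ := Submodule.Quotient.mk_surjective _ c
  rw [← Submodule.Quotient.mk_smul, mk_eq_mk_iff, hq, smul_eq_mul] at hc
  have hu : q πd = q (u * t ^ r) := by
    refine cancel hreg.reg r ?_
    simp only [map_mul, map_pow, hγ] at hc ⊢
    calc (q γ * q t) ^ r * q πd = q t ^ r * (q γ ^ r * q πd) := by ring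
      _ = q t ^ r * ((q γ * q t) ^ r * q u) := by rw [hc]
      _ = _ := by ring
  have hu' : q πd' = q (u * t' ^ r) := by
    refine cancel hregy r ?_
    have h0 : q (γ' ^ r * πd') = q (y ^ r * u) := by
      refine cancel hreg.reg r ?_
      rw [← e2, map_mul, hc, ← map_mul]
      congr 1
      ring
    simp only [map_mul, map_pow, hγ'] at h0 ⊢
    calc (q γ' * q t') ^ r * q πd' = q t' ^ r * (q γ' ^ r * q πd') := by ring
      _ = q t' ^ r * ((q γ' * q t') ^ r * q u) := by rw [h0]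
      _ = _ := by ring
  have h1 : q (x ^ r) = q (ρ * t ^ r) * q u := by rw [← hρ, map_mul, hu]; simp only [map_mul]; ring
  have h2 : q (y ^ r) = q (ρ' * t' ^ r) * q u := by rw [← hρ', map_mul, hu']; simp only [map_mul]; ring
  have h3 : q (y ^ r * (ρ * t ^ r)) = q (x ^ r * (ρ' * t' ^ r)) := by
    rw [map_mul, map_mul (f := q) (x ^ r), h1, h2]; ring
  obtain ⟨c, hc'⟩ := hreg.pow r r (Submodule.Quotient.mk (ρ * t ^ r)) (Submodule.Quotient.mk (ρ' * t' ^ r))
    (by rw [← Submodule.Quotient.mk_smul, ← Submodule.Quotient.mk_smul, mk_eq_mk_iff, hq]; simpa using h3)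
  obtain ⟨c, rfl⟩ := Submodule.Quotient.mk_surjective _ c
  rw [← Submodule.Quotient.mk_smul, mk_eq_mk_iff, hq, smul_eq_mul] at hc'
  have h4 : q (1 : B) = q (c * u) := by
    refine cancel hreg.reg r ?_
    rw [mul_one, h1, hc', ← map_mul]
    congr 1
    ring
  refine ⟨u, ?_, hu, hu'⟩
  have hle : (powR (A := A) (B := B) B 1 : Ideal B) ≤ maximalIdeal B := by
    rw [powR, pow_one, smul_eq_mul, Ideal.mul_top]
    exact Ideal.map_le_iff_le_comap.mpr (maximalIdeal_comap (algebraMap A B)).ge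
  by_contra hnu
  have hmem : c * u ∈ maximalIdeal B := Ideal.mul_mem_left _ _ hnu
  have := add_mem (hle (hq.2 h4)) hmem
  rw [sub_add_cancel] at this
  exact (maximalIdeal.isMaximal B).ne_top ((Ideal.eq_top_iff_one _).2 this)

variable {r : ℕ} {d d' : D} {φ ψ : D →ₗ[B] B}

/-- A lift, after multiplying by a power of `φ d`, of a root. -/
theorem exists_root_lift (hφ : ∀ v, φ d • v = φ v • d) (k : ℕ) {ir γ t πd : B} (hir : ir * (k + 1 : B) = 1)
    (hγ : φ d - γ * t ∈ powR (A := A) (B := B) B 1) (n : ℕ) (hn : 1 ≤ n) (en : D →ₗ[B] QB B A n) {q : B}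
    (hq : en d = Submodule.Quotient.mk q) (hqt : q - t ∈ powR (A := A) (B := B) B 1)
    (hqπ : q ^ (k + 1) - πd ∈ powR (A := A) (B := B) B n) :
    ∃ A₁ : B, (∀ v, (Submodule.Quotient.mk (φ v * A₁) : QB B A n) = φ d ^ (k + 2) • en v) ∧
      (φ d * A₁) ^ (k + 1) - (φ d ^ (k + 2)) ^ (k + 1) * πd ∈ powR (A := A) (B := B) B (n + 1) ∧
      A₁ - φ d ^ (k + 1) * q ∈ powR (A := A) (B := B) B n := by
  let x := φ d
  let α := q ^ (k + 1) - πd
  let β := -(x * γ ^ k * α * ir)
  have hβ : β ∈ powR (A := A) (B := B) B n :=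
    neg_mem (Ideal.mul_mem_right _ _ (Ideal.mul_mem_left _ _ hqπ))
  let A₁ := x ^ (k + 1) * q + β
  refine ⟨A₁, fun v => ?_, ?_, ?_⟩
  case refine_3 =>
    show x ^ (k + 1) * q + β - x ^ (k + 1) * q ∈ _
    rwa [add_sub_cancel_left]
  · have hx : x • en v = φ v • en d := by rw [← map_smul, ← map_smul, hφ]
    rw [pow_succ, mul_smul, hx, hq, ← Submodule.Quotient.mk_smul, ← Submodule.Quotient.mk_smul, mk_eq_mk_iff]
    have : φ v * A₁ - x ^ (k + 1) • φ v • q = φ v * β := by simp only [A₁, smul_eq_mul]; ring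
    rw [this]
    exact Ideal.mul_mem_left _ _ hβ
  · obtain ⟨c, hc⟩ := exists_pow_expand (x ^ (k + 1) * q) β k
    have hdiff : x - q * γ ∈ powR (A := A) (B := B) B 1 := by
      have : x - q * γ = (x - γ * t) - γ * (q - t) := by ring
      rw [this]
      exact sub_mem hγ (Ideal.mul_mem_left _ _ hqt)
    obtain ⟨e, he⟩ := sub_dvd_pow_sub_pow x (q * γ) k
    have hmul : α * (x - q * γ) ∈ powR (A := A) (B := B) B (n + 1) := powR_mul_mem hqπ hdiff
    have hsq : β ^ 2 ∈ powR (A := A) (B := B) B (n + 1) := by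
      rw [pow_two]
      exact powR_antitone (A := A) (B := B) (M := B) (show n + 1 ≤ n + n by omega) (powR_mul_mem hβ hβ)
    have key : (x * A₁) ^ (k + 1) - (x ^ (k + 2)) ^ (k + 1) * πd =
        x ^ (k + 1) * ((x ^ (k + 1)) ^ k * x * e * (α * (x - q * γ)) + c * β ^ 2) := by
      rw [mul_pow, show A₁ ^ (k + 1) = _ from hc, show (x ^ (k + 2)) ^ (k + 1) = x ^ (k + 1) * (x ^ (k + 1)) ^ (k + 1) by
        rw [pow_succ' x (k + 1), mul_pow]]
      have h1 : (k + 1 : B) * (x ^ (k + 1) * q) ^ k * β = -((x ^ (k + 1)) ^ k * x * ((q * γ) ^ k) * α) := by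
        simp only [β]
        linear_combination (-((x ^ (k + 1) * q) ^ k * x * γ ^ k * α)) * hir
      rw [h1, mul_pow, show q ^ (k + 1) = πd + α by simp [α]]
      linear_combination (x ^ (k + 1) * (x ^ (k + 1)) ^ k * x * α) * he
    rw [key]
    exact Ideal.mul_mem_left _ _ (add_mem (Ideal.mul_mem_left _ _ hmul) (Ideal.mul_mem_left _ _ hsq))

/-- A root of a power of a generator lifts. -/
theorem exists_root_succ (hx : φ d ∈ maximalIdeal B) (hreg : Reg2 (φ d) (ψ d') (QB B A 1))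
    (hφ : ∀ v, φ d • v = φ v • d) (hψ : ∀ v, ψ d' • v = ψ v • d') (k : ℕ) {ir γ γ' t t' πd πd' : B}
    (hir : ir * (k + 1 : B) = 1) (hγ : φ d - γ * t ∈ powR (A := A) (B := B) B 1)
    (hγ' : ψ d' - γ' * t' ∈ powR (A := A) (B := B) B 1) (hπ : ψ d' ^ (k + 1) * πd = ψ d ^ (k + 1) * πd')
    (n : ℕ) (hn : 1 ≤ n) (en : D →ₗ[B] QB B A n) {q q' : B} (hq : en d = Submodule.Quotient.mk q)
    (hq' : en d' = Submodule.Quotient.mk q') (hqt : q - t ∈ powR (A := A) (B := B) B 1)
    (hqt' : q' - t' ∈ powR (A := A) (B := B) B 1) (hqπ : q ^ (k + 1) - πd ∈ powR (A := A) (B := B) B n)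
    (hqπ' : q' ^ (k + 1) - πd' ∈ powR (A := A) (B := B) B n) :
    ∃ (c : D →ₗ[B] QB B A (n + 1)) (p p' : B), trans A D n c = en ∧ c d = Submodule.Quotient.mk p ∧
      c d' = Submodule.Quotient.mk p' ∧ p ^ (k + 1) - πd ∈ powR (A := A) (B := B) B (n + 1) ∧
      p' ^ (k + 1) - πd' ∈ powR (A := A) (B := B) B (n + 1) := by
  let x := φ d
  let y := ψ d'
  obtain ⟨A₁, hA, hAπ, hA0⟩ := exists_root_lift hφ k hir hγ n hn en hq hqt hqπ
  obtain ⟨B₁, hB, hBπ, hB0⟩ := exists_root_lift hψ k hir hγ' n hn en hq' hqt' hqπ'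
  let a : D →ₗ[B] QB B A (n + 1) := φ.smulRight (Submodule.Quotient.mk A₁)
  let b : D →ₗ[B] QB B A (n + 1) := ψ.smulRight (Submodule.Quotient.mk B₁)
  let K := x ^ (k + 2)
  let L := y ^ (k + 2)
  let w := K * (ψ d * B₁)
  let δ := L * (x * A₁) - w
  have hw : w - K * L * q ∈ powR (A := A) (B := B) B n := by
    have h := hB d
    rw [hq, ← Submodule.Quotient.mk_smul, mk_eq_mk_iff] at h
    have e : w - K * L * q = K * (ψ d * B₁ - L • q) := by simp only [w, smul_eq_mul]; ring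
    rw [e]
    exact Ideal.mul_mem_left _ _ h
  have hδn : δ ∈ powR (A := A) (B := B) B n := by
    have h := hA d
    rw [hq, ← Submodule.Quotient.mk_smul, mk_eq_mk_iff] at h
    have e : δ = L * (φ d * A₁ - K • q) - (w - K * L * q) := by simp only [δ, smul_eq_mul]; ring
    rw [e]
    exact sub_mem (Ideal.mul_mem_left _ _ h) hw
  have hpow : (w + δ) ^ (k + 1) - w ^ (k + 1) ∈ powR (A := A) (B := B) B (n + 1) := by
    have h1 : (L * (x * A₁)) ^ (k + 1) - (L * K) ^ (k + 1) * πd ∈ powR (A := A) (B := B) B (n + 1) := by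
      rw [mul_pow, mul_pow L K, mul_assoc, ← mul_sub]
      exact Ideal.mul_mem_left _ _ hAπ
    have h2 : w ^ (k + 1) - (L * K) ^ (k + 1) * πd ∈ powR (A := A) (B := B) B (n + 1) := by
      refine regular_powR_pow (hreg.reg_snd hx) (k + 1) ?_
      have e : y ^ (k + 1) * (w ^ (k + 1) - (L * K) ^ (k + 1) * πd) =
          K ^ (k + 1) * ψ d ^ (k + 1) * ((y * B₁) ^ (k + 1) - L ^ (k + 1) * πd') := by
        simp only [w, mul_pow]
        linear_combination (-(K ^ (k + 1) * L ^ (k + 1))) * hπ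
      rw [e]
      exact Ideal.mul_mem_left _ _ hBπ
    have e : (w + δ) = L * (x * A₁) := by simp [δ]
    rw [e]
    have := sub_mem h1 h2
    rwa [sub_sub_sub_cancel_right] at this
  obtain ⟨cc, hcc⟩ := exists_pow_expand w δ k
  rw [hcc] at hpow
  have hsq : δ ^ 2 ∈ powR (A := A) (B := B) B (n + 1) := by
    rw [pow_two]
    exact powR_antitone (A := A) (B := B) (M := B) (show n + 1 ≤ n + n by omega) (powR_mul_mem hδn hδn)
  have hwδ : w ^ k * δ ∈ powR (A := A) (B := B) B (n + 1) := by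
    have e : w ^ k * δ = ir * ((w ^ (k + 1) + (k + 1 : B) * w ^ k * δ + cc * δ ^ 2 - w ^ (k + 1)) - cc * δ ^ 2) := by
      linear_combination (-(w ^ k * δ)) * hir
    rw [e]
    exact Ideal.mul_mem_left _ _ (sub_mem hpow (Ideal.mul_mem_left _ _ hsq))
  have hδ : δ ∈ powR (A := A) (B := B) B (n + 1) := by
    have hd1 : γ * w - K * L * x ∈ powR (A := A) (B := B) B 1 := by
      have e : γ * w - K * L * x = γ * (w - K * L * q) + K * L * γ * (q - t) - K * L * (φ d - γ * t) := by ring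
      rw [e]
      exact sub_mem (add_mem (Ideal.mul_mem_left _ _ (powR_antitone (A := A) (B := B) (M := B) hn hw))
        (Ideal.mul_mem_left _ _ hqt)) (Ideal.mul_mem_left _ _ hγ)
    obtain ⟨e', he'⟩ := sub_dvd_pow_sub_pow (γ * w) (K * L * x) k
    have h := add_mem (Ideal.mul_mem_left (powR (A := A) (B := B) B (n + 1)) (γ ^ k) hwδ)
      (Ideal.mul_mem_left (powR (A := A) (B := B) B (n + 1)) (-e') (powR_mul_mem hδn hd1))
    have e : γ ^ k * (w ^ k * δ) + -e' * (δ * (γ * w - K * L * x)) =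
        (x ^ (k + 3)) ^ k * ((y ^ (k + 2)) ^ k * δ) := by
      have h' : (γ * w) ^ k - (K * L * x) ^ k = (γ * w - K * L * x) * e' := he'
      rw [mul_pow] at h'
      rw [show (x ^ (k + 3)) ^ k * ((y ^ (k + 2)) ^ k * δ) = (K * L * x) ^ k * δ by
        rw [← mul_assoc, ← mul_pow]
        congr 2
        simp only [K, L]
        ring]
      linear_combination δ * h'
    rw [e, ← pow_mul, ← pow_mul] at h
    exact regular_powR_pow (hreg.reg_snd hx) _ (regular_powR_pow hreg.reg _ h)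
  have hQ := reg2_powR (A := A) (M := B) hreg (n + 1)
  have hab : L • a = K • b := by
    refine LinearMap.ext fun v => hQ.reg ?_
    have hz : (L • a - K • b) d = 0 := by
      show L • φ d • (Submodule.Quotient.mk A₁ : QB B A (n + 1)) - K • ψ d • Submodule.Quotient.mk B₁ = 0
      rw [← Submodule.Quotient.mk_smul, ← Submodule.Quotient.mk_smul, ← Submodule.Quotient.mk_smul,
        ← Submodule.Quotient.mk_smul, sub_eq_zero, mk_eq_mk_iff]
      simpa [δ, w] using hδ
    rw [← sub_eq_zero, ← smul_sub]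
    show φ d • (L • a - K • b) v = 0
    rw [← map_smul, hφ, map_smul, hz, smul_zero]
  obtain ⟨c, hc⟩ := (hQ.hom (P := D)).pow (k + 2) (k + 2) a b hab
  have hcb : b = L • c := (hQ.hom (P := D)).reg.pow (k + 2) (show K • b = K • L • c by
    rw [← hab, hc, smul_comm])
  obtain ⟨p, hp⟩ := Submodule.Quotient.mk_surjective _ (c d)
  obtain ⟨p', hp'⟩ := Submodule.Quotient.mk_surjective _ (c d')
  refine ⟨c, p, p', ?_, hp.symm, hp'.symm, ?_, ?_⟩
  · refine LinearMap.ext fun v => (reg2_powR (A := A) (M := B) hreg n).reg.pow (k + 2) ?_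
    show x ^ (k + 2) • trans A D n c v = x ^ (k + 2) • en v
    rw [← hA v, ← LinearMap.smul_apply, ← map_smul, ← hc]
    rfl
  · have h : (Submodule.Quotient.mk (x * A₁) : QB B A (n + 1)) = Submodule.Quotient.mk (K * p) := by
      have h := LinearMap.congr_fun hc d
      rw [LinearMap.smul_apply, ← hp, ← Submodule.Quotient.mk_smul] at h
      exact h
    rw [mk_eq_mk_iff] at h
    obtain ⟨e', he'⟩ := sub_dvd_pow_sub_pow (x * A₁) (K * p) (k + 1)
    refine regular_powR_pow hreg.reg ((k + 2) * (k + 1)) ?_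
    have := sub_mem hAπ (Ideal.mul_mem_right e' _ h)
    rw [← he', sub_sub_sub_cancel_left, mul_pow K p, ← mul_sub, ← pow_mul] at this
    exact this
  · have h : (Submodule.Quotient.mk (y * B₁) : QB B A (n + 1)) = Submodule.Quotient.mk (L * p') := by
      have h := LinearMap.congr_fun hcb d'
      rw [LinearMap.smul_apply, ← hp', ← Submodule.Quotient.mk_smul] at h
      exact h
    rw [mk_eq_mk_iff] at h
    obtain ⟨e', he'⟩ := sub_dvd_pow_sub_pow (y * B₁) (L * p') (k + 1)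
    refine regular_powR_pow (hreg.reg_snd hx) ((k + 2) * (k + 1)) ?_
    have := sub_mem hBπ (Ideal.mul_mem_right e' _ h)
    rw [← he', sub_sub_sub_cancel_left, mul_pow L p', ← mul_sub, ← pow_mul] at this
    exact this

/-- Transition maps of the dual are surjective if a power of a generator of the closed fibre lifts. -/
theorem trans_surjective_of_root (hx : φ d ∈ maximalIdeal B) (hreg : Reg2 (φ d) (ψ d') (QB B A 1))
    (hφ : ∀ v, φ d • v = φ v • d) (hψ : ∀ v, ψ d' • v = ψ v • d') (e : D →ₗ[B] QB B A 1)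
    (he : ∀ θ : D →ₗ[B] QB B A 1, ∃ b : B, θ = b • e) (k : ℕ) (hk : IsUnit (k + 1 : B))
    (π : D → B) (hπ : ∀ (b : B) v, π (b • v) = b ^ (k + 1) * π v)
    (hρ : π d ∣ φ d ^ (k + 1)) (hρ' : π d' ∣ ψ d' ^ (k + 1)) :
    ∀ n, Function.Surjective (trans (B := B) A D n) := by
  obtain ⟨ir, hir⟩ := hk.exists_left_inv
  obtain ⟨t, ht⟩ := Submodule.Quotient.mk_surjective _ (e d)
  obtain ⟨t', ht'⟩ := Submodule.Quotient.mk_surjective _ (e d')
  obtain ⟨γ, hγ₀⟩ := he ((powR (A := A) (B := B) B 1).mkQ ∘ₗ φ)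
  obtain ⟨γ', hγ₀'⟩ := he ((powR (A := A) (B := B) B 1).mkQ ∘ₗ ψ)
  have hγ : φ d - γ * t ∈ powR (A := A) (B := B) B 1 := by
    have h := LinearMap.congr_fun hγ₀ d
    rw [LinearMap.smul_apply, ← ht, ← Submodule.Quotient.mk_smul] at h
    exact mk_eq_mk_iff.1 h
  have hγ' : ψ d' - γ' * t' ∈ powR (A := A) (B := B) B 1 := by
    have h := LinearMap.congr_fun hγ₀' d'
    rw [LinearMap.smul_apply, ← ht', ← Submodule.Quotient.mk_smul] at h
    exact mk_eq_mk_iff.1 h
  obtain ⟨ρ, hρ⟩ := hρ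
  obtain ⟨ρ', hρ'⟩ := hρ'
  obtain ⟨u, hu, hπd, hπd'⟩ := exists_unit (A := A) (k + 1) (Nat.succ_ne_zero k) hx hreg hγ hγ'
    (t := t) (t' := t') (φd' := φ d') (πd := π d) (πd' := π d') (ρ := ρ) (ρ' := ρ')
    (mk_eq_mk_iff.1 (show (Submodule.Quotient.mk (φ d • t') : QB B A 1) = Submodule.Quotient.mk (φ d' • t) by
      rw [Submodule.Quotient.mk_smul, Submodule.Quotient.mk_smul, ht, ht', ← map_smul, ← map_smul, hφ]))
    (by rw [← hπ, ← hπ, hφ]) (by rw [hρ, mul_comm]) (by rw [hρ', mul_comm])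
  obtain ⟨iu, hiu⟩ := hu.exists_left_inv
  have hπ' : ψ d' ^ (k + 1) * (iu * π d) = ψ d ^ (k + 1) * (iu * π d') := by
    have h : ψ d' ^ (k + 1) * π d = ψ d ^ (k + 1) * π d' := by rw [← hπ, ← hπ, hψ]
    linear_combination iu * h
  have hP : ∀ n, ∃ (en : D →ₗ[B] QB B A (n + 1)) (q q' : B), en d = Submodule.Quotient.mk q ∧
      en d' = Submodule.Quotient.mk q' ∧ q ^ (k + 1) - iu * π d ∈ powR (A := A) (B := B) B (n + 1) ∧
      q' ^ (k + 1) - iu * π d' ∈ powR (A := A) (B := B) B (n + 1) ∧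
      (∀ v b, en v = Submodule.Quotient.mk b → e v = Submodule.Quotient.mk b) ∧
      ∀ θ : D →ₗ[B] QB B A (n + 1), ∃ b : B, θ = b • en := by
    intro n
    induction n with
    | zero =>
      refine ⟨e, t, t', ht.symm, ht'.symm, ?_, ?_, fun v b h => h, he⟩
      · have e1 : t ^ (k + 1) - iu * π d = -(iu * (π d - u * t ^ (k + 1))) := by
          linear_combination (-(t ^ (k + 1))) * hiu
        rw [e1]
        exact neg_mem (Ideal.mul_mem_left _ _ hπd)
      · have e1 : t' ^ (k + 1) - iu * π d' = -(iu * (π d' - u * t' ^ (k + 1))) := by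
          linear_combination (-(t' ^ (k + 1))) * hiu
        rw [e1]
        exact neg_mem (Ideal.mul_mem_left _ _ hπd')
    | succ n ih =>
      obtain ⟨en, q, q', hq, hq', hqπ, hqπ', hred, hgen⟩ := ih
      have hqt : q - t ∈ powR (A := A) (B := B) B 1 :=
        mk_eq_mk_iff.1 ((hred d q hq).symm.trans ht.symm)
      have hqt' : q' - t' ∈ powR (A := A) (B := B) B 1 :=
        mk_eq_mk_iff.1 ((hred d' q' hq').symm.trans ht'.symm)
      obtain ⟨c, p, p', hct, hp, hp', hpπ, hpπ'⟩ := exists_root_succ hx hreg hφ hψ k hir hγ hγ' hπ' (n + 1)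
        n.succ_pos en hq hq' hqt hqt' hqπ hqπ'
      have hredc : ∀ v b, c v = Submodule.Quotient.mk b → e v = Submodule.Quotient.mk b := fun v b h => by
        refine hred v b ?_
        rw [← hct]
        show Submodule.factor (powR_antitone (A := A) (B := B) (M := B) (Nat.le_succ (n + 1))) (c v) = _
        rw [h]
        rfl
      refine ⟨c, p, p', hp, hp', hpπ, hpπ', hredc, fun θ => ?_⟩
      obtain ⟨b, hb⟩ := hgen (trans A D (n + 1) θ)
      obtain ⟨f, hf, hfg⟩ := exists_gr (A := A) (M := B) hreg.reg (n + 1)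
      have hmem : ∀ v, (θ - b • c) v ∈ LinearMap.range f := fun v => (hfg _).1 (by
        show trans A D (n + 1) (θ - b • c) v = 0
        rw [map_sub, map_smul, hct, hb, sub_self]
        rfl)
      let η := (LinearEquiv.ofInjective f hf).symm.toLinearMap ∘ₗ LinearMap.codRestrict _ _ hmem
      have hη : ∀ v, f (η v) = (θ - b • c) v := fun v =>
        congrArg Subtype.val ((LinearEquiv.ofInjective f hf).apply_symm_apply ⟨_, hmem v⟩)
      haveI : Module.Finite A ↥(maximalIdeal A ^ (n + 1)) := Module.Finite.iff_fg.2 (IsNoetherian.noetherian _)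
      obtain ⟨r', ⟨E⟩⟩ :=
        nonempty_tensor_equiv_pi (B := B) (N := QB B A 1) smul_eq_zero_quot ↥(maximalIdeal A ^ (n + 1))
      choose g hg using fun i : Fin r' => he ((LinearMap.proj i ∘ₗ E.toLinearMap) ∘ₗ η)
      obtain ⟨Γ, hΓ⟩ := Submodule.Quotient.mk_surjective _
        (f (E.symm fun i => (Submodule.Quotient.mk (g i) : QB B A 1)))
      refine ⟨b + Γ, LinearMap.ext fun v => ?_⟩
      obtain ⟨cv, hcv⟩ := Submodule.Quotient.mk_surjective _ (c v)
      have h2 : η v = cv • E.symm fun i => (Submodule.Quotient.mk (g i) : QB B A 1) := by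
        rw [← map_smul]
        refine E.eq_symm_apply.2 (funext fun i => ?_)
        have h := LinearMap.congr_fun (hg i) v
        simp only [LinearMap.comp_apply, LinearMap.proj_apply, LinearEquiv.coe_coe, LinearMap.smul_apply] at h
        rw [Pi.smul_apply, h, hredc v cv hcv.symm, ← Submodule.Quotient.mk_smul, ← Submodule.Quotient.mk_smul,
          smul_eq_mul, smul_eq_mul, mul_comm]
      have h3 := hη v
      rw [h2, map_smul, ← hΓ, LinearMap.sub_apply, LinearMap.smul_apply, eq_sub_iff_add_eq] at h3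
      rw [add_smul, LinearMap.add_apply, LinearMap.smul_apply, LinearMap.smul_apply, ← h3, ← hcv]
      simp only [← Submodule.Quotient.mk_smul, ← Submodule.Quotient.mk_add, smul_eq_mul]
      congr 1
      ring
  intro n θ
  rcases n with _ | n
  · haveI : Subsingleton (QB B A 0) := Submodule.Quotient.subsingleton_iff.2 (by simp [powR, Ideal.map_top])
    exact ⟨0, LinearMap.ext fun _ => Subsingleton.elim _ _⟩
  obtain ⟨en, q, q', hq, hq', hqπ, hqπ', hred, hgen⟩ := hP n
  obtain ⟨b, rfl⟩ := hgen θ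
  have hqt : q - t ∈ powR (A := A) (B := B) B 1 := mk_eq_mk_iff.1 ((hred d q hq).symm.trans ht.symm)
  have hqt' : q' - t' ∈ powR (A := A) (B := B) B 1 := mk_eq_mk_iff.1 ((hred d' q' hq').symm.trans ht'.symm)
  obtain ⟨c, _, _, hct, -⟩ := exists_root_succ hx hreg hφ hψ k hir hγ hγ' hπ' (n + 1) n.succ_pos en hq hq'
    hqt hqt' hqπ hqπ'
  exact ⟨b • c, by rw [map_smul, hct]⟩

/-- Avoiding finitely many primes by a value of a bilinear map. -/
theorem exists_apply_notMem {M N : Type u} [AddCommGroup M] [Module B M] [AddCommGroup N] [Module B N]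
    (β : M →ₗ[B] N →ₗ[B] B) (P : Finset (Ideal B)) (hP : ∀ p ∈ P, p.IsPrime)
    (hβ : ∀ p ∈ P, ∃ m n, β m n ∉ p) : ∃ m n, ∀ p ∈ P, β m n ∉ p := by
  classical
  let P' := P.filter fun p => ∀ q ∈ P, p ≤ q → q ≤ p
  have hmax : ∀ p ∈ P, ∃ q ∈ P', p ≤ q := by
    intro p hp
    obtain ⟨q, hpq, hq⟩ := P.exists_le_maximal hp
    exact ⟨q, Finset.mem_filter.2 ⟨hq.1, fun q' hq' h => hq.2 hq' h⟩, hpq⟩
  have hs : ∀ p ∈ P', ∃ s : B, s ∉ p ∧ ∀ q ∈ P', q ≠ p → s ∈ q := by
    intro p hp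
    have hpP := (Finset.mem_filter.1 hp).1
    have : ¬ (P'.erase p).inf id ≤ p := by
      rw [Ideal.IsPrime.inf_le' (hP p hpP)]
      rintro ⟨q, hq, hqp⟩
      obtain ⟨hne, hq⟩ := Finset.mem_erase.1 hq
      exact hne (le_antisymm hqp ((Finset.mem_filter.1 hq).2 p hpP hqp))
    obtain ⟨s, hs, hsp⟩ := Set.not_subset.1 this
    exact ⟨s, hsp, fun q hq hne => (Submodule.mem_finsetInf.1 hs) q (Finset.mem_erase.2 ⟨hne, hq⟩)⟩
  choose! s hs1 hs2 using hs
  choose! m n hmn using hβ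
  refine ⟨∑ p ∈ P', s p • m p, ∑ p ∈ P', s p • n p, fun p hp => ?_⟩
  obtain ⟨q, hq, hpq⟩ := hmax p hp
  refine fun h => ?_
  have hqP := (Finset.mem_filter.1 hq).1
  haveI := hP q hqP
  have h' := hpq h
  rw [map_sum β, LinearMap.sum_apply, ← Finset.add_sum_erase _ _ hq, map_sum,
    ← Finset.add_sum_erase _ _ hq] at h'
  have e1 : ∀ i ∈ P'.erase q, β (s q • m q) (s i • n i) ∈ q := fun i hi => by
    rw [map_smul, smul_eq_mul]
    exact Ideal.mul_mem_right _ _ (hs2 i (Finset.mem_erase.1 hi).2 q hq (Finset.mem_erase.1 hi).1.symm)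
  have e2 : ∀ i ∈ P'.erase q, β (s i • m i) (∑ j ∈ P', s j • n j) ∈ q := fun i hi => by
    rw [map_smul, LinearMap.smul_apply, smul_eq_mul]
    exact Ideal.mul_mem_right _ _ (hs2 i (Finset.mem_erase.1 hi).2 q hq (Finset.mem_erase.1 hi).1.symm)
  have h2 := (Submodule.add_mem_iff_left _ (sum_mem e1)).1 ((Submodule.add_mem_iff_left _ (sum_mem e2)).1 h')
  rw [map_smul, map_smul, LinearMap.smul_apply, smul_eq_mul, smul_eq_mul] at h2
  rcases (hP q hqP).mem_or_mem h2 with h3 | h3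
  · exact hs1 q hq h3
  rcases (hP q hqP).mem_or_mem h3 with h4 | h4
  · exact hs1 q hq h4
  · exact hmn q hqP h4

end Groth.Agent.H4Rel.Lift
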