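import Groth.Agent.H4Rel.ExtCM
import Groth.Agent.H4Rel.HomExt
import Groth.Agent.H4Rel.DepthThreeApply
import Groth.Agent.H24Hilb.HomSplit
import Groth.Agent.H29Ref.StalkRestrict
import Groth.Agent.H10Coh.Affine

/-!
# Self-extensions of the dualizing sheaf over `(S₃)` fibres
-/

set_option autoImplicit false
set_option linter.style.haveILetI false
set_option linter.unusedSectionVars false
set_option backward.isDefEq.respectTransparency false
set_option maxHeartbeats 1000000
set_option synthInstance.maxHeartbeats 400000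

universe u

open CategoryTheory CategoryTheory.Limits AlgebraicGeometry IsLocalRing TopologicalSpace
open Groth.Agent.H16Derived

attribute [local instance] HasDerivedCategory.standard

namespace Groth.Agent.H4Rel

/-- Stalks of restrictions, semilinearly. -/
theorem exists_semilinear_restrict_stalk {X : Scheme.{u}} (U : X.Opens) (K : X.Modules) (z : ↥(U : Scheme.{u})) :
    ∃ (τ : (U : Scheme.{u}).presheaf.stalk z ≃+* X.presheaf.stalk z.1)
      (T : (K.restrict U.ι).presheaf.stalk z ≃+ K.presheaf.stalk z.1), ∀ a v, T (a • v) = τ a • T v := by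
  let N := (K.restrict U.ι).presheaf.stalk z
  let σ : X.presheaf.stalk z.1 ≃+* (U : Scheme.{u}).presheaf.stalk z :=
    RingEquiv.ofBijective (U.ι.stalkMap z).hom (ConcreteCategory.bijective_of_isIso (U.ι.stalkMap z))
  let E : N ≃+ K.presheaf.stalk z.1 :=
    ((Scheme.Modules.restrictStalkNatIso U.ι z).app K).addCommGroupIsoToAddEquiv
  have key : ∀ (a : (U : Scheme.{u}).presheaf.stalk z) (v : N), E (a • v) = σ.symm a • E v := by
    intro a v
    obtain ⟨W, hzW, r, m, rfl, rfl⟩ : ∃ (W : (U : Scheme.{u}).Opens) (hz : z ∈ W)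
        (r : Γ((U : Scheme.{u}), W)) (m : Γ(K.restrict U.ι, W)),
        (U : Scheme.{u}).presheaf.germ W z hz r = a ∧ (K.restrict U.ι).presheaf.germ W z hz m = v := by
      obtain ⟨W₁, h₁, r, rfl⟩ := TopCat.Presheaf.exists_germ_eq (U : Scheme.{u}).presheaf a
      obtain ⟨W₂, h₂, m, rfl⟩ := TopCat.Presheaf.exists_germ_eq (K.restrict U.ι).presheaf v
      exact ⟨W₁ ⊓ W₂, ⟨h₁, h₂⟩, _, _,
        TopCat.Presheaf.germ_res_apply (U : Scheme.{u}).presheaf (homOfLE inf_le_left) z ⟨h₁, h₂⟩ r,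
        H29Ref.germ_res (K.restrict U.ι) inf_le_right z ⟨h₁, h₂⟩ m⟩
    have hg : ∀ m' : Γ(K.restrict U.ι, W), E ((K.restrict U.ι).presheaf.germ W z hzW m') =
        K.presheaf.germ (U.ι ''ᵁ W) z.1 ⟨z, hzW, rfl⟩ m' :=
      fun m' => congr($(Scheme.Modules.germ_restrictStalkNatIso_hom_app U.ι z K (U := W) hzW) m')
    rw [← Mero.germ_smul, hg, hg]
    let mm : Γ(K, U.ι ''ᵁ W) := m
    rw [show (r • m : Γ(K.restrict U.ι, W)) = ((U.ι.appIso W).inv r • mm : Γ(K, U.ι ''ᵁ W)) from rfl,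
      Mero.germ_smul]
    congr 1
    refine σ.injective ?_
    rw [σ.apply_symm_apply]
    show U.ι.stalkMap z (X.presheaf.germ (U.ι ''ᵁ W) (U.ι z) ⟨z, hzW, rfl⟩ ((U.ι.appIso W).inv r)) = _
    rw [Scheme.Hom.germ_stalkMap_apply]
    have h1 := congr($(U.ι.appIso_inv_app W) r)
    rw [ConcreteCategory.comp_apply] at h1
    rw [h1, TopCat.Presheaf.germ_res_apply]
  exact ⟨σ.symm, E, key⟩

/-- Extensions vanishing away from `J` vanish under a condition of depth three. -/
theorem extends_of_depth {B : Type u} [CommRing B] {M C : Type u} [AddCommGroup M] [Module B M] [AddCommGroup C]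
    [Module B C] {J : Ideal B} {x y w : B} (hx : x ∈ J) (hy : y ∈ J) (hw : w ∈ J) (hC : Lift.Reg2 x y C)
    (hN : Lift.Reg3 x y w (M →ₗ[B] C))
    (htors : ∀ (k : ℕ) (s : (Fin k → B) →ₗ[B] M), Function.Surjective s → ∀ θ : LinearMap.ker s →ₗ[B] C,
      ∀ g ∈ J, ∃ (K : ℕ) (e : (Fin k → B) →ₗ[B] C), ∀ v : LinearMap.ker s, e v = g ^ K • θ v) :
    Extends B M C := by
  intro k s hs θ
  obtain ⟨K, a, ha⟩ := htors k s hs θ x hx
  obtain ⟨L, b, hb⟩ := htors k s hs θ y hy
  obtain ⟨M', c, hc⟩ := htors k s hs θ w hw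
  have desc : ∀ φ : (Fin k → B) →ₗ[B] C, (∀ v : LinearMap.ker s, φ v = 0) →
      ∃ ψ : M →ₗ[B] C, ψ ∘ₗ s = φ := fun φ hφ =>
    ⟨(LinearMap.ker s).liftQ φ (fun v hv => hφ ⟨v, hv⟩) ∘ₗ
      (LinearMap.quotKerEquivOfSurjective s hs).symm.toLinearMap, LinearMap.ext fun v => by
      have : (LinearMap.quotKerEquivOfSurjective s hs).symm (s v) = Submodule.Quotient.mk v :=
        (LinearEquiv.symm_apply_eq _).2 rfl
      simp [this]⟩
  obtain ⟨p₁, hp₁⟩ := desc (y ^ L • a - x ^ K • b) fun v => by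
    rw [LinearMap.sub_apply, LinearMap.smul_apply, LinearMap.smul_apply, ha v, hb v, smul_comm, sub_self]
  obtain ⟨p₂, hp₂⟩ := desc (w ^ M' • a - x ^ K • c) fun v => by
    rw [LinearMap.sub_apply, LinearMap.smul_apply, LinearMap.smul_apply, ha v, hc v, smul_comm, sub_self]
  obtain ⟨p₃, hp₃⟩ := desc (w ^ M' • b - y ^ L • c) fun v => by
    rw [LinearMap.sub_apply, LinearMap.smul_apply, LinearMap.smul_apply, hb v, hc v, smul_comm, sub_self]
  have e : w ^ M' • p₁ = x ^ K • (-p₃) + y ^ L • p₂ := by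
    refine LinearMap.ext fun d => ?_
    obtain ⟨v, rfl⟩ := hs d
    have h₁ := LinearMap.congr_fun hp₁ v
    have h₂ := LinearMap.congr_fun hp₂ v
    have h₃ := LinearMap.congr_fun hp₃ v
    simp only [LinearMap.comp_apply, LinearMap.sub_apply, LinearMap.smul_apply] at h₁ h₂ h₃
    simp only [LinearMap.add_apply, LinearMap.smul_apply, LinearMap.neg_apply, h₁, h₂, h₃]
    module
  obtain ⟨p, q, hpq⟩ := hN.pow M' K L _ _ _ e
  have e' : y ^ L • (a - q ∘ₗ s) = x ^ K • (b + p ∘ₗ s) := by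
    rw [smul_sub, smul_add, sub_eq_iff_eq_add, add_assoc, ← LinearMap.smul_comp, ← LinearMap.smul_comp,
      ← LinearMap.add_comp, ← hpq, hp₁, add_sub_cancel]
  obtain ⟨d, hd⟩ := (hC.hom (P := Fin k → B)).pow K L _ _ e'
  refine ⟨d, fun v => hC.reg.pow K ?_⟩
  show x ^ K • d v = x ^ K • θ v
  rw [← LinearMap.smul_apply, ← hd, LinearMap.sub_apply, LinearMap.comp_apply, LinearMap.mem_ker.1 v.2, map_zero,
    sub_zero, ha]

variable (A : Type u) [CommRing A] [IsNoetherianRing A] (Y : Scheme.{u}) [Y.Over (Spec (CommRingCat.of A))]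
  [IsProper (Y ↘ Spec (CommRingCat.of A))] (d : ℕ)
  (hS : RelCanon.IsSkMor (Y ↘ Spec (CommRingCat.of A)) 2)
  (hS3 : ∀ y : Y, RelCanon.SkAt 3 (Coh.structureModule ((Y ↘ Spec (CommRingCat.of A)).fiber ((Y ↘ Spec (CommRingCat.of A)) y))) ((Y ↘ Spec (CommRingCat.of A)).asFiber y))

include hS hS3 in
/-- Off the Cohen–Macaulay locus of a family with `(S₃)` fibres the depth is three. -/
theorem three_le_depth_stalk (y : Y) (hy : ¬ MoreMor.IsCMAt (Y ↘ Spec (CommRingCat.of A)) y) :
    2 ≤ fibDim A Y y ∧ (3 : ℕ∞) ≤ LocCoh.depth (Y.presheaf.stalk y) (Y.presheaf.stalk y) := by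
  let f := Y ↘ Spec (CommRingCat.of A)
  haveI : Flat f := hS.1
  haveI := isNoetherian_of_proper A Y
  haveI : IsLocallyNoetherian (f.fiber (f y)) :=
    haveI := H8Props.FieldDim.locallyOfFiniteType_fiberToSpec f (f y)
    LocallyOfFiniteType.isLocallyNoetherian (f.fiberToSpecResidueField (f y))
  let C := (f.fiber (f y)).presheaf.stalk (f.asFiber y)
  have h : LocCoh.HasSk 3 C ((Coh.structureModule (f.fiber (f y))).presheaf.stalk (f.asFiber y)) := hS3 y
  have h3 := depth_at_closed_point' 3 _ h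
  rw [Module.supportDim_eq_of_equiv (H29Ref.unitEquiv (X := f.fiber (f y)) (f.asFiber y)).symm,
    Module.supportDim_self_eq_ringKrullDim,
    H4Depth.depth_congr (H29Ref.unitEquiv (X := f.fiber (f y)) (f.asFiber y)).symm] at h3
  have hlt : ((3 : ℕ) : WithBot ℕ∞) < ringKrullDim C := by
    by_contra hle
    rw [min_eq_right (not_lt.1 hle)] at h3
    refine hy ⟨Flat.stalkMap f y, ?_⟩
    exact { supportDim_eq_depth := by
              rw [Module.supportDim_self_eq_ringKrullDim]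
              exact le_antisymm h3 (H8Props.FlatDepth.depth_le_dim _) }
  refine ⟨(Nat.cast_le (α := WithBot ℕ∞).2 (show 2 ≤ 3 by norm_num)).trans hlt.le, ?_⟩
  rw [min_eq_left hlt.le] at h3
  have h3' : (3 : ℕ∞) ≤ LocCoh.depth C C := WithBot.coe_le_coe.1 ((le_of_eq (by rfl)).trans h3)
  letI := (f.stalkMap y).hom.toAlgebra
  haveI : IsLocalHom (algebraMap ((Spec (CommRingCat.of A)).presheaf.stalk (f y)) (Y.presheaf.stalk y)) :=
    inferInstanceAs (IsLocalHom (f.stalkMap y).hom)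
  haveI : Module.Flat ((Spec (CommRingCat.of A)).presheaf.stalk (f y)) (Y.presheaf.stalk y) := Flat.stalkMap f y
  haveI : IsLocalRing (Y.presheaf.stalk y ⧸
      (IsLocalRing.maximalIdeal ((Spec (CommRingCat.of A)).presheaf.stalk (f y))).map
        (algebraMap ((Spec (CommRingCat.of A)).presheaf.stalk (f y)) (Y.presheaf.stalk y))) :=
    (H8Props.FibreStalk.asFiberStalkEquiv f y).symm.isLocalRing
  rw [H8Props.FlatDepth.depth_eq_add ((Spec (CommRingCat.of A)).presheaf.stalk (f y)) (Y.presheaf.stalk y)]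
  refine le_trans ?_ le_add_self
  refine h3'.trans_eq ?_
  exact (LeadBrown.Rel.depth_eq_of_ringEquiv (R := Y.presheaf.stalk y ⧸
      (IsLocalRing.maximalIdeal ((Spec (CommRingCat.of A)).presheaf.stalk (f y))).map
        (algebraMap ((Spec (CommRingCat.of A)).presheaf.stalk (f y)) (Y.presheaf.stalk y)))
    (S := C) (H8Props.FibreStalk.asFiberStalkEquiv f y))

variable (hd : Cyc.HasRelDim (Y ↘ Spec (CommRingCat.of A)) d) {ω : Y.Modules}
  (hω : RelCanon.IsDualizingSheaf A Y d ω)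

include hS hS3 hd hω in
/-- `Ext¹(ω, ω) = 0` at every point. -/
theorem extends_stalk_of_S3 (y : Y) :
    Extends (Y.presheaf.stalk y) (ω.presheaf.stalk y) (ω.presheaf.stalk y) := by
  let f := Y ↘ Spec (CommRingCat.of A)
  haveI : Flat f := hS.1
  haveI := isNoetherian_of_proper A Y
  haveI : LocallyOfFinitePresentation f := inferInstance
  by_cases hyU : MoreMor.IsCMAt f y
  · exact extends_stalk A Y d hS.1 hd hω y hyU
  let U : Y.Opens := ⟨_, (S1341.result f).1⟩
  obtain ⟨hcoh, hdep⟩ := isCoh_and_two_le_depth A Y d hd hω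
  let B := Y.presheaf.stalk y
  let M := ω.presheaf.stalk y
  haveI : Module.Finite B M := H06Mod.finite_stalk _ hcoh.2 y
  let J := PrimeSpectrum.vanishingIdeal (Y.fromSpecStalk y ⁻¹' (U : Set Y)ᶜ)
  have hJ1 : ∀ q : PrimeSpectrum B, ¬ J ≤ q.asIdeal → Y.fromSpecStalk y q ∈ U := fun q hq => by
    by_contra hc
    exact hq fun a ha => (PrimeSpectrum.mem_vanishingIdeal _ _).1 ha q hc
  have hJ2 : ∀ q : PrimeSpectrum B, J ≤ q.asIdeal → Y.fromSpecStalk y q ∉ U := fun q hq => by
    have h : q ∈ PrimeSpectrum.zeroLocus (J : Set B) := hq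
    have hc : IsClosed (Y.fromSpecStalk y ⁻¹' (U : Set Y)ᶜ : Set (PrimeSpectrum B)) :=
      U.2.isClosed_compl.preimage (Y.fromSpecStalk y).continuous
    rw [PrimeSpectrum.zeroLocus_vanishingIdeal_eq_closure] at h
    exact hc.closure_subset h
  have hJm : J ≤ maximalIdeal B := fun a ha => by
    have hc : Y.fromSpecStalk y (closedPoint B) ∉ U := by rw [Scheme.fromSpecStalk_closedPoint]; exact hyU
    exact (PrimeSpectrum.mem_vanishingIdeal _ _).1 ha (closedPoint B) hc
  have hJ : J ≠ ⊤ := ne_top_of_le_ne_top (maximalIdeal.isMaximal B).ne_top hJm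
  -- `Hom(ω, ω) = O`
  obtain ⟨eH⟩ := nonempty_homSh_self A Y d hd hω hS
  let LN : (M →ₗ[B] M) ≃ₗ[B] (Coh.structureModule Y).presheaf.stalk y :=
    (LinearEquiv.ofBijective (RefHull.evalStalk ω ω y)
      (H29Ref.evalStalk_bijective ω ω (H10Coh.isFP_of_isCoh ω hcoh) y)).symm.trans (H06EGA9.stalkIso eH y)
  have hdM : (2 : ℕ∞) ≤ LocCoh.idealDepth J M := by
    rw [H4Depth.idealDepth_eq_iInf_depth_localization]
    refine le_iInf₂ fun p hp => ?_
    have hspec := H7CDiv.fromSpecStalk_specializes p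
    have h := hdep _ (three_le_depth_stalk A Y hS hS3 _ (hJ2 p hp)).1
    rw [← depth_localizedModule_stalk ω hcoh.1 hspec] at h
    rw [← H7CDiv.primeOf_fromSpecStalk p hspec]
    exact h
  haveI : Module.Finite B ((Coh.structureModule Y).presheaf.stalk y) :=
    H06Mod.finite_stalk _ (H10Coh.isCoh_structureModule' Y).2 y
  have hdN : (3 : ℕ∞) ≤ LocCoh.idealDepth J ((Coh.structureModule Y).presheaf.stalk y) := by
    rw [H4Depth.idealDepth_eq_iInf_depth_localization]
    refine le_iInf₂ fun p hp => ?_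
    have hspec := H7CDiv.fromSpecStalk_specializes p
    have h := (three_le_depth_stalk A Y hS hS3 _ (hJ2 p hp)).2
    rw [H4Depth.depth_congr (H29Ref.unitEquiv (X := Y) _),
      ← depth_localizedModule_stalk _ (H10Coh.isCoh_structureModule' Y).1 hspec] at h
    rw [← H7CDiv.primeOf_fromSpecStalk p hspec]
    exact h
  haveI : Nontrivial ((Coh.structureModule Y).presheaf.stalk y) :=
    (H29Ref.unitEquiv (X := Y) y).toEquiv.symm.nontrivial
  rcases subsingleton_or_nontrivial M with hM | hM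
  · exact fun k s hs θ => ⟨0, fun v => Subsingleton.elim _ _⟩
  obtain ⟨a, b, c, ha, hb, hc, h2, h3⟩ := exists_reg3 J hJ hdM hdN
  refine extends_of_depth ha hb hc h2 (h3.congr LN.symm) fun k s hs θ g hg => ?_
  obtain ⟨cls, -, hcls⟩ := H4LC.exists_class_one (K := M) s hs
  obtain ⟨K, hK⟩ := isTors_of_forall J (cls θ) (fun q hq => by
    let η := Y.fromSpecStalk y q
    have hηy : η ⤳ y := H7CDiv.fromSpecStalk_specializes q
    let P := (H7CDiv.primeOf hηy).asIdeal
    letI := (Y.presheaf.stalkSpecializes hηy).hom.toAlgebra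
    letI := Module.compHom (ω.presheaf.stalk η) (Y.presheaf.stalkSpecializes hηy).hom
    haveI := H7CDiv.isLocalization_stalkSpecializes hηy
    haveI := isLocalizedModule_specLin ω hcoh.1 hηy
    let L := Localization.AtPrime P
    let σ := IsLocalization.algEquiv P.primeCompl L (Y.presheaf.stalk η)
    letI : Module L (ω.presheaf.stalk η) := Module.compHom _ σ.toRingEquiv.toRingHom
    haveI : IsScalarTower B L (ω.presheaf.stalk η) := .of_algebraMap_smul fun r m => by
      show σ (algebraMap _ _ r) • m = r • m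
      rw [AlgEquiv.commutes]; rfl
    let N := ModuleCat.of B M
    haveI := ModuleCat.localizedModule_isLocalizedModule N P.primeCompl
    let T := (IsLocalizedModule.linearEquiv P.primeCompl (specLin ω hηy)
      (N.localizedModuleMkLinearMap P.primeCompl)).extendScalarsOfIsLocalization P.primeCompl L
    have hη : Extends (Y.presheaf.stalk η) (ω.presheaf.stalk η) (ω.presheaf.stalk η) :=
      extends_stalk A Y d hS.1 hd hω η (hJ1 q hq)
    have hL : Extends L (ω.presheaf.stalk η) (ω.presheaf.stalk η) :=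
      extends_of_semilinear σ.symm.toRingEquiv (AddEquiv.refl _)
        (fun r v => by
          show r • v = σ (σ.symm r) • v
          rw [σ.apply_symm_apply]) hη
    haveI : Module.Finite L (N.localizedModule P.primeCompl) :=
      Module.Finite.of_isLocalizedModule P.primeCompl (N.localizedModuleMkLinearMap P.primeCompl)
    have hL' := subsingleton_ext_of_extends
      (extends_of_semilinear (RingEquiv.refl L) T.toAddEquiv (fun r v => map_smul T r v) hL)
    obtain ⟨s', hs'⟩ := (H3CAlg.ext_localization_zero_iff P.primeCompl N N 1 (cls θ)).1 (hL'.elim _ _)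
    exact ⟨s'.1, fun hq' => s'.2 ((congrArg (fun p : PrimeSpectrum B => s'.1 ∈ p.asIdeal)
      (H7CDiv.primeOf_fromSpecStalk q hηy)).mpr hq'), hs'⟩) g hg
  rw [← map_smul] at hK
  obtain ⟨e, he⟩ := (hcls (g ^ K • θ)).1 hK
  exact ⟨K, e, fun v => LinearMap.congr_fun he v⟩

include hS hS3 hd hω in
/-- Extensions of `ω` by itself split on affine opens. -/
theorem exists_section_affine (W : Y.Opens) (hW : IsAffineOpen W) (S : ShortComplex (W : Scheme.{u}).Modules)
    (hSe : S.ShortExact) (e₁ : S.X₁ ≅ ω.restrict W.ι) (e₃ : S.X₃ ≅ ω.restrict W.ι) :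
    ∃ s : S.X₃ ⟶ S.X₂, s ≫ S.g = 𝟙 _ := by
  haveI := isNoetherian_of_proper A Y
  haveI : IsAffine (W : Scheme.{u}) := hW
  obtain ⟨hcoh, -⟩ := isCoh_and_two_le_depth A Y d hd hω
  have hF : Coh.IsCoh (ω.restrict W.ι) := H10Coh.isCoh_of_iso
    ((Scheme.Modules.restrictFunctorIsoPullback W.ι).app ω).symm (isCohPull W.ι hcoh)
  have h3 : Coh.IsCoh S.X₃ := H10Coh.isCoh_of_iso e₃.symm hF
  have h1 : Coh.IsCoh S.X₁ := H10Coh.isCoh_of_iso e₁.symm hF
  have hfp := H10Coh.isFP_of_isCoh _ h3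
  haveI := H10Coh.SheafHom.hasSheafHom S.X₃
  haveI : (RefHull.homSh S.X₃ S.X₁).IsQuasicoherent := H29Ref.isQCoh_homSh _ _ hfp h1.1
  haveI : ((DCoh.sheafHom S.X₃).obj S.X₁).IsQuasicoherent :=
    H10Coh.isQuasicoherent_of_iso (H10Coh.SheafHom.homShIso S.X₃ S.X₁).symm
  refine H24Hilb.exists_section_of_stalkwise hSe hfp (fun x => ?_)
    (H10Coh.subsingleton_HH_of_isAffine _ one_pos)
  obtain ⟨τ, T, hT⟩ := exists_semilinear_restrict_stalk W ω x
  let u₁ := H06EGA9.stalkIso e₁ x
  let u₃ := H06EGA9.stalkIso e₃ x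
  have hF' : Extends ((W : Scheme.{u}).presheaf.stalk x) ((ω.restrict W.ι).presheaf.stalk x)
      ((ω.restrict W.ι).presheaf.stalk x) :=
    extends_of_semilinear τ.symm T.symm (fun r v => T.injective (by
      rw [T.apply_symm_apply, hT, τ.apply_symm_apply, T.apply_symm_apply]))
      (extends_stalk_of_S3 A Y d hS hS3 hd hω x.1)
  haveI : Module.Finite ((W : Scheme.{u}).presheaf.stalk x) (S.X₃.presheaf.stalk x) := H06Mod.finite_stalk _ h3.2 x
  obtain ⟨k, s, hs⟩ := Module.Finite.exists_fin' ((W : Scheme.{u}).presheaf.stalk x) (S.X₃.presheaf.stalk x)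
  obtain ⟨l, hl⟩ := Module.projective_lifting_property (H06Mod.stalkLin S.g x) s (H06Mod.stalk_surjective S hSe x)
  let i := H06Mod.stalkLin S.f x
  have hi : Function.Injective i := H06Mod.stalk_injective S hSe x
  have hmem : ∀ v : LinearMap.ker (u₃.toLinearMap ∘ₗ s),
      (l ∘ₗ (LinearMap.ker (u₃.toLinearMap ∘ₗ s)).subtype) v ∈ LinearMap.range i := fun v =>
    (H06Mod.stalk_exact S hSe x _).1 (by
      show H06Mod.stalkLin S.g x (l v) = 0
      have := LinearMap.congr_fun hl (v : Fin k → (W : Scheme.{u}).presheaf.stalk x)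
      rw [LinearMap.comp_apply] at this
      rw [this]
      exact u₃.injective ((LinearMap.mem_ker.1 v.2).trans (map_zero _).symm))
  let θ₁ := (LinearEquiv.ofInjective i hi).symm.toLinearMap ∘ₗ LinearMap.codRestrict _ _ hmem
  have hθ₁ : ∀ v, i (θ₁ v) = l v := fun v =>
    congrArg Subtype.val ((LinearEquiv.ofInjective i hi).apply_symm_apply ⟨_, hmem v⟩)
  obtain ⟨e, he⟩ := hF' k (u₃.toLinearMap ∘ₗ s) (u₃.surjective.comp hs) (u₁.toLinearMap ∘ₗ θ₁)
  let ψ := l - i ∘ₗ u₁.symm.toLinearMap ∘ₗ e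
  have hψ : ∀ v ∈ LinearMap.ker s, ψ v = 0 := fun v hv => by
    have hv' : v ∈ LinearMap.ker (u₃.toLinearMap ∘ₗ s) := by
      simp only [LinearMap.mem_ker, LinearMap.comp_apply, LinearMap.mem_ker.1 hv, map_zero]
    show l v - i (u₁.symm (e v)) = 0
    rw [he ⟨v, hv'⟩, LinearMap.comp_apply, LinearEquiv.coe_coe, u₁.symm_apply_apply, hθ₁, sub_self]
  refine ⟨(LinearMap.ker s).liftQ ψ hψ ∘ₗ (LinearMap.quotKerEquivOfSurjective s hs).symm.toLinearMap, fun w => ?_⟩
  obtain ⟨v, rfl⟩ := hs w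
  have h : (LinearMap.quotKerEquivOfSurjective s hs).symm (s v) = Submodule.Quotient.mk v :=
    (LinearEquiv.symm_apply_eq _).2 rfl
  rw [LinearMap.comp_apply, LinearEquiv.coe_coe, h, Submodule.liftQ_apply]
  show H06Mod.stalkLin S.g x (l v - i (u₁.symm (e v))) = s v
  have h0 : H06Mod.stalkLin S.g x (i (u₁.symm (e v))) = 0 := (H06Mod.stalk_exact S hSe x _).2 ⟨_, rfl⟩
  rw [map_sub, h0, sub_zero]
  exact LinearMap.congr_fun hl v

end Groth.Agent.H4Rel
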