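import Groth.Agent.H4Rel.FullSupp
import Groth.Agent.H7CDiv.Stalks
import Groth.Agent.H4Rel.Lift
import Groth.Agent.H4Depth.LocDepth
import Groth.Agent.H15Site.LocCohDepth

/-!
# Stalks at generisations and regular pairs
-/

set_option autoImplicit false
set_option linter.style.haveILetI false
set_option linter.unusedSectionVars false
set_option backward.isDefEq.respectTransparency false
set_option maxHeartbeats 1000000
set_option synthInstance.maxHeartbeats 400000

universe u

open CategoryTheory CategoryTheory.Limits AlgebraicGeometry TopologicalSpace IsLocalRing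

namespace Groth.Agent.H4Rel

open Groth.Agent.H17.AssPts Groth.Agent.H17.ZDepth

variable {X : Scheme.{u}} (F : X.Modules)

/-- Specialisation of stalks is semilinear. -/
theorem spec_smul {η y : X} (h : η ⤳ y) (a : X.presheaf.stalk y) (v : F.presheaf.stalk y) :
    F.presheaf.stalkSpecializes h (a • v) =
      (X.presheaf.stalkSpecializes h a) • F.presheaf.stalkSpecializes h v := by
  obtain ⟨W₁, h₁, r, rfl⟩ := TopCat.Presheaf.exists_germ_eq X.presheaf a
  obtain ⟨W₂, h₂, m, rfl⟩ := TopCat.Presheaf.exists_germ_eq F.presheaf v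
  rw [← TopCat.Presheaf.germ_res_apply X.presheaf (homOfLE (inf_le_left : W₁ ⊓ W₂ ≤ W₁)) y ⟨h₁, h₂⟩ r,
    ← TopCat.Presheaf.germ_res_apply F.presheaf (homOfLE (inf_le_right : W₁ ⊓ W₂ ≤ W₂)) y ⟨h₁, h₂⟩ m,
    ← Mero.germ_smul, germ_spec_mod, germ_spec_ring, germ_spec_mod, Mero.germ_smul]

/-- The specialisation map of stalks as a linear map. -/
noncomputable def specLin {η y : X} (h : η ⤳ y) :
    letI := (X.presheaf.stalkSpecializes h).hom.toAlgebra
    letI := Module.compHom (F.presheaf.stalk η) (X.presheaf.stalkSpecializes h).hom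
    F.presheaf.stalk y →ₗ[X.presheaf.stalk y] F.presheaf.stalk η :=
  letI := (X.presheaf.stalkSpecializes h).hom.toAlgebra
  letI := Module.compHom (F.presheaf.stalk η) (X.presheaf.stalkSpecializes h).hom
  { toFun := F.presheaf.stalkSpecializes h
    map_add' := map_add _
    map_smul' := fun a v => spec_smul F h a v }

/-- The stalk at a generisation is the localisation of the stalk. -/
theorem isLocalizedModule_specLin (hF : Coh.IsQCoh F) {η y : X} (h : η ⤳ y) :
    letI := (X.presheaf.stalkSpecializes h).hom.toAlgebra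
    letI := Module.compHom (F.presheaf.stalk η) (X.presheaf.stalkSpecializes h).hom
    IsLocalizedModule (H7CDiv.primeOf h).asIdeal.primeCompl (specLin F h) := by
  letI := (X.presheaf.stalkSpecializes h).hom.toAlgebra
  letI := Module.compHom (F.presheaf.stalk η) (X.presheaf.stalkSpecializes h).hom
  obtain ⟨V, hV, hyV, -⟩ := exists_isAffineOpen_mem_and_subset (x := y) (U := ⊤) trivial
  have hηV : η ∈ V := h.mem_open V.2 hyV
  have hout : ∀ a : X.presheaf.stalk y, a ∈ (H7CDiv.primeOf h).asIdeal.primeCompl →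
      IsUnit (X.presheaf.stalkSpecializes h a) := fun a ha => by
    by_contra hc
    exact ha ((mem_maximalIdeal _).2 hc)
  have hin : ∀ a : X.presheaf.stalk y, IsUnit (X.presheaf.stalkSpecializes h a) →
      a ∈ (H7CDiv.primeOf h).asIdeal.primeCompl := fun a ha hc => (mem_maximalIdeal _).1 hc ha
  refine ⟨fun c => ?_, fun v => ?_, fun {v₁ v₂} he => ?_⟩
  · rw [Module.End.isUnit_iff]
    obtain ⟨u, hu⟩ := hout c.1 c.2
    have hact : ∀ v : F.presheaf.stalk η, (algebraMap (X.presheaf.stalk y)
        (Module.End (X.presheaf.stalk y) (F.presheaf.stalk η)) c.1) v = (u : X.presheaf.stalk η) • v := fun v => by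
      rw [hu]; rfl
    constructor
    · intro v w hvw
      rw [hact, hact] at hvw
      exact u.isUnit.smul_left_cancel.1 hvw
    · intro v
      exact ⟨(↑u⁻¹ : X.presheaf.stalk η) • v, by rw [hact, smul_smul, Units.mul_inv, one_smul]⟩
  · obtain ⟨t, s, ht, hts⟩ := exists_smul_germ_eq F hF hV hηV v
    refine ⟨(F.presheaf.germ V y hyV s, ⟨X.presheaf.germ V y hyV t, hin _ ?_⟩), ?_⟩
    · rw [germ_spec_ring]; exact (isUnit_germ_iff hηV t).2 ht
    · show X.presheaf.stalkSpecializes h (X.presheaf.germ V y hyV t) • v =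
        F.presheaf.stalkSpecializes h (F.presheaf.germ V y hyV s)
      rw [germ_spec_mod, germ_spec_ring, hts]
  · obtain ⟨t, s, ht, hts⟩ := exists_smul_germ_eq F hF hV hyV (v₁ - v₂)
    have h0 : F.presheaf.germ V η hηV s = 0 := by
      rw [← germ_spec_mod F h hyV s, ← hts, spec_smul, map_sub,
        show F.presheaf.stalkSpecializes h v₁ = F.presheaf.stalkSpecializes h v₂ from he, sub_self, smul_zero]
    let zη : V := ⟨η, hηV⟩
    letI := TopCat.Presheaf.algebra_section_stalk X.presheaf zη
    letI := Module.compHom (F.presheaf.stalk zη.1) (algebraMap Γ(X, V) (X.presheaf.stalk zη.1))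
    haveI := H29Fitt.isLocalizedModule_germLin F hF hV zη
    obtain ⟨e, he'⟩ := (IsLocalizedModule.eq_zero_iff (hV.primeIdealOf zη).asIdeal.primeCompl
      (H29Fitt.germLin F zη)).1 h0
    refine ⟨⟨X.presheaf.germ V y hyV e.1 * X.presheaf.germ V y hyV t, hin _ ?_⟩, ?_⟩
    · rw [map_mul, germ_spec_ring, germ_spec_ring]
      refine IsUnit.mul ((isUnit_germ_iff hηV _).2 ?_) (((isUnit_germ_iff hyV t).2 ht).map
        (X.presheaf.stalkSpecializes h).hom |> fun hu => by rw [germ_spec_ring] at hu; exact hu)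
      by_contra hc
      exact e.2 ((mem_primeIdealOf hV hηV e.1).2 hc)
    · rw [← sub_eq_zero]
      show (X.presheaf.germ V y hyV e.1 * X.presheaf.germ V y hyV t) • v₁ -
        (X.presheaf.germ V y hyV e.1 * X.presheaf.germ V y hyV t) • v₂ = 0
      rw [← smul_sub, mul_smul, hts, ← Mero.germ_smul]
      rw [Submonoid.smul_def] at he'
      rw [he', map_zero]

/-- Localisations of stalks at primes are stalks at the corresponding points. -/
theorem depth_localizedModule_stalk (hF : Coh.IsQCoh F) {η y : X} (h : η ⤳ y) :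
    LocCoh.depth (Localization.AtPrime (H7CDiv.primeOf h).asIdeal)
        (LocalizedModule (H7CDiv.primeOf h).asIdeal.primeCompl (F.presheaf.stalk y)) =
      LocCoh.depth (X.presheaf.stalk η) (F.presheaf.stalk η) := by
  letI := (X.presheaf.stalkSpecializes h).hom.toAlgebra
  letI := Module.compHom (F.presheaf.stalk η) (X.presheaf.stalkSpecializes h).hom
  haveI := isLocalizedModule_specLin F hF h
  haveI := H7CDiv.isLocalization_stalkSpecializes h
  let P := (H7CDiv.primeOf h).asIdeal
  let σ := IsLocalization.algEquiv P.primeCompl (Localization.AtPrime P) (X.presheaf.stalk η)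
  letI : Module (Localization.AtPrime P) (F.presheaf.stalk η) := Module.compHom _ σ.toRingEquiv.toRingHom
  haveI : IsScalarTower (X.presheaf.stalk y) (Localization.AtPrime P) (F.presheaf.stalk η) :=
    .of_algebraMap_smul fun r m => by
      show σ (algebraMap _ _ r) • m = r • m
      rw [AlgEquiv.commutes]; rfl
  let e := (IsLocalizedModule.iso P.primeCompl (specLin F h)).extendScalarsOfIsLocalization
    P.primeCompl (Localization.AtPrime P)
  exact H15Site.LocCohDepth.depth_eq_of_semilinear σ.toRingEquiv e.toAddEquiv fun r m => e.map_smul r m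

variable {F}

/-- A regular pair in an ideal at whose primes the depth is two. -/
theorem exists_reg2_stalk [IsLocallyNoetherian X] (hF : Coh.IsCoh F) (y : X)
    (I : Ideal (X.presheaf.stalk y)) (hI : I ≠ ⊤)
    (h : ∀ p : PrimeSpectrum (X.presheaf.stalk y), I ≤ p.asIdeal →
      (2 : ℕ∞) ≤ LocCoh.depth (X.presheaf.stalk (X.fromSpecStalk y p))
        (F.presheaf.stalk (X.fromSpecStalk y p))) :
    ∃ a b : X.presheaf.stalk y, a ∈ I ∧ b ∈ I ∧ Lift.Reg2 a b (F.presheaf.stalk y) := by
  rcases subsingleton_or_nontrivial (F.presheaf.stalk y) with _ | _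
  · exact ⟨0, 0, zero_mem _, zero_mem _, fun _ _ _ => Subsingleton.elim _ _, fun _ _ _ => ⟨0, Subsingleton.elim _ _⟩⟩
  haveI : Module.Finite (X.presheaf.stalk y) (F.presheaf.stalk y) := H06Mod.finite_stalk _ hF.2 y
  have hd : (2 : ℕ∞) ≤ LocCoh.idealDepth I (F.presheaf.stalk y) := by
    rw [H4Depth.idealDepth_eq_iInf_depth_localization]
    refine le_iInf₂ fun p hp => ?_
    have hspec := H7CDiv.fromSpecStalk_specializes p
    have hp' := h p hp
    rw [← depth_localizedModule_stalk F hF.1 hspec] at hp'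
    rw [← H7CDiv.primeOf_fromSpecStalk p hspec]
    exact hp'
  have hne : I • (⊤ : Submodule (X.presheaf.stalk y) (F.presheaf.stalk y)) ≠ ⊤ :=
    (Submodule.top_ne_ideal_smul_of_le_jacobson_annihilator
      ((le_maximalIdeal hI).trans (maximalIdeal_le_jacobson _))).symm
  rw [LocCoh.idealDepth, if_neg hne] at hd
  obtain ⟨rs, hrs⟩ := lt_iSup_iff.1 (lt_of_lt_of_le (by norm_num : (1 : ℕ∞) < 2) hd)
  obtain ⟨⟨hreg, hmem⟩, hlen⟩ := lt_iSup_iff.1 hrs
  match rs, hreg, hmem, hlen with
  | [], _, _, hlen => simp at hlen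
  | [_], _, _, hlen => simp at hlen
  | a :: b :: _, hreg, hmem, _ =>
    rw [RingTheory.Sequence.isWeaklyRegular_cons_iff] at hreg
    obtain ⟨ha, hreg⟩ := hreg
    rw [RingTheory.Sequence.isWeaklyRegular_cons_iff] at hreg
    refine ⟨a, b, hmem a (by simp), hmem b (by simp), ha, fun v w hvw => ?_⟩
    have h0 : (Submodule.Quotient.mk v : QuotSMulTop a (F.presheaf.stalk y)) = 0 := by
      refine hreg.1 ?_
      show b • (Submodule.Quotient.mk v : QuotSMulTop a (F.presheaf.stalk y)) = b • 0
      rw [smul_zero, ← Submodule.Quotient.mk_smul, hvw, Submodule.Quotient.mk_eq_zero]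
      exact Submodule.smul_mem_pointwise_smul _ _ _ trivial
    rw [Submodule.Quotient.mk_eq_zero, Submodule.mem_smul_pointwise_iff_exists] at h0
    obtain ⟨c, -, hc⟩ := h0
    exact ⟨c, hc.symm⟩

/-- An element is torsion with respect to an ideal if it dies at all primes not containing it. -/
theorem isTors_of_forall {B P : Type u} [CommRing B] [AddCommGroup P] [Module B P] (J : Ideal B) (z : P)
    (h : ∀ q : PrimeSpectrum B, ¬ J ≤ q.asIdeal → ∃ s : B, s ∉ q.asIdeal ∧ s • z = 0) : Lift.IsTors J z := by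
  intro g hg
  by_contra hc
  push Not at hc
  obtain ⟨q, hq, hgq⟩ : ∃ q : PrimeSpectrum B, LinearMap.ker (LinearMap.toSpanSingleton B P z) ≤ q.asIdeal ∧
      g ∉ q.asIdeal := by
    by_contra hne
    push Not at hne
    have hgr : g ∈ Ideal.radical (LinearMap.ker (LinearMap.toSpanSingleton B P z)) := by
      rw [Ideal.radical_eq_sInf, Ideal.mem_sInf]
      exact fun {I} hI => hne ⟨I, hI.2⟩ hI.1
    obtain ⟨k, hk⟩ := hgr
    exact hc k hk
  obtain ⟨s, hs, hsz⟩ := h q fun hJ => hgq (hJ hg)
  exact hs (hq hsz)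

end Groth.Agent.H4Rel
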