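import Groth.Agent.H4Rel.RelSPoint
import Groth.Agent.H4Rel.Levels
import Groth.Agent.H4Rel.InfThick
import Groth.Agent.H8Props.NilThickTor

/-!
# Surjectivity of transition maps from the infinitesimal neighbourhoods of a fibre
-/

set_option autoImplicit false
set_option linter.style.haveILetI false
set_option linter.unusedSectionVars false
set_option backward.isDefEq.respectTransparency false
set_option maxHeartbeats 2000000
set_option synthInstance.maxHeartbeats 400000

universe u

open CategoryTheory CategoryTheory.Limits AlgebraicGeometry IsLocalRing TensorProduct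
open Groth.Agent.H16Derived

attribute [local instance] HasDerivedCategory.standard

namespace Groth.Agent.H4Rel

attribute [local instance] H06Mod.stalkAlgebra

/-- The ideal of the generisations of `y` off an open. -/
noncomputable def offIdeal {X : Scheme.{u}} (U : X.Opens) (y : X) : Ideal (X.presheaf.stalk y) :=
  PrimeSpectrum.vanishingIdeal (X.fromSpecStalk y ⁻¹' (U : Set X)ᶜ)

theorem mem_of_not_offIdeal_le {X : Scheme.{u}} (U : X.Opens) (y : X) {q : PrimeSpectrum (X.presheaf.stalk y)}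
    (hq : ¬ offIdeal U y ≤ q.asIdeal) : X.fromSpecStalk y q ∈ U := by
  by_contra hc
  exact hq fun a ha => (PrimeSpectrum.mem_vanishingIdeal _ _).1 ha q hc

theorem notMem_of_offIdeal_le {X : Scheme.{u}} (U : X.Opens) (y : X) {q : PrimeSpectrum (X.presheaf.stalk y)}
    (hq : offIdeal U y ≤ q.asIdeal) : X.fromSpecStalk y q ∉ U := by
  have h : q ∈ PrimeSpectrum.zeroLocus (offIdeal U y : Set (X.presheaf.stalk y)) := hq
  have hc : IsClosed (X.fromSpecStalk y ⁻¹' (U : Set X)ᶜ : Set (PrimeSpectrum (X.presheaf.stalk y))) :=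
    U.2.isClosed_compl.preimage (X.fromSpecStalk y).continuous
  rw [offIdeal, PrimeSpectrum.zeroLocus_vanishingIdeal_eq_closure] at h
  exact hc.closure_subset h

theorem offIdeal_le_maximalIdeal {X : Scheme.{u}} (U : X.Opens) {y : X} (hy : y ∉ U) :
    offIdeal U y ≤ maximalIdeal (X.presheaf.stalk y) := fun a ha => by
  have hc : X.fromSpecStalk y (closedPoint _) ∉ U := by rwa [Scheme.fromSpecStalk_closedPoint]
  exact (PrimeSpectrum.mem_vanishingIdeal _ _).1 ha (closedPoint _) hc

/-- The maximal ideal of the base extends to that of the new base. -/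
theorem map_maximalIdeal_pow_stalkMap {X S X' S' : Scheme.{u}} {f : X ⟶ S} {g : S' ⟶ S} {p : X' ⟶ X} {f' : X' ⟶ S'}
    [IsPreimmersion g] (hp : IsPullback p f' f g) (y' : X') (j : ℕ) :
    ((maximalIdeal (S.presheaf.stalk (f (p y'))) ^ j).map (f.stalkMap (p y')).hom).map (p.stalkMap y').hom =
      (maximalIdeal (S'.presheaf.stalk (f' y')) ^ j).map (f'.stalkMap y').hom := by
  have h := H8Props.NilThick.baseMap_comp hp y'
  have hs : Function.Surjective (H8Props.NilThick.baseMap hp y').hom := by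
    rw [H8Props.NilThick.baseMap, CommRingCat.hom_comp, RingHom.coe_comp]
    exact (g.stalkMap_surjective _).comp (ConcreteCategory.bijective_of_isIso
      ((S.presheaf.stalkCongr (.of_eq (H8Props.NilThick.base_eq hp y'))).hom)).2
  have hm := IsLocalRing.map_maximalIdeal_of_surjective _ hs
  rw [Ideal.map_map, ← CommRingCat.hom_comp]
  erw [h]
  rw [CommRingCat.hom_comp, ← Ideal.map_map, Ideal.map_pow (H8Props.NilThick.baseMap hp y').hom, hm]

variable (A : Type u) [CommRing A] [IsNoetherianRing A] (Y : Scheme.{u}) [Y.Over (Spec (CommRingCat.of A))]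
  [IsProper (Y ↘ Spec (CommRingCat.of A))] (d : ℕ)
  (hd : Cyc.HasRelDim (Y ↘ Spec (CommRingCat.of A)) d)

include hd in
/-- A pair regular modulo every power, from `(S₂)` on the fibre. -/
theorem exists_reg2_powR {R : Y.Modules} (hR : Coh.IsCoh R) (U : Y.Opens)
    (hU : ∀ x : Y, x ∉ U → 2 ≤ fibDim A Y x) (hinv : ∀ x ∈ U, RelCanon.InvertibleAt R x) (y : Y)
    (J : Ideal (Y.presheaf.stalk y)) (hJm : J ≤ maximalIdeal _)
    (hJ : ∀ q, J ≤ PrimeSpectrum.asIdeal q → Y.fromSpecStalk y q ∉ U)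
    (h : RelCanon.RelSkAt (Y ↘ Spec (CommRingCat.of A)) 2 R y) :
    letI := ((Y ↘ Spec (CommRingCat.of A)).stalkMap y).hom.toAlgebra
    ∃ a b, a ∈ J ∧ b ∈ J ∧ ∀ j, Lift.Reg2 a b (R.presheaf.stalk y ⧸
      Lift.powR (A := (Spec (CommRingCat.of A)).presheaf.stalk ((Y ↘ Spec (CommRingCat.of A)) y))
        (B := Y.presheaf.stalk y) (R.presheaf.stalk y) j) := by
  obtain ⟨t, z, rfl⟩ : ∃ t z, (Y ↘ Spec (CommRingCat.of A)).fiberι t z = y :=
    ⟨_, _, (Y ↘ Spec (CommRingCat.of A)).fiberι_asFiber y⟩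
  let f := Y ↘ Spec (CommRingCat.of A)
  haveI := isNoetherian_of_proper A Y
  haveI := H8Props.FieldDim.locallyOfFiniteType_fiberToSpec f t
  haveI : IsLocallyNoetherian (f.fiber t) := LocallyOfFiniteType.isLocallyNoetherian (f.fiberToSpecResidueField t)
  let y := f.fiberι t z
  let B := Y.presheaf.stalk y
  let A₀ := (Spec (CommRingCat.of A)).presheaf.stalk (f y)
  letI : Algebra A₀ B := (f.stalkMap y).hom.toAlgebra
  letI : Module A₀ (R.presheaf.stalk y) := FlatMod.moduleStalkOver f R y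
  haveI : IsScalarTower A₀ B (R.presheaf.stalk y) := .of_algebraMap_smul fun _ _ => rfl
  haveI : Module.Flat A₀ (R.presheaf.stalk y) := h.1
  let C := (f.fiber t).presheaf.stalk z
  have hs : Function.Surjective (algebraMap B C) := (f.fiberι t).stalkMap_surjective z
  have hk : RingHom.ker (algebraMap B C) = (maximalIdeal A₀).map (algebraMap A₀ B) := ker_fiberι_stalkMap f t z
  haveI : IsLocalHom (algebraMap B C) := inferInstanceAs (IsLocalHom ((f.fiberι t).stalkMap z).hom)
  let M := (Scheme.Modules.pullback (f.fiberι t)).obj R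
  have hM : Coh.IsCoh M := isCohPull _ hR
  have hsk : RelCanon.SkAt 2 M z := LeadBrown.Rel.forall_fiber f
    (P := fun t z => RelCanon.RelSkAt f 2 R (f.fiberι t z) →
      RelCanon.SkAt 2 ((Scheme.Modules.pullback (f.fiberι t)).obj R) z)
    (fun y hy => by
      have key : ∀ x, x = y → RelCanon.RelSkAt f 2 R x → RelCanon.RelSkAt f 2 R y := fun x hx hh => hx ▸ hh
      exact (key _ (f.fiberι_asFiber y) hy).2) t z h
  have hJC : J.map (algebraMap B C) ≠ ⊤ := ne_top_of_le_ne_top (maximalIdeal.isMaximal C).ne_top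
    (Ideal.map_le_iff_le_comap.2 fun a ha => map_nonunit (algebraMap B C) a (hJm ha))
  obtain ⟨a, b, ha, hb, hab⟩ := exists_reg2_stalk hM z _ hJC fun q hq => by
    have hw : f.fiberι t ((f.fiber t).fromSpecStalk z q) ∉ U := by
      rw [← Scheme.Hom.comp_apply, ← Scheme.SpecMap_stalkMap_fromSpecStalk, Scheme.Hom.comp_apply]
      exact hJ _ (Ideal.map_le_iff_le_comap.1 hq)
    refine two_le_depth_fibre_of_skAt A Y d hd t hM _
      (skAt_of_specializes 2 _ hM.1 (H7CDiv.fromSpecStalk_specializes q) hsk) (hU _ hw) fun η hη => ?_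
    have hηU : f.fiberι t η ∈ U := by
      by_contra hc
      have := hU _ hc
      rw [hη] at this
      exact absurd this (by decide)
    obtain ⟨eR⟩ := nonempty_stalk_equiv_of_invertibleAt hR.1 (hinv _ hηU)
    let e : M.presheaf.stalk η ≃ₗ[(f.fiber t).presheaf.stalk η] (f.fiber t).presheaf.stalk η :=
      (LinearEquiv.ofBijective _ (H06Mod.pullStalkLin_bijective (f.fiberι t) R η)).symm.trans
        ((TensorProduct.AlgebraTensorModule.congr (LinearEquiv.refl _ _) eR).trans
          (TensorProduct.AlgebraTensorModule.rid (Y.presheaf.stalk (f.fiberι t η)) ((f.fiber t).presheaf.stalk η)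
            ((f.fiber t).presheaf.stalk η)))
    exact e.toEquiv.nontrivial
  obtain ⟨a, ha', rfl⟩ := (Ideal.mem_map_iff_of_surjective _ hs).1 ha
  obtain ⟨b, hb', rfl⟩ := (Ideal.mem_map_iff_of_surjective _ hs).1 hb
  exact ⟨a, b, ha', hb', Lift.reg2_powR (Lift.reg2_quot (A := A₀) hs hk
    (LinearEquiv.ofBijective _ (H06Mod.pullStalkLin_bijective (f.fiberι t) R z)) hab)⟩

variable {ω : Y.Modules}
  (hω : RelCanon.IsDualizingSheaf A Y d ω)
  (hS : RelCanon.IsSkMor (Y ↘ Spec (CommRingCat.of A)) 2)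
  (hG : ∀ y : Y, y ∉ RelCanon.gorLocus (Y ↘ Spec (CommRingCat.of A)) → 2 ≤ fibDim A Y y)

include hd hω hS in
/-- The duals of the reflexive powers factor through free modules off the non-Gorenstein locus. -/
theorem fac_dual_refPowZ (m : ℤ) (U : Y.Opens) (hU : (U : Set Y) = RelCanon.gorLocus (Y ↘ Spec (CommRingCat.of A)))
    (y : Y) : Lift.Fac (offIdeal U y) ((RefHull.dual (RelCanon.refPowZ ω m)).presheaf.stalk y) := by
  let f := Y ↘ Spec (CommRingCat.of A)
  haveI : Flat f := hS.1
  haveI := isNoetherian_of_proper A Y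
  haveI : LocallyOfFinitePresentation f := inferInstance
  obtain rfl : U = ⟨_, S3617.result Y _ f⟩ := TopologicalSpace.Opens.ext hU
  let U : Y.Opens := ⟨_, S3617.result Y _ f⟩
  obtain ⟨G, hG', eG⟩ := exists_refPowZ_eq (isCoh_and_two_le_depth A Y d hd hω).1 m
  let N := RelCanon.refPowZ ω m
  have hN : Coh.IsCoh (RelCanon.refPowZ ω m) := eG.symm ▸ H29Ref.isCoh_ddual G hG'
  let D := RefHull.dual N
  have hD : Coh.IsCoh D := H29Ref.isCoh_dual N hN
  obtain ⟨e₆⟩ := nonempty_restrict_refPowZ U ω m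
  have hL : PicF.IsInvertible (N.restrict U.ι) :=
    H11Tilde.isInvertible_of_iso e₆.symm (isInvertible_refPowZ (isInvertible_restrict_gor A Y d hd hω hS.1) m)
  obtain ⟨c⟩ := nonempty_restrict_dual U N
  have hDU : PicF.IsInvertible (D.restrict U.ι) :=
    H11Tilde.isInvertible_of_iso c.symm (H8Props.DivisorSection.isInvertible_dual hL)
  haveI : Module.Finite (Y.presheaf.stalk y) (D.presheaf.stalk y) := H06Mod.finite_stalk _ hD.2 y
  refine fac_of_rank_one _ fun q hq => ?_
  let η := Y.fromSpecStalk y q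
  have hηy : η ⤳ y := H7CDiv.fromSpecStalk_specializes q
  obtain ⟨e⟩ := nonempty_stalk_equiv_of_invertibleAt hD.1
    (invertibleAt_of_isInvertible_restrict hDU (mem_of_not_offIdeal_le U y hq))
  letI := (Y.presheaf.stalkSpecializes hηy).hom.toAlgebra
  letI := Module.compHom (D.presheaf.stalk η) (Y.presheaf.stalkSpecializes hηy).hom
  haveI : IsScalarTower (Y.presheaf.stalk y) (Y.presheaf.stalk η) (D.presheaf.stalk η) :=
    .of_algebraMap_smul fun _ _ => rfl
  haveI := H7CDiv.isLocalization_stalkSpecializes hηy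
  haveI := isLocalizedModule_specLin D hD.1 hηy
  obtain ⟨φ, v, s, hs, hsv⟩ := exists_rank_one (H7CDiv.primeOf hηy).asIdeal (Bq := Y.presheaf.stalk η)
    (specLin D hηy) (e.restrictScalars (Y.presheaf.stalk y))
  rw [H7CDiv.primeOf_fromSpecStalk q hηy] at hs
  exact ⟨φ, v, s, hs, hsv⟩

include hd hω hS hG in
/-- A transition map is surjective when the reflexive power of the infinitesimal neighbourhood is relatively `(S₂)`. -/
theorem trans_surjective_level (m : ℤ) (U : Y.Opens) (hU : (U : Set Y) = RelCanon.gorLocus (Y ↘ Spec (CommRingCat.of A)))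
    (y : Y) (hyU : y ∉ U) (n : ℕ) (s : Spec (CommRingCat.of A)) (hys : (Y ↘ Spec (CommRingCat.of A)) y = s)
    [IsArtinianRing ((Spec (CommRingCat.of A)).presheaf.stalk s ⧸
      maximalIdeal ((Spec (CommRingCat.of A)).presheaf.stalk s) ^ (n + 1))]
    {Y' : Scheme.{u}} [Y'.Over (Spec (CommRingCat.of ((Spec (CommRingCat.of A)).presheaf.stalk s ⧸
      maximalIdeal ((Spec (CommRingCat.of A)).presheaf.stalk s) ^ (n + 1))))]
    {p : Y' ⟶ Y} (hp : IsPullback p (Y' ↘ Spec (CommRingCat.of ((Spec (CommRingCat.of A)).presheaf.stalk s ⧸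
      maximalIdeal ((Spec (CommRingCat.of A)).presheaf.stalk s) ^ (n + 1))))
      (Y ↘ Spec (CommRingCat.of A)) (thickMap s (n + 1)))
    {ω' : Y'.Modules} (hω' : RelCanon.IsDualizingSheaf ((Spec (CommRingCat.of A)).presheaf.stalk s ⧸
      maximalIdeal ((Spec (CommRingCat.of A)).presheaf.stalk s) ^ (n + 1)) Y' d ω')
    (y' : Y') (hy' : p y' = y)
    (h : RelCanon.RelSkAt (Y' ↘ Spec (CommRingCat.of ((Spec (CommRingCat.of A)).presheaf.stalk s ⧸
      maximalIdeal ((Spec (CommRingCat.of A)).presheaf.stalk s) ^ (n + 1)))) 2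
      (RelCanon.refPowZ ω' m) y')
    {c c' : Y.presheaf.stalk y} (hc : c ∈ offIdeal U y)
    (hcc : letI := ((Y ↘ Spec (CommRingCat.of A)).stalkMap y).hom.toAlgebra
      Lift.Reg2 c c' (Lift.QB (Y.presheaf.stalk y)
        ((Spec (CommRingCat.of A)).presheaf.stalk ((Y ↘ Spec (CommRingCat.of A)) y)) 1)) :
    letI := ((Y ↘ Spec (CommRingCat.of A)).stalkMap y).hom.toAlgebra
    Function.Surjective (Lift.trans (B := Y.presheaf.stalk y)
      ((Spec (CommRingCat.of A)).presheaf.stalk ((Y ↘ Spec (CommRingCat.of A)) y))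
      ((RefHull.dual (RelCanon.refPowZ ω m)).presheaf.stalk y) n) := by
  let f := Y ↘ Spec (CommRingCat.of A)
  subst hy'
  subst hys
  let A₀ := (Spec (CommRingCat.of A)).presheaf.stalk (f (p y'))
  let Ak := A₀ ⧸ maximalIdeal A₀ ^ (n + 1)
  let f' := Y' ↘ Spec (CommRingCat.of Ak)
  haveI : Flat f := hS.1
  haveI : IsProper f' := MorphismProperty.of_isPullback (P := @IsProper) hp inferInstance
  haveI := isNoetherian_of_proper A Y
  haveI := isNoetherian_of_proper Ak Y'
  let y := p y'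
  let B := Y.presheaf.stalk y
  letI : Algebra A₀ B := (f.stalkMap y).hom.toAlgebra
  haveI : Module.Flat A₀ B := Flat.stalkMap f y
  let B' := Y'.presheaf.stalk y'
  have hs : Function.Surjective (algebraMap B B') := stalkMap_thick_surjective hp y'
  haveI : IsLocalHom (algebraMap B B') := inferInstanceAs (IsLocalHom (p.stalkMap y').hom)
  have hk : Lift.powR (A := A₀) (B := B) B (n + 1) = RingHom.ker (algebraMap B B') := by
    rw [show RingHom.ker (algebraMap B B') = (maximalIdeal A₀ ^ (n + 1)).map (f.stalkMap y).hom from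
      ker_stalkMap_thick hp y' rfl, Lift.powR, smul_eq_mul, Ideal.mul_top]
    rfl
  let eQ : Lift.QB B A₀ (n + 1) ≃ₗ[B] B' := (Submodule.quotEquivOfEq _ _ hk).trans
    (Ideal.quotientKerAlgEquivOfSurjective (f := Algebra.ofId B B') hs).toLinearEquiv
  let A₁ := (Spec (CommRingCat.of Ak)).presheaf.stalk (f' y')
  letI : Algebra A₁ B' := (f'.stalkMap y').hom.toAlgebra
  let R' := RelCanon.refPowZ ω' m
  let M := R'.presheaf.stalk y'
  letI : Module B M := Module.compHom M (algebraMap B B')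
  haveI : IsScalarTower B B' M := .of_algebraMap_smul fun _ _ => rfl
  -- the regular pair upstairs
  obtain ⟨G, hG', eG⟩ := exists_refPowZ_eq
    (isCoh_and_two_le_depth Ak Y' d (hasRelDim_of_isPullback hp hd) hω').1 m
  have hR' : Coh.IsCoh (RelCanon.refPowZ ω' m) := eG.symm ▸ H29Ref.isCoh_ddual G hG'
  have hJm : (offIdeal U y).map (algebraMap B B') ≤ maximalIdeal B' :=
    Ideal.map_le_iff_le_comap.2 fun a ha => map_nonunit (algebraMap B B') a (offIdeal_le_maximalIdeal U hyU ha)
  obtain ⟨a, b, ha, hb, hab⟩ := exists_reg2_powR Ak Y' d (hasRelDim_of_isPullback hp hd) hR' (p ⁻¹ᵁ U)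
    (fun x hx => (hG _ fun hh => hx (show p x ∈ (U : Set Y) by rw [hU]; exact hh)).trans (fibDim_le A Y d hd hp x))
    (fun x hx => invertibleAt_bc A Y d hd hω hS hG hp hω' m x
      (invertibleAt_refPowZ_of_gor A Y d hd hω hS m (p x) (hU ▸ (show p x ∈ (U : Set Y) from hx))))
    y' _ hJm (fun q hq => by
      show p (Y'.fromSpecStalk y' q) ∉ U
      rw [← Scheme.Hom.comp_apply, ← Scheme.SpecMap_stalkMap_fromSpecStalk, Scheme.Hom.comp_apply]
      exact notMem_of_offIdeal_le U y (Ideal.map_le_iff_le_comap.1 hq)) h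
  obtain ⟨a, ha', rfl⟩ := (Ideal.mem_map_iff_of_surjective _ hs).1 ha
  obtain ⟨b, hb', rfl⟩ := (Ideal.mem_map_iff_of_surjective _ hs).1 hb
  let N' := Lift.powR (A := A₁) (B := B') M n
  have h1 : Lift.Reg2 a b (M ⧸ N') := ⟨fun v w hvw => (hab n).reg (by
      show algebraMap B B' a • v = algebraMap B B' a • w
      rwa [algebraMap_smul, algebraMap_smul]), fun v w hvw => by
      obtain ⟨r, hr⟩ := (hab n).reg2 v w (by rw [algebraMap_smul, algebraMap_smul, hvw])
      exact ⟨r, by rw [hr, algebraMap_smul]⟩⟩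
  -- compare
  obtain ⟨L⟩ := nonempty_hom_dual_bc A Y d hd hω hS hG hp hω' m y'
  let D := (RefHull.dual (RelCanon.refPowZ ω m)).presheaf.stalk y
  let Θ : (D →ₗ[B] Lift.QB B A₀ (n + 1)) ≃ₗ[B] M := (LinearEquiv.congrRight eQ).trans (L.restrictScalars B)
  let π : (D →ₗ[B] Lift.QB B A₀ (n + 1)) →ₗ[B] M ⧸ N' := (N'.mkQ.restrictScalars B) ∘ₗ Θ.toLinearMap
  have hπ : Function.Surjective π := N'.mkQ_surjective.comp Θ.surjective
  have hN' : N'.restrictScalars B = (maximalIdeal A₀ ^ n).map (algebraMap A₀ B) • (⊤ : Submodule B M) := by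
    show (((maximalIdeal A₁ ^ n).map (f'.stalkMap y').hom) • (⊤ : Submodule B' M)).restrictScalars B = _
    rw [← map_maximalIdeal_pow_stalkMap hp y' n]
    show (((maximalIdeal A₀ ^ n).map (algebraMap A₀ B)).map (algebraMap B B') • (⊤ : Submodule B' M)).restrictScalars B = _
    rw [Ideal.smul_restrictScalars, Submodule.restrictScalars_top]
  have hker : LinearMap.ker π = Lift.powR (A := A₀) (B := B) (D →ₗ[B] Lift.QB B A₀ (n + 1)) n := by
    ext φ
    show (Submodule.Quotient.mk (Θ φ) : M ⧸ N') = 0 ↔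
      φ ∈ (maximalIdeal A₀ ^ n).map (algebraMap A₀ B) • (⊤ : Submodule B (D →ₗ[B] Lift.QB B A₀ (n + 1)))
    rw [Submodule.Quotient.mk_eq_zero, ← Submodule.restrictScalars_mem B, hN']
    have e : ((maximalIdeal A₀ ^ n).map (algebraMap A₀ B) • (⊤ : Submodule B (D →ₗ[B] Lift.QB B A₀ (n + 1)))).map
        Θ.toLinearMap = (maximalIdeal A₀ ^ n).map (algebraMap A₀ B) • (⊤ : Submodule B M) := by
      rw [Submodule.map_smul'', Submodule.map_top, LinearEquiv.range]
    rw [← e]
    exact ⟨fun ⟨ψ, hψ, he⟩ => by rwa [← Θ.injective he], fun hh => ⟨φ, hh, rfl⟩⟩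
  exact Lift.trans_surjective_of_reg2 (fac_dual_refPowZ A Y d hd hω hS m U hU y) hc hcc n ha' hb'
    (h1.congr ((Submodule.quotEquivOfEq _ _ hker.symm).trans (π.quotKerEquivOfSurjective hπ)).symm)

end Groth.Agent.H4Rel
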