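import Groth.Agent.H4Rel.HomLift
import Groth.Agent.H4Rel.StalkSpec

/-!
# Maps from a flat module of depth two on the closed fibre
-/

set_option autoImplicit false
set_option linter.style.haveILetI false
set_option linter.unusedSectionVars false
set_option maxHeartbeats 800000

universe u

open IsLocalRing

namespace Groth.Agent.H4Rel.Lift

variable {A B : Type u} [CommRing A] [CommRing B] [Algebra A B] [IsLocalRing A] [IsLocalRing B]
  [IsLocalHom (algebraMap A B)] [IsNoetherianRing A] [IsNoetherianRing B]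
  {M : Type u} [AddCommGroup M] [Module A M] [Module B M] [IsScalarTower A B M] [Module.Finite B M] [Module.Flat A M]

/-- Regular pairs lift from the closed fibre of a flat module. -/
theorem reg2_of_fibre {x y : B} (h : Reg2 x y (M ⧸ powR (A := A) (B := B) M 1)) : Reg2 x y M := by
  have hP : powR (A := A) (B := B) M 1 = (maximalIdeal A).map (algebraMap A B) • (⊤ : Submodule B M) := by
    rw [powR, pow_one]
  have h' : Reg2 x y (M ⧸ (maximalIdeal A).map (algebraMap A B) • (⊤ : Submodule B M)) :=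
    h.congr (Submodule.quotEquivOfEq _ _ hP)
  obtain ⟨hx, hflat⟩ := H05EGA4.isSMulRegular_and_flat_of_fibre (A := A) (M := M) x h'.reg
  haveI := hflat
  have hy : IsSMulRegular (QuotSMulTop x M ⧸
      (maximalIdeal A).map (algebraMap A B) • (⊤ : Submodule B (QuotSMulTop x M))) y := by
    let e := H05EGA4.quotSMulTopSwap (M := M) x ((maximalIdeal A).map (algebraMap A B))
    refine (e.isSMulRegular_congr y).2 ?_
    intro a b hab
    obtain ⟨a, rfl⟩ := Submodule.Quotient.mk_surjective _ a
    obtain ⟨b, rfl⟩ := Submodule.Quotient.mk_surjective _ b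
    replace hab : (Submodule.Quotient.mk (y • a) : QuotSMulTop x _) = Submodule.Quotient.mk (y • b) := hab
    rw [Submodule.Quotient.eq, Submodule.mem_smul_pointwise_iff_exists] at hab ⊢
    obtain ⟨c, -, hc⟩ := hab
    obtain ⟨d, hd⟩ := h'.reg2 (a - b) c (by rw [hc, smul_sub])
    exact ⟨d, trivial, hd.symm⟩
  have hy' := (H05EGA4.isSMulRegular_and_flat_of_fibre (A := A) (M := QuotSMulTop x M) y hy).1
  refine ⟨hx, fun a b hab => ?_⟩
  have h0 : (Submodule.Quotient.mk a : QuotSMulTop x M) = 0 := hy' (by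
    show y • (Submodule.Quotient.mk a : QuotSMulTop x M) = y • 0
    rw [smul_zero, ← Submodule.Quotient.mk_smul, Submodule.Quotient.mk_eq_zero, hab]
    exact Submodule.smul_mem_pointwise_smul _ _ _ trivial)
  rw [Submodule.Quotient.mk_eq_zero, Submodule.mem_smul_pointwise_iff_exists] at h0
  obtain ⟨c, -, hc⟩ := h0
  exact ⟨c, hc.symm⟩

end Groth.Agent.H4Rel.Lift

namespace Groth.Agent.H4Rel

/-- A map which is bijective off `V(J)`, from depth two to no sections on `V(J)`, is bijective. -/
theorem bijective_of_locally {B L W : Type u} [CommRing B] [AddCommGroup L] [Module B L] [AddCommGroup W]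
    [Module B W] (ψ : L →ₗ[B] W) (J : Ideal B) {a b : B} (ha : a ∈ J) (hb : b ∈ J) (hL : Lift.Reg2 a b L)
    (hW : IsSMulRegular W a)
    (hinj : ∀ q : PrimeSpectrum B, ¬ J ≤ q.asIdeal → ∀ v, ψ v = 0 → ∃ s, s ∉ q.asIdeal ∧ s • v = 0)
    (hsur : ∀ q : PrimeSpectrum B, ¬ J ≤ q.asIdeal → ∀ w, ∃ s, s ∉ q.asIdeal ∧ s • w ∈ LinearMap.range ψ) :
    Function.Bijective ψ := by
  have hi : Function.Injective ψ := (injective_iff_map_eq_zero ψ).2 fun v hv =>
    Lift.eq_zero_of_isTors ha hL.reg (isTors_of_forall J v fun q hq => hinj q hq v hv)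
  refine ⟨hi, fun w => ?_⟩
  have ht : Lift.IsTors J (Submodule.Quotient.mk w : W ⧸ LinearMap.range ψ) := isTors_of_forall J _ fun q hq => by
    obtain ⟨s, hs, hsw⟩ := hsur q hq w
    exact ⟨s, hs, by rwa [← Submodule.Quotient.mk_smul, Submodule.Quotient.mk_eq_zero]⟩
  obtain ⟨k, hk⟩ := ht a ha
  obtain ⟨l, hl⟩ := ht b hb
  rw [← Submodule.Quotient.mk_smul, Submodule.Quotient.mk_eq_zero] at hk hl
  exact hL.mem_range ψ hi hW k l hk hl

end Groth.Agent.H4Rel
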