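import Groth.Agent.H4Rel.LocalExt
import Groth.Agent.H4Rel.TwistAlg
import Groth.Agent.H10Coh.Support
import Groth.Agent.H10Coh.FinType2
import Groth.Agent.H29Ref.ClassMap
import Groth.Agent.H16Derived.TorTest.NhdAmp

/-!
# Spreading and extending bijectivity of maps of coherent modules
-/

set_option autoImplicit false
set_option linter.style.haveILetI false
set_option linter.unusedSectionVars false
set_option backward.isDefEq.respectTransparency false
set_option maxHeartbeats 1000000
set_option synthInstance.maxHeartbeats 400000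

universe u

open CategoryTheory CategoryTheory.Limits AlgebraicGeometry
open Groth.Agent.H16Derived.TorTest Groth.Agent.H4DR.TorAmp
open Groth.Agent.H17.AssPts Groth.Agent.H17.ZDepth

attribute [local instance] HasDerivedCategory.standard

namespace Groth.Agent.H4Rel

variable {X : Scheme.{u}} {F G : X.Modules}

/-- Where a map restricts to an isomorphism it is bijective on stalks. -/
theorem bijective_stalk_of_isIso_restrict (φ : F ⟶ G) (W : X.Opens)
    [IsIso ((Scheme.Modules.restrictFunctor W.ι).map φ)] (x : X) (hx : x ∈ W) :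
    Function.Bijective (RefHull.stalkMapₗ φ x) := by
  haveI : IsIso ((Scheme.Modules.restrictFunctor W.ι ⋙ Scheme.Modules.toPresheaf (W : Scheme.{u}) ⋙
      TopCat.Presheaf.stalkFunctor AddCommGrpCat.{u} (⟨x, hx⟩ : W)).map φ) := by
    rw [Functor.comp_map]; infer_instance
  exact (ConcreteCategory.isIso_iff_bijective _).1
    ((NatIso.isIso_map_iff (Scheme.Modules.restrictStalkNatIso W.ι (⟨x, hx⟩ : W)) φ).1 ‹_›)

/-- A map of coherent modules bijective at a point is so nearby. -/
theorem exists_nhd_bijective [IsLocallyNoetherian X] (φ : F ⟶ G) (hF : Coh.IsCoh F) (hG : Coh.IsCoh G) (x : X)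
    (hx : Function.Bijective (RefHull.stalkMapₗ φ x)) :
    ∃ W : X.Opens, x ∈ W ∧ ∀ y ∈ W, Function.Bijective (RefHull.stalkMapₗ φ y) := by
  have hK : CohB1.IsFT (kernel φ) := (H10Coh.isCoh_kernel φ hF hG.1).2
  have hC : CohB1.IsFT (cokernel φ) := (H10Coh.isCoh_cokernel φ hF.1 hG).2
  obtain ⟨U₁, hxU₁, hU₁⟩ := H10Coh.exists_nhd_germ_eq_zero _ hK x (H10Coh.subsingleton_stalk_kernel φ x hx.1)
  obtain ⟨U₂, hxU₂, hU₂⟩ := H10Coh.exists_nhd_germ_eq_zero _ hC x (H10Coh.subsingleton_stalk_cokernel φ x hx.2)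
  haveI : IsIso ((Scheme.Modules.restrictFunctor (U₁ ⊓ U₂).ι).map φ) := by
    have hm : Mono ((Scheme.Modules.restrictFunctor (U₁ ⊓ U₂).ι).map φ) :=
      H10Coh.mono_restrict_of_isZero_kernel φ _ (H10Coh.restrict_subsingleton _ fun y hy => hU₁ y hy.1)
    have he : Epi ((Scheme.Modules.restrictFunctor (U₁ ⊓ U₂).ι).map φ) :=
      H10Coh.epi_restrict_of_isZero_cokernel φ _ (H10Coh.restrict_subsingleton _ fun y hy => hU₂ y hy.2)
    exact isIso_of_mono_of_epi _
  exact ⟨U₁ ⊓ U₂, ⟨hxU₁, hxU₂⟩, fun y hy => bijective_stalk_of_isIso_restrict φ _ y hy⟩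

/-- Maps on stalks commute with specialisation. -/
theorem stalkMapₗ_spec (φ : F ⟶ G) {η y : X} (h : η ⤳ y) (v : F.presheaf.stalk y) :
    RefHull.stalkMapₗ φ η (F.presheaf.stalkSpecializes h v) = G.presheaf.stalkSpecializes h (RefHull.stalkMapₗ φ y v) := by
  obtain ⟨W, hW, s, rfl⟩ := TopCat.Presheaf.exists_germ_eq F.presheaf v
  rw [germ_spec_mod F h hW, RefHull.stalkMapₗ_germ, RefHull.stalkMapₗ_germ, germ_spec_mod G h hW]

/-- Bijectivity extends from the complement of a closed set of depth two. -/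
theorem bijective_of_bijective_off (φ : F ⟶ G) (hF : Coh.IsQCoh F) (hG : Coh.IsQCoh G) (U : X.Opens)
    (h : ∀ x ∈ U, Function.Bijective (RefHull.stalkMapₗ φ x)) (y : X) (J : Ideal (X.presheaf.stalk y))
    (hJ : ∀ q : PrimeSpectrum (X.presheaf.stalk y), ¬ J ≤ q.asIdeal → X.fromSpecStalk y q ∈ U)
    {a b : X.presheaf.stalk y} (ha : a ∈ J) (hb : b ∈ J) (hL : Lift.Reg2 a b (F.presheaf.stalk y))
    {c : X.presheaf.stalk y} (hc : c ∈ J) (hW : IsSMulRegular (G.presheaf.stalk y) c) :
    Function.Bijective (RefHull.stalkMapₗ φ y) := by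
  let ψ := RefHull.stalkMapₗ φ y
  have hsur : ∀ q : PrimeSpectrum (X.presheaf.stalk y), ¬ J ≤ q.asIdeal → ∀ w,
      ∃ s, s ∉ q.asIdeal ∧ s • w ∈ LinearMap.range ψ := by
    intro q hq w
    let η := X.fromSpecStalk y q
    have hηy : η ⤳ y := H7CDiv.fromSpecStalk_specializes q
    letI := (X.presheaf.stalkSpecializes hηy).hom.toAlgebra
    letI := Module.compHom (F.presheaf.stalk η) (X.presheaf.stalkSpecializes hηy).hom
    letI := Module.compHom (G.presheaf.stalk η) (X.presheaf.stalkSpecializes hηy).hom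
    haveI := isLocalizedModule_specLin F hF hηy
    haveI := isLocalizedModule_specLin G hG hηy
    let P := (H7CDiv.primeOf hηy).asIdeal
    obtain ⟨t, ht⟩ := (h η (hJ q hq)).2 (specLin G hηy w)
    obtain ⟨⟨v, s⟩, hvs⟩ := IsLocalizedModule.surj P.primeCompl (specLin F hηy) t
    have h1 : specLin G hηy ((s : X.presheaf.stalk y) • w) = specLin G hηy (ψ v) := by
      rw [map_smul]
      show (s : X.presheaf.stalk y) • specLin G hηy w = G.presheaf.stalkSpecializes hηy (RefHull.stalkMapₗ φ y v)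
      rw [← stalkMapₗ_spec φ hηy v, ← ht]
      show (X.presheaf.stalkSpecializes hηy s.1) • RefHull.stalkMapₗ φ η t = _
      rw [← map_smul]
      exact congrArg _ hvs
    obtain ⟨e, he⟩ := (IsLocalizedModule.eq_iff_exists P.primeCompl (specLin G hηy)).1 h1
    refine ⟨(e : X.presheaf.stalk y) * s, ?_, (e : X.presheaf.stalk y) • v, ?_⟩
    · rw [← H7CDiv.primeOf_fromSpecStalk q hηy]
      exact P.primeCompl.mul_mem e.2 s.2
    · rw [map_smul, mul_smul]
      exact he.symm
  have hinj : ∀ q : PrimeSpectrum (X.presheaf.stalk y), ¬ J ≤ q.asIdeal → ∀ v, ψ v = 0 →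
      ∃ s, s ∉ q.asIdeal ∧ s • v = 0 := by
    intro q hq v hv
    let η := X.fromSpecStalk y q
    have hηy : η ⤳ y := H7CDiv.fromSpecStalk_specializes q
    letI := (X.presheaf.stalkSpecializes hηy).hom.toAlgebra
    letI := Module.compHom (F.presheaf.stalk η) (X.presheaf.stalkSpecializes hηy).hom
    haveI := isLocalizedModule_specLin F hF hηy
    have h0 : specLin F hηy v = 0 := (h η (hJ q hq)).1 (by
      show RefHull.stalkMapₗ φ η (F.presheaf.stalkSpecializes hηy v) = RefHull.stalkMapₗ φ η 0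
      rw [stalkMapₗ_spec φ hηy v, show RefHull.stalkMapₗ φ y v = 0 from hv, map_zero, map_zero])
    obtain ⟨e, he⟩ := (IsLocalizedModule.eq_zero_iff (H7CDiv.primeOf hηy).asIdeal.primeCompl (specLin F hηy)).1 h0
    exact ⟨e, by rw [← H7CDiv.primeOf_fromSpecStalk q hηy]; exact e.2, he⟩
  -- `a` is regular on the target
  have haW : IsSMulRegular (G.presheaf.stalk y) a := by
    refine isSMulRegular_iff_right_eq_zero_of_smul.2 fun w hw =>
      Lift.eq_zero_of_isTors hc hW (isTors_of_forall J w fun q hq => ?_)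
    obtain ⟨s, hs, v, hv⟩ := hsur q hq w
    have h0 : ψ (a • v) = 0 := by rw [map_smul, hv, smul_comm, hw, smul_zero]
    obtain ⟨r, hr, hrv⟩ := hinj q hq _ h0
    refine ⟨r * s, fun hm => (q.2.mem_or_mem hm).elim hr hs, ?_⟩
    have : r • v = 0 := hL.reg (show a • r • v = a • 0 by rw [smul_zero, smul_comm, hrv])
    rw [mul_smul, ← hv, ← map_smul, this, map_zero]
  exact bijective_of_locally ψ J ha hb hL haW hinj hsur

/-- Flatness over the base at a point of an open may be checked on the open. -/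
theorem isFlatOverAt_of_restrict {S : Scheme.{u}} (q : X ⟶ S) (W : X.Opens) (M : X.Modules) (w : (W : Scheme.{u}))
    (h : FlatMod.IsFlatOverAt (W.ι ≫ q) (M.restrict W.ι) w) : FlatMod.IsFlatOverAt q M (W.ι.base w) := by
  refine (isFlatOverAt_iff_ta q M (W.ι.base w)).2 ((at_restrict W.ι q 0 0 (sgl M) w).1 ?_)
  exact ta_of_iso (stalkOverIso (W.ι ≫ q) w (DerivedCategory.Q.mapIso
    ((HomologicalComplex.singleMapHomologicalComplex (Scheme.Modules.restrictFunctor W.ι) (ComplexShape.up ℤ) 0).app M))).symm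
    ((isFlatOverAt_iff_ta (W.ι ≫ q) _ w).1 h)

end Groth.Agent.H4Rel
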