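import Groth.Agent.H4Rel.ExtCM
import Groth.Agent.H4Rel.LiftIso
import Groth.Agent.H4Rel.EvStalk
import Groth.Agent.H4Rel.TwistSheaf
import Groth.Agent.H4Rel.DepthThree

/-!
# A flat module with canonical fibre at a Cohen–Macaulay point
-/

set_option autoImplicit false
set_option linter.style.haveILetI false
set_option linter.unusedSectionVars false
set_option backward.isDefEq.respectTransparency false
set_option maxHeartbeats 1000000
set_option synthInstance.maxHeartbeats 400000

universe u

open CategoryTheory CategoryTheory.Limits AlgebraicGeometry IsLocalRing TensorProduct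
open Groth.Agent.H16Derived
open Groth.Agent.H16Derived.KFlat.Stalk (stalkEquiv)

attribute [local instance] HasDerivedCategory.standard

namespace Groth.Agent.H4Rel

attribute [local instance] H06Mod.stalkAlgebra

variable (A : Type u) [CommRing A] [IsNoetherianRing A] (Y : Scheme.{u}) [Y.Over (Spec (CommRingCat.of A))]
  [IsProper (Y ↘ Spec (CommRingCat.of A))] (d : ℕ)
  (hflat : Flat (Y ↘ Spec (CommRingCat.of A)))
  (hd : Cyc.HasRelDim (Y ↘ Spec (CommRingCat.of A)) d) {ω : Y.Modules}
  (hω : RelCanon.IsDualizingSheaf A Y d ω)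

include hflat hd hω in
/-- The dualizing sheaf is flat at the Cohen–Macaulay points. -/
theorem isFlatOverAt_omega_of_cm (y : Y) (hy : MoreMor.IsCMAt (Y ↘ Spec (CommRingCat.of A)) y) :
    FlatMod.IsFlatOverAt (Y ↘ Spec (CommRingCat.of A)) ω y := by
  let f := Y ↘ Spec (CommRingCat.of A)
  haveI : Flat f := hflat
  haveI := QCohD.hasRpush f
  haveI : CompactSpace Y := QuasiCompact.compactSpace_of_compactSpace f
  haveI : QuasiSeparatedSpace Y := quasiSeparatedSpace_of_quasiSeparated f
  haveI := isNoetherian_of_proper A Y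
  haveI : LocallyOfFinitePresentation f := inferInstance
  obtain ⟨hf, a, ⟨adj⟩⟩ := exists_rightAdjoint f
  obtain ⟨O, hO⟩ := exists_unit_obj A
  let U : Y.Opens := ⟨_, (S1341.result f).1⟩
  exact isFlatOverAt_of_restrict f U ω ⟨y, hy⟩
    ((exists_single_on_open A Y d hflat hd hω adj O hO U fun x hx => hx).2 ⟨y, hy⟩)

/-- Cohen–Macaulay points of a morphism are Cohen–Macaulay in their fibres. -/
theorem isCMAt_fiber (t : Spec (CommRingCat.of A)) (z : (Y ↘ Spec (CommRingCat.of A)).fiber t)
    (h : MoreMor.IsCMAt (Y ↘ Spec (CommRingCat.of A)) (((Y ↘ Spec (CommRingCat.of A)).fiberι t) z)) :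
    MoreMor.IsCMAt ((Y ↘ Spec (CommRingCat.of A)).fiberToSpecResidueField t) z := by
  let f := Y ↘ Spec (CommRingCat.of A)
  haveI := isNoetherian_of_proper A Y
  have h1 : LocCoh.IsCohenMacaulayLocalRing ((f.fiber t).presheaf.stalk z) :=
    LeadBrown.Rel.forall_fiber f
      (P := fun t z => MoreMor.IsCMAt f (f.fiberι t z) → LocCoh.IsCohenMacaulayLocalRing ((f.fiber t).presheaf.stalk z))
      (fun y hy => by
        have key : ∀ x, x = y → MoreMor.IsCMAt f x → MoreMor.IsCMAt f y := fun x hx hh => hx ▸ hh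
        exact (key _ (f.fiberι_asFiber y) hy).2) t z h
  haveI := H28Def.flat_of_field (k := (Spec (CommRingCat.of A)).residueField t) (f.fiberToSpecResidueField t)
  haveI := H8Props.FieldDim.locallyOfFiniteType_fiberToSpec f t
  obtain ⟨e⟩ := nonempty_field_fiber_stalk_equiv (K := (Spec (CommRingCat.of A)).residueField t) (f.fiberToSpecResidueField t) z
  exact ⟨Flat.stalkMap (f.fiberToSpecResidueField t) z,
    @H8Props.CMAt.isCohenMacaulayLocalRing_of_ringEquiv _ _ _ _ e.symm h1⟩

variable {L : Y.Modules} (hL : Coh.IsCoh L) (hLf : FlatMod.IsFlatOver (Y ↘ Spec (CommRingCat.of A)) L)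
  (t : Spec (CommRingCat.of A)) (hLt : RelCanon.IsDualizingSheafFib (Y ↘ Spec (CommRingCat.of A)) d L t)
  (z : (Y ↘ Spec (CommRingCat.of A)).fiber t)
  (hz : MoreMor.IsCMAt (Y ↘ Spec (CommRingCat.of A)) (((Y ↘ Spec (CommRingCat.of A)).fiberι t) z))

include hflat hd hω hL hLt hz in
/-- At a Cohen–Macaulay point the fibres of `ω` and of the canonical module agree. -/
theorem nonempty_fibre_stalk_equiv_of_cm :
    Nonempty (((Scheme.Modules.pullback ((Y ↘ Spec (CommRingCat.of A)).fiberι t)).obj L).presheaf.stalk z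
      ≃ₗ[((Y ↘ Spec (CommRingCat.of A)).fiber t).presheaf.stalk z]
        ((Scheme.Modules.pullback ((Y ↘ Spec (CommRingCat.of A)).fiberι t)).obj ω).presheaf.stalk z) := by
  let f := Y ↘ Spec (CommRingCat.of A)
  haveI : Flat f := hflat
  haveI := isNoetherian_of_proper A Y
  haveI : LocallyOfFinitePresentation f := inferInstance
  let K := (Spec (CommRingCat.of A)).residueField t
  letI : (f.fiber t).Over (Spec (CommRingCat.of K)) := ⟨f.fiberToSpecResidueField t⟩
  haveI : IsProper (f.fiber t ↘ Spec (CommRingCat.of K)) :=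
    MorphismProperty.pullback_snd (P := @IsProper) _ _ inferInstance
  haveI := isNoetherian_of_proper K (f.fiber t)
  have hsq : IsPullback (f.fiberι t) (f.fiber t ↘ Spec (CommRingCat.of K)) f
      ((Spec (CommRingCat.of A)).fromSpecResidueField t) := IsPullback.of_hasPullback _ _
  let U : Y.Opens := ⟨_, (S1341.result f).1⟩
  obtain ⟨e⟩ := nonempty_restrict_bc A Y d hflat hd hω hsq U (fun y hy => hy)
    (show RelCanon.IsDualizingSheaf K (f.fiber t) d _ from hLt)
  exact nonempty_stalk_equiv_of_restrict (isCohPull _ hL) (isCohPull _ (isCoh_and_two_le_depth A Y d hd hω).1) e.symm hz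

include hflat hd hω hL hLf hLt hz in
/-- At a Cohen–Macaulay point a flat module with canonical fibre is isomorphic to `ω`. -/
theorem nonempty_stalk_equiv_of_cm :
    Nonempty (L.presheaf.stalk (((Y ↘ Spec (CommRingCat.of A)).fiberι t) z)
      ≃ₗ[Y.presheaf.stalk (((Y ↘ Spec (CommRingCat.of A)).fiberι t) z)]
        ω.presheaf.stalk (((Y ↘ Spec (CommRingCat.of A)).fiberι t) z)) := by
  let f := Y ↘ Spec (CommRingCat.of A)
  haveI : Flat f := hflat
  haveI := isNoetherian_of_proper A Y
  haveI : LocallyOfFinitePresentation f := inferInstance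
  let K := (Spec (CommRingCat.of A)).residueField t
  letI : (f.fiber t).Over (Spec (CommRingCat.of K)) := ⟨f.fiberToSpecResidueField t⟩
  haveI : IsProper (f.fiber t ↘ Spec (CommRingCat.of K)) :=
    MorphismProperty.pullback_snd (P := @IsProper) _ _ inferInstance
  haveI := isNoetherian_of_proper K (f.fiber t)
  have hsq : IsPullback (f.fiberι t) (f.fiber t ↘ Spec (CommRingCat.of K)) f
      ((Spec (CommRingCat.of A)).fromSpecResidueField t) := IsPullback.of_hasPullback _ _
  obtain ⟨hcoh, -⟩ := isCoh_and_two_le_depth A Y d hd hω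
  let y := f.fiberι t z
  let B := Y.presheaf.stalk y
  let A₀ := (Spec (CommRingCat.of A)).presheaf.stalk (f y)
  letI : Algebra A₀ B := (f.stalkMap y).hom.toAlgebra
  haveI : IsLocalHom (algebraMap A₀ B) := inferInstanceAs (IsLocalHom (f.stalkMap y).hom)
  let C := (f.fiber t).presheaf.stalk z
  have hs : Function.Surjective (algebraMap B C) := (f.fiberι t).stalkMap_surjective z
  have hk : RingHom.ker (algebraMap B C) = (maximalIdeal A₀).map (algebraMap A₀ B) := ker_fiberι_stalkMap f t z
  let Ly := L.presheaf.stalk y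
  let Wy := ω.presheaf.stalk y
  letI : Module A₀ Ly := FlatMod.moduleStalkOver f L y
  letI : Module A₀ Wy := FlatMod.moduleStalkOver f ω y
  haveI : IsScalarTower A₀ B Ly := .of_algebraMap_smul fun _ _ => rfl
  haveI : IsScalarTower A₀ B Wy := .of_algebraMap_smul fun _ _ => rfl
  haveI : Module.Flat A₀ Ly := hLf y
  haveI : Module.Flat A₀ Wy := isFlatOverAt_omega_of_cm A Y d hflat hd hω y hz
  haveI : Module.Finite B Ly := H06Mod.finite_stalk _ hL.2 y
  haveI : Module.Finite B Wy := H06Mod.finite_stalk _ hcoh.2 y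
  obtain ⟨eC⟩ := nonempty_fibre_stalk_equiv_of_cm A Y d hflat hd hω hL t hLt z hz
  let EL := LinearEquiv.ofBijective _ (H06Mod.pullStalkLin_bijective (f.fiberι t) L z)
  let EW := LinearEquiv.ofBijective _ (H06Mod.pullStalkLin_bijective (f.fiberι t) ω z)
  let e : C ⊗[B] Ly ≃ₗ[C] C ⊗[B] Wy := EL.trans (eC.trans EW.symm)
  let T := eC.trans EW.symm
  have hE : Extends C (C ⊗[B] Wy) (C ⊗[B] Wy) :=
    extends_of_semilinear (RingEquiv.refl C) T.toAddEquiv (fun r v => map_smul T r v)
      (extends_stalk K (f.fiber t) d (H28Def.flat_of_field _) (hasRelDim_of_isPullback hsq hd)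
        (show RelCanon.IsDualizingSheaf K (f.fiber t) d _ from hLt) z (isCMAt_fiber A Y t z hz))
  let qL := Lift.fibreQuot (A := A₀) (M := Ly) hs hk
  let qW := Lift.fibreQuot (A := A₀) (M := Wy) hs hk
  let φ := qL.symm.trans ((e.restrictScalars B).trans qW)
  obtain ⟨α, hα⟩ := Lift.exists_hom_lift (A := A₀) (Lift.extends_reduce hs hk e hE)
    (φ.toLinearMap ∘ₗ (Lift.powR (A := A₀) (B := B) Ly 1).mkQ)
  exact ⟨LinearEquiv.ofBijective α (Lift.bijective_of_fibre (A := A₀) φ α hα)⟩

include hflat hd hω hL hLf hLt hz in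
/-- At a Cohen–Macaulay point `𝓗om(L, ω)` is invertible and evaluation is bijective. -/
theorem invertibleAt_and_bijective_of_cm :
    RelCanon.InvertibleAt (RefHull.homSh L ω) (((Y ↘ Spec (CommRingCat.of A)).fiberι t) z) ∧
      Function.Bijective (RefHull.stalkMapₗ (evMap L ω) (((Y ↘ Spec (CommRingCat.of A)).fiberι t) z)) := by
  let f := Y ↘ Spec (CommRingCat.of A)
  haveI := isNoetherian_of_proper A Y
  obtain ⟨hcoh, -⟩ := isCoh_and_two_le_depth A Y d hd hω
  let y := f.fiberι t z
  let B := Y.presheaf.stalk y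
  obtain ⟨α⟩ := nonempty_stalk_equiv_of_cm A Y d hflat hd hω hL hLf t hLt z hz
  let sp := LinearEquiv.ofBijective (LinearMap.toSpanSingleton B _ LinearMap.id)
    (bijective_smul_stalk A Y d hflat hd hω y hz)
  let evE := LinearEquiv.ofBijective (RefHull.evalStalk L ω y)
    (H29Ref.evalStalk_bijective L ω (H10Coh.isFP_of_isCoh L hL) y)
  let b : (RefHull.homSh L ω).presheaf.stalk y ≃ₗ[B] B :=
    evE.trans ((LinearEquiv.congrLeft (ω.presheaf.stalk y) B α).trans sp.symm)
  refine ⟨H29Ref.exists_iso_of_isFreeOfRankNear_one _ _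
    (H8Props.FunDescent.isFreeOfRankNear_of_stalkFree_of_isFP _
      (H10Coh.isFP_of_isCoh _ (H29Ref.isCoh_homSh L ω hL hcoh)) ⟨(Module.Basis.singleton (Fin 1) B).map b.symm⟩), ?_⟩
  let E := stalkEquiv L (RefHull.homSh L ω) y
  refine (Function.Bijective.of_comp_iff _ E.bijective).1 (bijective_pairing
    (RefHull.stalkMapₗ (evMap L ω) y ∘ₗ E.toLinearMap) b ?_)
  have hb : RefHull.evalStalk L ω y (b.symm 1) = α.toLinearMap := by
    show evE (evE.symm ((LinearEquiv.congrLeft (ω.presheaf.stalk y) B α).symm (sp 1))) = _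
    rw [evE.apply_symm_apply]
    refine LinearMap.ext fun v => ?_
    show (1 : B) • α v = α v
    rw [one_smul]
  have : (fun v => (RefHull.stalkMapₗ (evMap L ω) y ∘ₗ E.toLinearMap) (v ⊗ₜ b.symm 1)) = α := funext fun v => by
    show RefHull.stalkMapₗ (evMap L ω) y (E (v ⊗ₜ b.symm 1)) = α v
    rw [evMap_stalk, hb]; rfl
  rw [this]
  exact α.bijective

end Groth.Agent.H4Rel
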